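import Cfsg.Agent.H99.Aschbacher.Algebra

/-!
Forms given by Gram matrices: a form fixed by an absolutely irreducible group is unique up to a scalar, so a
group normalising it lies in a similarity group of a symplectic, unitary or quadratic form.
-/

set_option autoImplicit false

open scoped MatrixGroups Matrix

namespace Cfsg.Agent.H99.Asch

open Cfsg.Geo

variable {ι : Type} [Fintype ι] [DecidableEq ι] {F : Type*} [Field F]

/-- The form with Gram matrix G, σ-semilinear in the second variable. -/
def gramForm (σ : F →+* F) (G : Matrix ι ι F) (u v : ι → F) : F := u ⬝ᵥ (G *ᵥ (σ ∘ v))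

/-- Every member of R is an isometry of the form with Gram matrix G. -/
def FixesGram (σ : F →+* F) (G : Matrix ι ι F) (R : Subgroup (GL ι F)) : Prop :=
  ∀ s ∈ R, (s : Matrix ι ι F)ᵀ * G * (s : Matrix ι ι F).map σ = G

/-- H lies in the similarity group of a symplectic, unitary or (in odd order) quadratic form. -/
def InForms (H : Subgroup (GL ι F)) [Fintype F] : Prop :=
  (∃ f : (ι → F) → (ι → F) → F, IsSymplecticForm f ∧ H ≤ similarityGroup f) ∨
  (∃ (σ : F ≃+* F) (f : (ι → F) → (ι → F) → F), IsUnitaryForm σ f ∧ H ≤ similarityGroup f) ∨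
  (∃ Q : (ι → F) → F, IsNondegenerateQuadraticForm Q ∧ Odd (Fintype.card F) ∧ H ≤ quadSimilarityGroup Q)

lemma comp_mulVec (σ : F →+* F) (M : Matrix ι ι F) (v : ι → F) : σ ∘ (M *ᵥ v) = M.map σ *ᵥ (σ ∘ v) :=
  funext fun i => RingHom.map_mulVec σ M v i

lemma gramForm_mulVec (σ : F →+* F) (G M : Matrix ι ι F) (u v : ι → F) :
    gramForm σ G (M *ᵥ u) (M *ᵥ v) = gramForm σ (Mᵀ * G * M.map σ) u v := by
  rw [gramForm, gramForm, comp_mulVec, ← Matrix.vecMul_transpose, ← Matrix.dotProduct_mulVec,
    Matrix.mulVec_mulVec, Matrix.mulVec_mulVec]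

lemma gramForm_smul_gram (σ : F →+* F) (c : F) (G : Matrix ι ι F) (u v : ι → F) :
    gramForm σ (c • G) u v = c * gramForm σ G u v := by
  rw [gramForm, gramForm, Matrix.smul_mulVec, dotProduct_smul, smul_eq_mul]

lemma gramForm_add_left (σ : F →+* F) (G : Matrix ι ι F) (x y v : ι → F) :
    gramForm σ G (x + y) v = gramForm σ G x v + gramForm σ G y v := add_dotProduct _ _ _

lemma gramForm_smul_left (σ : F →+* F) (G : Matrix ι ι F) (c : F) (x v : ι → F) :
    gramForm σ G (c • x) v = c * gramForm σ G x v := by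
  rw [gramForm, gramForm, smul_dotProduct, smul_eq_mul]

lemma gramForm_add_right (σ : F →+* F) (G : Matrix ι ι F) (v x y : ι → F) :
    gramForm σ G v (x + y) = gramForm σ G v x + gramForm σ G v y := by
  have : σ ∘ (x + y) = σ ∘ x + σ ∘ y := funext fun i => by simp
  rw [gramForm, gramForm, gramForm, this, Matrix.mulVec_add, dotProduct_add]

lemma gramForm_smul_right (σ : F →+* F) (G : Matrix ι ι F) (c : F) (v x : ι → F) :
    gramForm σ G v (c • x) = σ c * gramForm σ G v x := by
  have : σ ∘ (c • x) = σ c • (σ ∘ x) := funext fun i => by simp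
  rw [gramForm, gramForm, this, Matrix.mulVec_smul, dotProduct_smul, smul_eq_mul]

/-- A form additive in both variables, linear in the first and σ-semilinear in the second has a Gram matrix. -/
lemma eq_gramForm (σ : F →+* F) {f : (ι → F) → (ι → F) → F}
    (al : ∀ x y v, f (x + y) v = f x v + f y v) (sl : ∀ (c : F) x v, f (c • x) v = c * f x v)
    (ar : ∀ v x y, f v (x + y) = f v x + f v y) (sr : ∀ (c : F) v x, f v (c • x) = σ c * f v x)
    (u v : ι → F) : f u v = gramForm σ (gramMatrix f) u v := by
  have hu : ∀ w, f u w = ∑ i, u i * f (Pi.single i 1) w := by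
    intro w
    let L : (ι → F) →ₗ[F] F :=
      { toFun := fun x => f x w, map_add' := fun x y => al x y w, map_smul' := fun c x => sl c x w }
    show L u = _
    conv_lhs => rw [pi_eq_sum_univ' u]
    simp only [map_sum, map_smul, smul_eq_mul]
    rfl
  have hv : ∀ i, f (Pi.single i 1) v = ∑ j, f (Pi.single i 1) (Pi.single j 1) * σ (v j) := by
    intro i
    let L : (ι → F) →+ F := AddMonoidHom.mk' (fun x => f (Pi.single i 1) x) (ar _)
    show L v = _
    conv_lhs => rw [pi_eq_sum_univ' v]
    simp only [map_sum]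
    refine Finset.sum_congr rfl fun j _ => ?_
    show f (Pi.single i 1) (v j • Pi.single j 1) = _
    rw [sr, mul_comm]
  rw [hu]
  simp only [gramForm, dotProduct, Matrix.mulVec, hv, gramMatrix, Function.comp_apply]

lemma eq_of_gramForm_eq (σ : F →+* F) {G G' : Matrix ι ι F}
    (h : ∀ u v, gramForm σ G u v = gramForm σ G' u v) : G = G' := by
  ext i j
  have := h (Pi.single i 1) (Pi.single j 1)
  have e : σ ∘ (Pi.single j (1 : F)) = Pi.single j 1 := by
    funext k; by_cases hk : k = j <;> simp [hk]
  simpa [gramForm, e] using this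

lemma fixesGram_of_fixesForm (σ : F →+* F) {f : (ι → F) → (ι → F) → F} {R : Subgroup (GL ι F)}
    (al : ∀ x y v, f (x + y) v = f x v + f y v) (sl : ∀ (c : F) x v, f (c • x) v = c * f x v)
    (ar : ∀ v x y, f v (x + y) = f v x + f v y) (sr : ∀ (c : F) v x, f v (c • x) = σ c * f v x)
    (hf : FixesForm (matrixSet R) f) : FixesGram σ (gramMatrix f) R := by
  intro s hs
  apply eq_of_gramForm_eq σ
  intro u v
  rw [← gramForm_mulVec, ← eq_gramForm σ al sl ar sr, ← eq_gramForm σ al sl ar sr]
  exact hf _ ⟨s, hs, rfl⟩ u v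

lemma fixesGram_inv {σ : F →+* F} {G : Matrix ι ι F} {R : Subgroup (GL ι F)} (h : FixesGram σ G R)
    {s : GL ι F} (hs : s ∈ R) :
    G * (s : Matrix ι ι F).map σ = ((s⁻¹ : GL ι F) : Matrix ι ι F)ᵀ * G := by
  conv_rhs => rw [← h s hs]
  simp only [← mul_assoc]
  rw [← Matrix.transpose_mul, ← Units.val_mul, mul_inv_cancel, Units.val_one, Matrix.transpose_one, one_mul]

/-- A non-zero Gram matrix fixed by an irreducible group is invertible. -/
lemma isUnit_gram [Finite F] (σ : F →+* F) {G : Matrix ι ι F} {R : Subgroup (GL ι F)}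
    (hR : ActsIrreducibly (matrixSet R)) (hG : FixesGram σ G R) (h0 : G ≠ 0) : IsUnit G := by
  let W : Submodule F (ι → F) :=
    { carrier := {v | G *ᵥ (σ ∘ v) = 0}
      add_mem' := fun {x y} hx hy => by
        have : σ ∘ (x + y) = σ ∘ x + σ ∘ y := funext fun i => by simp
        show G *ᵥ (σ ∘ (x + y)) = 0
        rw [this, Matrix.mulVec_add, hx, hy, add_zero]
      zero_mem' := by
        show G *ᵥ (σ ∘ (0 : ι → F)) = 0
        rw [show σ ∘ (0 : ι → F) = 0 from funext fun i => by simp, Matrix.mulVec_zero]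
      smul_mem' := fun c x hx => by
        have : σ ∘ (c • x) = σ c • (σ ∘ x) := funext fun i => by simp
        show G *ᵥ (σ ∘ (c • x)) = 0
        rw [this, Matrix.mulVec_smul, hx, smul_zero] }
  have hW : IsInv (matrixSet R) W := by
    rintro _ ⟨s, hs, rfl⟩ v hv
    show G *ᵥ (σ ∘ _) = 0
    rw [comp_mulVec, Matrix.mulVec_mulVec, fixesGram_inv hG hs, ← Matrix.mulVec_mulVec,
      show G *ᵥ (σ ∘ v) = 0 from hv, Matrix.mulVec_zero]
  have hσ : Function.Bijective σ := Finite.injective_iff_bijective.1 σ.injective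
  rcases actsIrreducibly_iff.1 hR W hW with h | h
  · rw [← Matrix.mulVec_injective_iff_isUnit]
    intro a b hab
    obtain ⟨c, hc⟩ : ∃ c, σ ∘ c = a - b :=
      ⟨fun i => (hσ.2 ((a - b) i)).choose, funext fun i => (hσ.2 ((a - b) i)).choose_spec⟩
    have : c ∈ W := by
      show G *ᵥ (σ ∘ c) = 0
      rw [hc, Matrix.mulVec_sub]
      exact sub_eq_zero.2 hab
    rw [h, Submodule.mem_bot] at this
    subst this
    rw [← sub_eq_zero, ← hc]
    exact funext fun i => by simp
  · exfalso
    apply h0
    ext i j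
    have : Pi.single j (1 : F) ∈ W := h ▸ Submodule.mem_top
    have e : σ ∘ (Pi.single j (1 : F)) = Pi.single j 1 := by
      funext k; by_cases hk : k = j <;> simp [hk]
    have := congrFun (show G *ᵥ (σ ∘ Pi.single j 1) = 0 from this) i
    simpa [e] using this

/-- The fixed Gram matrix is unique up to a scalar. -/
lemma gram_unique [Finite F] (σ : F →+* F) {G G' : Matrix ι ι F} {R : Subgroup (GL ι F)}
    (hR : ActsAbsolutelyIrreducibly (matrixSet R)) (hG : FixesGram σ G R) (hG' : FixesGram σ G' R)
    (h0 : G ≠ 0) : ∃ c : F, G' = c • G := by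
  obtain ⟨U, rfl⟩ := isUnit_gram σ hR.1 hG h0
  let X : Matrix ι ι F := ((U⁻¹ : GL ι F) : Matrix ι ι F) * G'
  have hX : ∀ s ∈ R, X * (s : Matrix ι ι F).map σ = (s : Matrix ι ι F).map σ * X := by
    intro s hs
    have h2 : ((U⁻¹ : GL ι F) : Matrix ι ι F) * ((s⁻¹ : GL ι F) : Matrix ι ι F)ᵀ =
        (s : Matrix ι ι F).map σ * ((U⁻¹ : GL ι F) : Matrix ι ι F) := by
      have h1 := fixesGram_inv hG hs
      have h3 := congrArg (fun M => ((U⁻¹ : GL ι F) : Matrix ι ι F) * M * ((U⁻¹ : GL ι F) : Matrix ι ι F)) h1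
      simp only [← mul_assoc] at h3
      rw [← Units.val_mul, inv_mul_cancel, Units.val_one, one_mul] at h3
      rw [h3, mul_assoc, ← Units.val_mul, mul_inv_cancel, Units.val_one, mul_one]
    show _ * G' * _ = _ * (_ * G')
    rw [mul_assoc, fixesGram_inv hG' hs, ← mul_assoc, h2, mul_assoc]
  have hσ : Function.Bijective σ := Finite.injective_iff_bijective.1 σ.injective
  let Y : Matrix ι ι F := Matrix.of fun i j => (hσ.2 (X i j)).choose
  have hY : Y.map σ = X := by
    ext i j
    exact (hσ.2 (X i j)).choose_spec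
  obtain ⟨c, hc⟩ := hR.2 Y (by
    rintro _ ⟨s, hs, rfl⟩
    apply Matrix.map_injective σ.injective
    show (Y * (s : Matrix ι ι F)).map σ = ((s : Matrix ι ι F) * Y).map σ
    rw [Matrix.map_mul, Matrix.map_mul, hY]
    exact hX s hs)
  refine ⟨σ c, ?_⟩
  have hXc : X = σ c • (1 : Matrix ι ι F) := by
    rw [← hY, hc]
    ext i j
    simp only [Matrix.map_apply, Matrix.smul_apply, smul_eq_mul, map_mul, Matrix.one_apply]
    split_ifs <;> simp
  have h4 := congrArg (fun M => (U : Matrix ι ι F) * M) hXc
  simp only [X, ← mul_assoc] at h4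
  rw [← Units.val_mul, mul_inv_cancel, Units.val_one, one_mul, mul_smul_comm, mul_one] at h4
  exact h4

/-- A group normalising R multiplies the fixed Gram matrix by non-zero scalars. -/
lemma gram_similar [Finite F] (σ : F →+* F) {G : Matrix ι ι F} {H R : Subgroup (GL ι F)}
    (hn : ∀ h ∈ H, ∀ x ∈ R, h * x * h⁻¹ ∈ R)
    (hR : ActsAbsolutelyIrreducibly (matrixSet R)) (hG : FixesGram σ G R) (h0 : G ≠ 0)
    {h : GL ι F} (hh : h ∈ H) :
    ∃ c : Fˣ, ∀ u v, gramForm σ G ((h : Matrix ι ι F) *ᵥ u) ((h : Matrix ι ι F) *ᵥ v) =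
      (c : F) * gramForm σ G u v := by
  let G' : Matrix ι ι F := (h : Matrix ι ι F)ᵀ * G * (h : Matrix ι ι F).map σ
  have hG' : FixesGram σ G' R := by
    intro s hs
    apply eq_of_gramForm_eq σ
    intro u v
    rw [← gramForm_mulVec, ← gramForm_mulVec, ← gramForm_mulVec]
    have e : ∀ w, (h : Matrix ι ι F) *ᵥ ((s : Matrix ι ι F) *ᵥ w) =
        ((h * s * h⁻¹ : GL ι F) : Matrix ι ι F) *ᵥ ((h : Matrix ι ι F) *ᵥ w) := by
      intro w
      rw [Matrix.mulVec_mulVec, Matrix.mulVec_mulVec, ← Units.val_mul, ← Units.val_mul,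
        inv_mul_cancel_right]
    rw [e, e, gramForm_mulVec σ G ((h * s * h⁻¹ : GL ι F) : Matrix ι ι F), hG _ (hn h hh s hs)]
  obtain ⟨c, hc⟩ := gram_unique σ hR hG hG' h0
  have hc0 : c ≠ 0 := by
    rintro rfl
    rw [zero_smul] at hc
    obtain ⟨U, rfl⟩ := isUnit_gram σ hR.1 hG h0
    have hu : IsUnit ((h : Matrix ι ι F).map σ) := (Units.isUnit h).map (σ.mapMatrix).toMonoidHom
    have : IsUnit G' := (((Matrix.isUnit_transpose _).2 (Units.isUnit h)).mul (Units.isUnit U)).mul hu
    rw [hc] at this
    rcases isEmpty_or_nonempty ι with hι | hι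
    · exact h0 (Subsingleton.elim _ _)
    · exact not_isUnit_zero this
  refine ⟨Units.mk0 c hc0, fun u v => ?_⟩
  rw [gramForm_mulVec, show (h : Matrix ι ι F)ᵀ * G * (h : Matrix ι ι F).map σ = c • G from hc,
    gramForm_smul_gram]
  rfl

lemma gramForm_swap (σ : F →+* F) (hσ : ∀ a, σ (σ a) = a) (G : Matrix ι ι F) (u v : ι → F) :
    σ (gramForm σ G v u) = gramForm σ (G.map σ)ᵀ u v := by
  rw [gramForm, gramForm, RingHom.map_dotProduct, comp_mulVec, Matrix.dotProduct_mulVec,
    dotProduct_comm, ← Matrix.mulVec_transpose]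
  congr 1
  exact funext fun i => hσ (u i)

lemma fixesGram_star {σ : F →+* F} (hσ : ∀ a, σ (σ a) = a) {G : Matrix ι ι F} {R : Subgroup (GL ι F)}
    (hG : FixesGram σ G R) : FixesGram σ (G.map σ)ᵀ R := by
  intro s hs
  apply eq_of_gramForm_eq σ
  intro u v
  rw [← gramForm_mulVec, ← gramForm_swap σ hσ, ← gramForm_swap σ hσ, gramForm_mulVec, hG s hs]

lemma gramForm_nondegenerate [Finite F] (σ : F →+* F) {G : Matrix ι ι F} (hG : IsUnit G) :
    IsNondegenerateForm (gramForm σ G) := by
  intro v hv
  have hσ : Function.Bijective σ := Finite.injective_iff_bijective.1 σ.injective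
  have h2 : Function.Injective G.mulVec := Matrix.mulVec_injective_of_isUnit hG
  constructor
  · have : G *ᵥ (σ ∘ v) ≠ 0 := fun e => hv (funext fun i => σ.injective (by
      have := congrFun (h2 (e.trans (Matrix.mulVec_zero G).symm)) i
      simpa using this))
    obtain ⟨i, hi⟩ := Function.ne_iff.1 this
    exact ⟨Pi.single i 1, by simpa [gramForm] using hi⟩
  · obtain ⟨i, hi⟩ := Function.ne_iff.1 hv
    obtain ⟨w, hw⟩ := (Matrix.mulVec_surjective_iff_isUnit.2 hG) (Pi.single i 1)
    refine ⟨fun j => (hσ.2 (w j)).choose, ?_⟩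
    have : σ ∘ (fun j => (hσ.2 (w j)).choose) = w := funext fun j => (hσ.2 (w j)).choose_spec
    rw [gramForm, this, show G *ᵥ w = _ from hw]
    simpa using hi

/-- A group normalising an absolutely irreducible group that fixes a non-zero Gram matrix is in a similarity group. -/
theorem inForms_of_fixesGram [Fintype F] [Nontrivial ι] (σ : F →+* F) (hσ : ∀ a, σ (σ a) = a)
    {G : Matrix ι ι F} {H R : Subgroup (GL ι F)}
    (hn : ∀ h ∈ H, ∀ x ∈ R, h * x * h⁻¹ ∈ R)
    (hR : ActsAbsolutelyIrreducibly (matrixSet R)) (hG : FixesGram σ G R) (h0 : G ≠ 0) : InForms H := by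
  classical
  by_cases hid : σ = RingHom.id F
  · subst hid
    obtain ⟨l, hl⟩ := gram_unique (RingHom.id F) hR hG (fixesGram_star (fun a => rfl) hG) h0
    have hsw : ∀ u v, gramForm (RingHom.id F) G v u = l * gramForm (RingHom.id F) G u v := by
      intro u v
      rw [← gramForm_smul_gram, ← hl, ← gramForm_swap _ (fun a => rfl)]
      rfl
    set f := gramForm (RingHom.id F) G with hf
    have hbil : IsBilinearForm f :=
      ⟨gramForm_add_left _ G, gramForm_smul_left _ G, gramForm_add_right _ G, gramForm_smul_right _ G⟩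
    have hnd := gramForm_nondegenerate (RingHom.id F) (isUnit_gram _ hR.1 hG h0)
    have hl2 : l * l = 1 := by
      obtain ⟨i₀⟩ := (inferInstance : Nonempty ι)
      obtain ⟨⟨x, hx⟩, -⟩ := hnd (Pi.single i₀ 1) (by simp)
      have h1 := hsw (Pi.single i₀ 1) x
      rw [hsw x (Pi.single i₀ 1)] at h1
      have h2 : (l * l - 1) * f x (Pi.single i₀ 1) = 0 := by linear_combination -h1
      exact sub_eq_zero.1 ((mul_eq_zero.1 h2).resolve_right hx)
    have hsim : H ≤ similarityGroup f := fun h hh => gram_similar _ hn hR hG h0 hh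
    by_cases h2 : (2 : F) = 0
    · -- characteristic two: the form is alternating
      left
      have hl1 : l = 1 := by
        have : (l - 1) * (l - 1) = 0 := by linear_combination hl2 - (l - 1) * h2
        exact sub_eq_zero.1 (mul_self_eq_zero.1 this)
      have hsw' : ∀ u v, f v u = f u v := fun u v => by rw [hsw u v, hl1, one_mul]
      have hself : ∀ x y, f (x + y) (x + y) = f x x + f y y := by
        intro x y
        rw [hbil.add_left, hbil.add_right, hbil.add_right, hsw' x y]
        linear_combination (f x y) * h2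
      let W : Submodule F (ι → F) :=
        { carrier := {v | f v v = 0}
          add_mem' := fun {x y} hx hy => by
            show f _ _ = 0
            rw [hself, show f x x = 0 from hx, show f y y = 0 from hy, add_zero]
          zero_mem' := by
            show f _ _ = 0
            rw [show (0 : ι → F) = (0 : F) • 0 from (zero_smul F _).symm, hbil.smul_left, zero_mul]
          smul_mem' := fun c x hx => by
            show f _ _ = 0
            rw [hbil.smul_left, hbil.smul_right, show f x x = 0 from hx, mul_zero, mul_zero] }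
      have hW : IsInv (matrixSet R) W := by
        rintro _ ⟨s, hs, rfl⟩ v hv
        show f _ _ = 0
        rw [hf, gramForm_mulVec, hG s hs]
        exact hv
      have hWt : W = ⊤ := by
        refine (actsIrreducibly_iff.1 hR.1 W hW).resolve_left fun hb => ?_
        have hinj : Function.Injective fun v : ι → F => f v v := by
          intro x y e
          rw [← sub_eq_zero]
          rw [← Submodule.mem_bot F, ← hb]
          show f (x - y) (x - y) = 0
          have h3 := hself (x - y) y
          rw [sub_add_cancel] at h3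
          linear_combination -h3 + e
        have := Fintype.card_le_of_injective _ hinj
        rw [Fintype.card_fun] at this
        have h4 : Fintype.card F ^ 1 < Fintype.card F ^ Fintype.card ι :=
          Nat.pow_lt_pow_right Fintype.one_lt_card Fintype.one_lt_card
        rw [pow_one] at h4
        omega
      have halt : ∀ v, f v v = 0 := fun v => show v ∈ W from hWt ▸ Submodule.mem_top
      refine ⟨f, ⟨hbil, fun v w => ?_, halt, hnd⟩, hsim⟩
      rw [hsw' w v]
      linear_combination (f w v) * h2
    · have hodd : Odd (Fintype.card F) := by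
        rcases Nat.even_or_odd (Fintype.card F) with he | ho
        · exfalso
          apply h2
          have hc := FiniteField.even_card_iff_char_two.2 (Nat.even_iff.1 he)
          have : CharP F 2 := ringChar.of_eq hc
          exact_mod_cast CharP.cast_eq_zero F 2
        · exact ho
      rcases mul_self_eq_one_iff.1 hl2 with hl1 | hl1
      · -- symmetric
        right; right
        have hsw' : ∀ u v, f v u = f u v := fun u v => by rw [hsw u v, hl1, one_mul]
        have hpol : QuadraticMap.polar (fun v => f v v) = fun u v => 2 * f u v := by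
          funext u v
          simp only [QuadraticMap.polar, hbil.add_left, hbil.add_right, hsw' u v]
          ring
        refine ⟨fun v => f v v, ⟨fun c v => ?_, ?_, ?_⟩, hodd, fun h hh => ?_⟩
        · show f _ _ = _
          rw [hbil.smul_left, hbil.smul_right]; ring
        · rw [hpol]
          constructor <;> intros <;> simp only [hbil.add_left, hbil.add_right, hbil.smul_left, hbil.smul_right] <;>
            ring
        · rw [hpol]
          intro v hv
          obtain ⟨⟨x, hx⟩, ⟨y, hy⟩⟩ := hnd v hv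
          exact ⟨⟨x, mul_ne_zero h2 hx⟩, ⟨y, mul_ne_zero h2 hy⟩⟩
        · obtain ⟨c, hc⟩ := hsim hh
          exact ⟨c, fun v => hc v v⟩
      · -- skew-symmetric
        left
        refine ⟨f, ⟨hbil, fun v w => by rw [hsw w v, hl1, neg_one_mul], fun v => ?_, hnd⟩, hsim⟩
        have h3 := hsw v v
        rw [hl1] at h3
        exact (mul_eq_zero.1 (show (2 : F) * f v v = 0 by linear_combination h3)).resolve_left h2
  · -- unitary
    right; left
    obtain ⟨l, hl⟩ := gram_unique σ hR hG (fixesGram_star hσ hG) h0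
    obtain ⟨a, ha⟩ : ∃ a, σ a ≠ a := by
      by_contra hne
      push Not at hne
      exact hid (RingHom.ext hne)
    obtain ⟨z, hz, hzs⟩ : ∃ z : F, z ≠ 0 ∧ σ z * l = z := by
      by_cases hl1 : l = -1
      · refine ⟨a - σ a, sub_ne_zero.2 (Ne.symm ha), ?_⟩
        rw [map_sub, hσ, hl1]; ring
      · refine ⟨1 + l, fun e => hl1 (by linear_combination e), ?_⟩
        have hll : σ l * l = 1 := by
          have h1 : ((G.map σ)ᵀ.map σ)ᵀ = G := by
            ext i j; simp [hσ]
          rw [hl] at h1
          have h2 : ((l • G).map σ)ᵀ = σ l • (G.map σ)ᵀ := by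
            ext i j; simp
          rw [h2, hl, smul_smul] at h1
          by_contra hne
          apply h0
          have h3 : (σ l * l - 1) • G = 0 := by rw [sub_smul, h1, one_smul, sub_self]
          exact (smul_eq_zero.1 h3).resolve_left (sub_ne_zero.2 hne)
        rw [map_add, map_one, add_mul, one_mul, hll, add_comm]
    have hσ' : Function.Bijective σ := Finite.injective_iff_bijective.1 σ.injective
    let σe : F ≃+* F := RingEquiv.ofBijective σ hσ'
    have hG' : FixesGram σ (z • G) R := by
      intro s hs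
      rw [mul_smul_comm, smul_mul_assoc, hG s hs]
    have h0' : z • G ≠ 0 := smul_ne_zero hz h0
    refine ⟨σe, gramForm σ (z • G), ⟨?_, hσ, gramForm_add_left _ _, gramForm_smul_left _ _, ?_,
      gramForm_nondegenerate σ (isUnit_gram σ hR.1 hG' h0')⟩, fun h hh => gram_similar σ hn hR hG' h0' hh⟩
    · intro e
      exact ha (RingEquiv.congr_fun e a)
    · intro v w
      show _ = σ (gramForm σ (z • G) w v)
      rw [gramForm_swap σ hσ]
      congr 2
      have : ((z • G).map σ)ᵀ = σ z • (G.map σ)ᵀ := by ext i j; simp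
      rw [this, hl, smul_smul, hzs]

lemma gram_ne_zero (σ : F →+* F) [Nonempty ι] {f : (ι → F) → (ι → F) → F}
    (hf : ∀ u v, f u v = gramForm σ (gramMatrix f) u v) (hnd : IsNondegenerateForm f) : gramMatrix f ≠ 0 := by
  intro e
  obtain ⟨i⟩ := ‹Nonempty ι›
  obtain ⟨⟨x, hx⟩, -⟩ := hnd (Pi.single i 1) (by simp)
  apply hx
  rw [hf, e]
  simp [gramForm]

/-- A group normalising an absolutely irreducible group that fixes a form is in a similarity group. -/
theorem inForms_of_fixed [Fintype F] [Nontrivial ι] {H R : Subgroup (GL ι F)}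
    (hn : ∀ h ∈ H, ∀ x ∈ R, h * x * h⁻¹ ∈ R) (hR : ActsAbsolutelyIrreducibly (matrixSet R))
    (h : (∃ Q : (ι → F) → F, IsNondegenerateQuadraticForm Q ∧ FixesQuadForm (matrixSet R) Q) ∨
      (∃ f : (ι → F) → (ι → F) → F, IsSymplecticForm f ∧ FixesForm (matrixSet R) f) ∨
      (∃ (σ : F ≃+* F) (f : (ι → F) → (ι → F) → F), IsUnitaryForm σ f ∧ FixesForm (matrixSet R) f)) :
    InForms H := by
  have hb : ∀ f : (ι → F) → (ι → F) → F, IsBilinearForm f → IsNondegenerateForm f →
      FixesForm (matrixSet R) f → InForms H := fun f hf hnd hfix =>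
    inForms_of_fixesGram (RingHom.id F) (fun a => rfl) hn hR
      (fixesGram_of_fixesForm (RingHom.id F) hf.add_left hf.smul_left hf.add_right hf.smul_right hfix)
      (gram_ne_zero (RingHom.id F) (eq_gramForm (RingHom.id F) hf.add_left hf.smul_left hf.add_right hf.smul_right) hnd)
  rcases h with ⟨Q, hQ, hfix⟩ | ⟨f, hf, hfix⟩ | ⟨σ, f, hf, hfix⟩
  · refine hb _ hQ.polar_bilinear hQ.nondegenerate fun s hs u v => ?_
    simp only [QuadraticMap.polar, ← Matrix.mulVec_add, hfix s hs]
  · exact hb f hf.bilinear hf.nondegenerate hfix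
  · have ar : ∀ v x y, f v (x + y) = f v x + f v y := fun v x y => by
      rw [hf.herm, hf.add_left, map_add, ← hf.herm, ← hf.herm]
    have sr : ∀ (c : F) v x, f v (c • x) = (σ : F →+* F) c * f v x := fun c v x => by
      rw [hf.herm, hf.smul_left, map_mul, ← hf.herm]; rfl
    exact inForms_of_fixesGram (σ : F →+* F) hf.involutive hn hR
      (fixesGram_of_fixesForm _ hf.add_left hf.smul_left ar sr hfix)
      (gram_ne_zero _ (eq_gramForm _ hf.add_left hf.smul_left ar sr) hf.nondegenerate)

end Cfsg.Agent.H99.Asch
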