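import Cfsg.Agent.H99.Aschbacher.Realise
import Cfsg.Agent.H99.Aschbacher.Forms

/-!
The geometric alternatives of Aschbacher's theorem as properties of a group H, and the first reduction: a
non-scalar normal subgroup gives an extension field, a tensor decomposition, or is absolutely irreducible.
-/

set_option autoImplicit false

open scoped MatrixGroups Matrix Kronecker

namespace Cfsg.Agent.H99.Asch

open Cfsg.Geo

variable {ι : Type} [Fintype ι] [DecidableEq ι] {F : Type*} [Field F]

/-- N is a subgroup of H normalised by H. -/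
def NormalIn (H N : Subgroup (GL ι F)) : Prop := N ≤ H ∧ ∀ h ∈ H, ∀ x ∈ N, h * x * h⁻¹ ∈ N

lemma scalars_commute {z : GL ι F} (hz : z ∈ scalars ι F) (g : GL ι F) : z * g = g * z := by
  obtain ⟨c, hc⟩ := (mem_scalars_iff z).1 hz
  apply Units.ext
  rw [Units.val_mul, Units.val_mul, hc, smul_mul_assoc, one_mul, mul_smul_comm, mul_one]

lemma mem_scalars_of_smul {g : GL ι F} {c : F} (h : (g : Matrix ι ι F) = c • (1 : Matrix ι ι F)) :
    g ∈ scalars ι F := by
  rcases isEmpty_or_nonempty ι with hι | hι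
  · exact (mem_scalars_iff g).2 ⟨1, Subsingleton.elim _ _⟩
  · have hc : c ≠ 0 := by
      rintro rfl
      rw [zero_smul] at h
      exact Units.ne_zero g h
    exact (mem_scalars_iff g).2 ⟨Units.mk0 c hc, h⟩

/-- An element commuting with an absolutely irreducible group is a scalar. -/
lemma mem_scalars_of_commute {R : Subgroup (GL ι F)} (hR : ActsAbsolutelyIrreducibly (matrixSet R))
    {g : GL ι F} (h : ∀ x ∈ R, g * x = x * g) : g ∈ scalars ι F := by
  obtain ⟨c, hc⟩ := hR.2 (g : Matrix ι ι F) (by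
    rintro _ ⟨x, hx, rfl⟩
    exact congrArg Units.val (h x hx))
  exact mem_scalars_of_smul hc

lemma absIrred_of_env {R : Subgroup (GL ι F)} (h : env R = ⊤) : ActsAbsolutelyIrreducibly (matrixSet R) :=
  absIrred_of_adjoin h

lemma coe_conj (h : GL ι F) (x : GL ι F) :
    (h : Matrix ι ι F) * (x : Matrix ι ι F) * ((h⁻¹ : GL ι F) : Matrix ι ι F) =
      ((h * x * h⁻¹ : GL ι F) : Matrix ι ι F) := by
  rw [Units.val_mul, Units.val_mul]

/-- Conjugation as an algebra map of the matrix algebra. -/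
def conjHom (h : GL ι F) : Matrix ι ι F →ₐ[F] Matrix ι ι F where
  toFun a := (h : Matrix ι ι F) * a * ((h⁻¹ : GL ι F) : Matrix ι ι F)
  map_one' := by rw [mul_one, ← Units.val_mul, mul_inv_cancel, Units.val_one]
  map_mul' a b := by
    simp only [mul_assoc]
    rw [← mul_assoc ((h⁻¹ : GL ι F) : Matrix ι ι F) (h : Matrix ι ι F), ← Units.val_mul, inv_mul_cancel,
      Units.val_one, one_mul]
  map_zero' := by rw [mul_zero, zero_mul]
  map_add' a b := by rw [mul_add, add_mul]
  commutes' r := by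
    rw [Algebra.algebraMap_eq_smul_one, mul_smul_comm, smul_mul_assoc, mul_one, ← Units.val_mul,
      mul_inv_cancel, Units.val_one]

lemma conjHom_apply (h : GL ι F) (a : Matrix ι ι F) :
    conjHom h a = (h : Matrix ι ι F) * a * ((h⁻¹ : GL ι F) : Matrix ι ι F) := rfl

lemma conjHom_coe (h x : GL ι F) : conjHom h (x : Matrix ι ι F) = ((h * x * h⁻¹ : GL ι F) : Matrix ι ι F) :=
  coe_conj h x

lemma normalises_env {H N : Subgroup (GL ι F)} (hN : ∀ h ∈ H, ∀ x ∈ N, h * x * h⁻¹ ∈ N) :
    Normalises H (env N) := by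
  intro h hh a ha
  have hle : env N ≤ (env N).comap (conjHom h) := env_le_iff.2 fun x hx => by
    show conjHom h (x : Matrix ι ι F) ∈ env N
    rw [conjHom_coe]
    exact coe_mem_env (hN h hh x hx)
  exact hle ha

lemma le_subalgebraNormalizer [Finite F] {H : Subgroup (GL ι F)} {K : Subalgebra F (Matrix ι ι F)}
    (hK : Normalises H K) : H ≤ subalgebraNormalizer K := by
  intro h hh k
  refine ⟨hK h hh k, fun hk => ?_⟩
  have := hK h⁻¹ (H.inv_mem hh) _ hk
  rw [inv_inv] at this
  simp only [← mul_assoc] at this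
  rw [← Units.val_mul, inv_mul_cancel, Units.val_one, one_mul, mul_assoc, ← Units.val_mul, inv_mul_cancel,
    Units.val_one, mul_one] at this
  exact this

lemma pow_mem_fieldSubalgebra_fixed [Fintype F] {r : ℕ} (c : F) :
    c ^ (Fintype.card F ^ r) = c := FiniteField.pow_card_pow r c

/-- A field subalgebra of degree at least two contains one of prime degree with at least the same normaliser. -/
lemma exists_prime_field [Fintype F] [Nonempty ι] {d : ℕ} {K : Subalgebra F (Matrix ι ι F)}
    (hK : IsFieldSubalgebra d K) (hd : d ≠ 1) :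
    ∃ (r : ℕ) (L : Subalgebra F (Matrix ι ι F)), r.Prime ∧ r ∣ d ∧ IsFieldSubalgebra r L ∧ L ≤ K ∧
      ∀ H : Subgroup (GL ι F), Normalises H K → Normalises H L := by
  classical
  have : Nontrivial K := ⟨⟨0, 1, fun e => zero_ne_one (congrArg Subtype.val e)⟩⟩
  have hF : IsField K :=
    { exists_pair_ne := exists_pair_ne _
      mul_comm := fun a b => Subtype.ext (hK.comm a a.2 b b.2)
      mul_inv_cancel := fun {a} ha => by
        obtain ⟨y, hy, hxy⟩ := hK.inv a a.2 (fun e => ha (Subtype.ext e))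
        exact ⟨⟨y, hy⟩, Subtype.ext hxy⟩ }
  let _ : Field K := hF.toField
  let _ : Fintype K := Fintype.ofFinite K
  obtain ⟨p, hp⟩ := CharP.exists F
  obtain ⟨e, hpp, he⟩ := FiniteField.card F p
  have : Fact p.Prime := ⟨hpp⟩
  have : CharP K p := charP_of_injective_ringHom (f := (algebraMap F K)) (algebraMap F K).injective p
  obtain ⟨r, hr, hrd⟩ := Nat.exists_prime_and_dvd hd
  have hcardK : Fintype.card K = p ^ ((e : ℕ) * d) := by
    rw [← Nat.card_eq_fintype_card, Module.natCard_eq_pow_finrank (K := F), hK.finrank_eq,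
      Nat.card_eq_fintype_card, he, ← pow_mul]
  obtain ⟨K', hK'⟩ := exists_subfield (F := K) (d := (e : ℕ) * r) hcardK (Nat.mul_dvd_mul_left _ hrd)
  have hq : Nat.card K' = Fintype.card F ^ r := by rw [hK', he, ← pow_mul]
  have halg : ∀ c : F, algebraMap F K c ∈ K' := by
    intro c
    rw [mem_subfield_iff, hq, ← map_pow, pow_mem_fieldSubalgebra_fixed]
  let L' : Subalgebra F K :=
    { K'.toSubring.toSubsemiring with algebraMap_mem' := halg }
  let L : Subalgebra F (Matrix ι ι F) := L'.map K.val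
  have hmemL : ∀ x, x ∈ L ↔ x ∈ K ∧ x ^ (Fintype.card F ^ r) = x := by
    intro x
    constructor
    · rintro ⟨y, hy, rfl⟩
      refine ⟨y.2, ?_⟩
      have : y ^ Nat.card K' = y := (mem_subfield_iff K' y).1 hy
      rw [hq] at this
      exact congrArg Subtype.val this
    · rintro ⟨hx, hxp⟩
      refine ⟨⟨x, hx⟩, ?_, rfl⟩
      show (⟨x, hx⟩ : K) ∈ K'
      rw [mem_subfield_iff, hq]
      exact Subtype.ext hxp
  have hfin : Module.finrank F L = r := by
    have e1 : Nat.card L = Fintype.card F ^ r := by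
      rw [← hq]
      exact (Nat.card_congr (L'.equivMapOfInjective _ Subtype.val_injective).toEquiv).symm
    rw [Module.natCard_eq_pow_finrank (K := F), Nat.card_eq_fintype_card] at e1
    exact Nat.pow_right_injective Fintype.one_lt_card e1
  refine ⟨r, L, hr, hrd, ⟨fun x hx y hy => hK.comm x ((hmemL x).1 hx).1 y ((hmemL y).1 hy).1, ?_, hfin⟩,
    fun x hx => ((hmemL x).1 hx).1, fun H hH h hh x hx => ?_⟩
  · intro x hx hx0
    obtain ⟨z, hz, rfl⟩ := hx
    refine ⟨((z⁻¹ : K) : Matrix ι ι F), ⟨z⁻¹, K'.inv_mem hz, rfl⟩, ?_⟩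
    exact congrArg Subtype.val (mul_inv_cancel₀ (fun e => hx0 (by rw [e]; rfl) : z ≠ 0))
  · rw [hmemL] at hx ⊢
    refine ⟨hH h hh x hx.1, ?_⟩
    rw [← conjHom_apply, ← map_pow, hx.2]

/-- A tensor frame normalised by H puts H in a tensor product subgroup. -/
lemma le_tensorProductSubgroup {H : Subgroup (GL ι F)} {s t : ℕ} [NeZero s] [NeZero t] (e : ι ≃ Fin s × Fin t)
    (P : GL ι F)
    (hH : ∀ h ∈ H, ∀ a : Matrix (Fin s) (Fin s) F, ∃ b, ((P⁻¹ * h * P : GL ι F) : Matrix ι ι F) * tens e a 1 *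
      (((P⁻¹ * h * P)⁻¹ : GL ι F) : Matrix ι ι F) = tens e b 1) :
    H ≤ tensorProductSubgroup s t e P := by
  intro h hh
  obtain ⟨g, c, hgc⟩ := exists_tens_of_normalises e (P⁻¹ * h * P) (hH h hh)
  have hk : ∃ k ∈ kroneckerSubgroup s t F, glReindex e.symm k = (P⁻¹ * h * P : GL ι F) := by
    refine ⟨(glReindex e.symm).symm (P⁻¹ * h * P), ⟨g, c, ?_⟩, MulEquiv.apply_symm_apply _ _⟩
    show (Matrix.reindexAlgEquiv F F e.symm).symm ((P⁻¹ * h * P : GL ι F) : Matrix ι ι F) = _
    rw [hgc, tens, AlgEquiv.symm_apply_apply]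
  obtain ⟨k, hk, hke⟩ := hk
  exact ⟨P⁻¹ * h * P, ⟨k, hk, hke⟩, by simp [mul_assoc]⟩

/-- A non-scalar normal subgroup of an irreducible primitive group gives an extension field, a tensor
decomposition, or is absolutely irreducible. -/
theorem normal_trichotomy [Fintype F] [Nonempty ι] {H N : Subgroup (GL ι F)}
    (hirr : ActsIrreducibly (matrixSet H)) (hprim : ¬ Imprimitive H) (hN : NormalIn H N)
    (hns : ¬ N ≤ scalars ι F) :
    (∃ (r : ℕ) (K : Subalgebra F (Matrix ι ι F)), r.Prime ∧ IsFieldSubalgebra r K ∧ H ≤ subalgebraNormalizer K) ∨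
    (∃ (n₁ n₂ : ℕ) (e : ι ≃ Fin n₁ × Fin n₂) (P : GL ι F), 2 ≤ n₁ ∧ 2 ≤ n₂ ∧
      H ≤ tensorProductSubgroup n₁ n₂ e P) ∨
    env N = ⊤ := by
  classical
  let A := env N
  have hA : Normalises H A := normalises_env hN.2
  obtain ⟨hunit, hfull⟩ := clifford hirr hprim hA
  let Z : Subalgebra F (Matrix ι ι F) := A ⊓ Subalgebra.centralizer F (A : Set (Matrix ι ι F))
  have hZmem : ∀ z, z ∈ Z ↔ z ∈ A ∧ ∀ a ∈ A, z * a = a * z := by
    intro z
    rw [Algebra.mem_inf, Subalgebra.mem_centralizer_iff]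
    exact and_congr_right fun _ => forall₂_congr fun a _ => eq_comm
  have hZf : IsFieldSubalgebra (Module.finrank F Z) Z :=
    isFieldSubalgebra_of Z fun x hx hx0 => hunit x ((hZmem x).1 hx).1 ((hZmem x).1 hx).2 hx0
  by_cases hd : Module.finrank F Z = 1
  · -- the centre is the field of scalars
    have hZbot : Z = ⊥ := Subalgebra.eq_bot_of_finrank_one hd
    obtain ⟨s, f, hs, hf, hspan⟩ := hfull fun z hz hzc => by
      have : z ∈ Z := (hZmem z).2 ⟨hz, hzc⟩
      rw [hZbot, Algebra.mem_bot] at this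
      obtain ⟨c, rfl⟩ := this
      exact ⟨c, Algebra.algebraMap_eq_smul_one c⟩
    have : NeZero s := ⟨hs.ne'⟩
    obtain ⟨t, e, P, hP⟩ := exists_frame hf
    have hA' : ∀ M, M ∈ A ↔ ∃ a, M = (P : Matrix ι ι F) * tens e a 1 * ((P⁻¹ : GL ι F) : Matrix ι ι F) := by
      intro M
      constructor
      · intro hM
        have hM' : M ∈ Submodule.span F (Set.range (Function.uncurry f)) := by rw [hspan]; exact hM
        induction hM' using Submodule.span_induction with
        | mem x hx => obtain ⟨⟨a, b⟩, rfl⟩ := hx; exact ⟨_, hP a b⟩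
        | zero => exact ⟨0, by rw [← tensL_apply, map_zero, mul_zero, zero_mul]⟩
        | add x y hx' hy' hx hy =>
          obtain ⟨a, rfl⟩ := hx (by rw [← Subalgebra.mem_toSubmodule, ← hspan]; exact hx')
          obtain ⟨b, rfl⟩ := hy (by rw [← Subalgebra.mem_toSubmodule, ← hspan]; exact hy')
          exact ⟨a + b, by rw [← tensL_apply, ← tensL_apply, ← tensL_apply, map_add, mul_add, add_mul]⟩
        | smul c x hx' hx =>
          obtain ⟨a, rfl⟩ := hx (by rw [← Subalgebra.mem_toSubmodule, ← hspan]; exact hx')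
          exact ⟨c • a, by rw [← tensL_apply, ← tensL_apply, map_smul, mul_smul_comm, smul_mul_assoc]⟩
      · rintro ⟨a, rfl⟩
        rw [Matrix.matrix_eq_sum_single a, ← tensL_apply, map_sum, Finset.mul_sum, Finset.sum_mul]
        refine A.sum_mem fun i _ => ?_
        rw [map_sum, Finset.mul_sum, Finset.sum_mul]
        refine A.sum_mem fun j _ => ?_
        rw [show Matrix.single i j (a i j) = a i j • Matrix.single i j (1 : F) by
          rw [Matrix.smul_single, smul_eq_mul, mul_one], map_smul, mul_smul_comm, smul_mul_assoc, tensL_apply,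
          ← hP]
        refine A.smul_mem ?_ _
        rw [← Subalgebra.mem_toSubmodule, ← hspan]
        exact Submodule.subset_span ⟨(i, j), rfl⟩
    rcases Nat.lt_or_ge t 2 with ht | ht
    · right; right
      have ht1 : t = 1 := by
        obtain ⟨x⟩ := ‹Nonempty ι›
        have := (e x).2.pos
        omega
      subst ht1
      refine eq_top_iff.2 fun M _ => (hA' M).2 ?_
      let e₁ : ι ≃ Fin s := e.trans (Equiv.prodUnique (Fin s) (Fin 1))
      refine ⟨Matrix.of fun i j => (((P⁻¹ : GL ι F) : Matrix ι ι F) * M * (P : Matrix ι ι F)) (e₁.symm i) (e₁.symm j), ?_⟩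
      have h1 : tens e (Matrix.of fun i j => (((P⁻¹ : GL ι F) : Matrix ι ι F) * M * (P : Matrix ι ι F))
          (e₁.symm i) (e₁.symm j)) (1 : Matrix (Fin 1) (Fin 1) F) =
          ((P⁻¹ : GL ι F) : Matrix ι ι F) * M * (P : Matrix ι ι F) := by
        ext x y
        rw [tens_apply, Matrix.of_apply, Subsingleton.elim (e x).2 (e y).2, Matrix.one_apply_eq, mul_one]
        rw [show e₁.symm (e x).1 = x from e₁.symm_apply_apply x, show e₁.symm (e y).1 = y from e₁.symm_apply_apply y]
      rw [h1]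
      simp only [← mul_assoc]
      rw [← Units.val_mul, mul_inv_cancel, Units.val_one, one_mul, mul_assoc, ← Units.val_mul, mul_inv_cancel,
        Units.val_one, mul_one]
    rcases Nat.lt_or_ge s 2 with hs2 | hs2
    · exfalso
      apply hns
      intro g hg
      obtain ⟨a, ha⟩ := (hA' _).1 (coe_mem_env hg)
      have : Subsingleton (Fin s) := Fin.subsingleton_iff_le_one.2 (by omega)
      apply mem_scalars_of_smul (c := a 0 0)
      have : a = a 0 0 • (1 : Matrix (Fin s) (Fin s) F) := by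
        ext i j
        rw [Subsingleton.elim i 0, Subsingleton.elim j 0]
        simp
      rw [ha, this, ← tensL_apply, map_smul, map_one, mul_smul_comm, smul_mul_assoc, mul_one, ← Units.val_mul,
        mul_inv_cancel, Units.val_one]
      simp
    right; left
    have : NeZero t := ⟨by omega⟩
    refine ⟨s, t, e, P, hs2, ht, le_tensorProductSubgroup e P fun h hh a => ?_⟩
    have hb := hA h hh _ ((hA' _).2 ⟨a, rfl⟩)
    obtain ⟨b, hb⟩ := (hA' _).1 hb
    refine ⟨b, conj_inj P ?_⟩
    rw [← hb]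
    simp only [Units.val_mul, mul_inv_rev, inv_inv, ← mul_assoc]
    rw [← Units.val_mul P P⁻¹, mul_inv_cancel, Units.val_one, one_mul]
    simp only [mul_assoc]
    rw [← Units.val_mul P P⁻¹, mul_inv_cancel, Units.val_one, mul_one]
  · -- a larger centre
    left
    obtain ⟨r, L, hr, -, hL, -, hHL⟩ := exists_prime_field hZf hd
    refine ⟨r, L, hr, hL, le_subalgebraNormalizer (hHL H ?_)⟩
    intro h hh z hz
    rw [hZmem] at hz ⊢
    refine ⟨hA h hh z hz.1, fun a ha => ?_⟩
    have ha' := hA h⁻¹ (H.inv_mem hh) a ha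
    rw [inv_inv] at ha'
    have e : conjHom h (((h⁻¹ : GL ι F) : Matrix ι ι F) * a * (h : Matrix ι ι F)) = a := by
      rw [conjHom_apply]
      simp only [← mul_assoc]
      rw [← Units.val_mul, mul_inv_cancel, Units.val_one, one_mul, mul_assoc, ← Units.val_mul, mul_inv_cancel,
        Units.val_one, mul_one]
    have := congrArg (conjHom h) (hz.2 _ ha')
    rw [map_mul (conjHom h) z, map_mul (conjHom h) (((h⁻¹ : GL ι F) : Matrix ι ι F) * a * (h : Matrix ι ι F)) z, e] at this
    exact this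

end Cfsg.Agent.H99.Asch
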