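import Cfsg.Agent.H99.Aschbacher.Algebra

/-!
Clifford theory for a subalgebra A normalised by an irreducible matrix group H: either H is imprimitive, or every
non-zero central element of A is invertible and A is a full matrix algebra over its centre.
-/

set_option autoImplicit false
set_option backward.isDefEq.respectTransparency false

open scoped MatrixGroups Matrix

namespace Cfsg.Agent.H99.Asch

open Cfsg.Geo

variable {ι : Type} [Fintype ι] [DecidableEq ι] {F : Type*} [Field F]

/-- H normalises the subalgebra A under conjugation. -/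
def Normalises (H : Subgroup (GL ι F)) (A : Subalgebra F (Matrix ι ι F)) : Prop :=
  ∀ h ∈ H, ∀ a ∈ A, (h : Matrix ι ι F) * a * ((h⁻¹ : GL ι F) : Matrix ι ι F) ∈ A

/-- H permutes a decomposition into at least two subspaces of equal dimension. -/
def Imprimitive (H : Subgroup (GL ι F)) : Prop :=
  ∃ (t m : ℕ) (D : Fin t → Submodule F (ι → F)), IsMDecomposition m D ∧ H ≤ decompositionStabilizer D

/-- Elements of the form f a b multiply like matrix units and the diagonal ones sum to 1. -/
structure IsMatrixUnits {κ : Type} [Fintype κ] [DecidableEq κ] (f : κ → κ → Matrix ι ι F) : Prop where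
  mul : ∀ a b c d, f a b * f c d = if b = c then f a d else 0
  sum : ∑ a, f a a = 1

lemma glInv_mulVec (h : GL ι F) (v : ι → F) :
    ((h⁻¹ : GL ι F) : Matrix ι ι F) *ᵥ ((h : Matrix ι ι F) *ᵥ v) = v := by
  rw [Matrix.mulVec_mulVec, ← Units.val_mul, inv_mul_cancel, Units.val_one, Matrix.one_mulVec]

lemma gl_mulVec_inv (h : GL ι F) (v : ι → F) :
    (h : Matrix ι ι F) *ᵥ (((h⁻¹ : GL ι F) : Matrix ι ι F) *ᵥ v) = v := by
  rw [Matrix.mulVec_mulVec, ← Units.val_mul, mul_inv_cancel, Units.val_one, Matrix.one_mulVec]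

/-- The subalgebra A seen inside the endomorphism algebra of F^ι. -/
abbrev EndAlg (A : Subalgebra F (Matrix ι ι F)) : Subalgebra F (Module.End F (ι → F)) :=
  A.map (Matrix.toLinAlgEquiv' : Matrix ι ι F ≃ₐ[F] _).toAlgHom

lemma endAlg_exists {A : Subalgebra F (Matrix ι ι F)} (b : EndAlg A) :
    ∃ a ∈ A, ∀ v : ι → F, b • v = a *ᵥ v := by
  obtain ⟨b, a, ha, rfl⟩ := b
  exact ⟨a, ha, fun v => rfl⟩

/-- An element of A as an element of EndAlg A. -/
abbrev toEndAlg {A : Subalgebra F (Matrix ι ι F)} {a : Matrix ι ι F} (ha : a ∈ A) : EndAlg A :=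
  ⟨Matrix.toLinAlgEquiv' a, a, ha, rfl⟩

/-- A submodule over EndAlg A as an additive group (instance search does not find this by unification). -/
@[instance_reducible]
def endAlgSubACG {A : Subalgebra F (Matrix ι ι F)} (U : Submodule (EndAlg A) (ι → F)) : AddCommGroup U :=
  @Submodule.addCommGroup (EndAlg A) (ι → F) _ _ _ U

attribute [local instance] endAlgSubACG

section shortcuts

variable {A : Subalgebra F (Matrix ι ι F)} (U : Submodule (EndAlg A) (ι → F))

/-- Shortcut: EndAlg A is a ring. -/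
@[instance_reducible] def endAlgRing : Ring (EndAlg A) := inferInstance
/-- Shortcut: EndAlg A is a semiring. -/
@[instance_reducible] def endAlgSemiring : Semiring (EndAlg A) := inferInstance
/-- Shortcut: EndAlg A acts on F^ι. -/
@[instance_reducible] def endAlgModule : Module (EndAlg A) (ι → F) := inferInstance
/-- Shortcut: EndAlg A acts on F^ι by scalar multiplication. -/
@[instance_reducible] def endAlgSMul : SMul (EndAlg A) (ι → F) := inferInstance
/-- Shortcut: additive structure of a submodule. -/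
@[instance_reducible] def endAlgSubACM : AddCommMonoid U := inferInstance
/-- Shortcut: EndAlg A acts on a submodule. -/
@[instance_reducible] def endAlgSubModule : Module (EndAlg A) U := inferInstance
/-- Shortcut: F acts on a submodule. -/
@[instance_reducible] def endAlgSubModuleF : Module F U := inferInstance
/-- Shortcut: EndAlg A acts on a submodule by scalar multiplication. -/
@[instance_reducible] def endAlgSubSMul : SMul (EndAlg A) U := inferInstance
/-- Shortcut: additive monoid of a submodule. -/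
@[instance_reducible] def endAlgSubAM : AddMonoid U := inferInstance
/-- Shortcut: additive class of a submodule. -/
@[instance_reducible] def endAlgSubAZC : AddZeroClass U := inferInstance

end shortcuts

attribute [local instance 2000] endAlgRing endAlgSemiring endAlgModule endAlgSMul endAlgSubACM
  endAlgSubModule endAlgSubModuleF endAlgSubSMul endAlgSubAM endAlgSubAZC

section move

variable {A : Subalgebra F (Matrix ι ι F)} (h : GL ι F)
  (hh : ∀ a ∈ A, ((h⁻¹ : GL ι F) : Matrix ι ι F) * a * (h : Matrix ι ι F) ∈ A)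

/-- The image of an A-submodule under a matrix normalising A. -/
def moveSub (W : Submodule (EndAlg A) (ι → F)) : Submodule (EndAlg A) (ι → F) where
  carrier := {v | ((h⁻¹ : GL ι F) : Matrix ι ι F) *ᵥ v ∈ W}
  add_mem' {x y} hx hy := by
    show _ ∈ W
    rw [Matrix.mulVec_add]; exact W.add_mem hx hy
  zero_mem' := by
    show _ ∈ W
    rw [Matrix.mulVec_zero]; exact W.zero_mem
  smul_mem' b v hv := by
    obtain ⟨a, ha, hab⟩ := endAlg_exists b
    show _ ∈ W
    have := W.smul_mem (toEndAlg (hh a ha)) hv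
    change (((h⁻¹ : GL ι F) : Matrix ι ι F) * a * (h : Matrix ι ι F)) *ᵥ
      (((h⁻¹ : GL ι F) : Matrix ι ι F) *ᵥ v) ∈ W at this
    rw [← Matrix.mulVec_mulVec, gl_mulVec_inv, ← Matrix.mulVec_mulVec] at this
    rwa [hab]

lemma mem_moveSub {W : Submodule (EndAlg A) (ι → F)} {v : ι → F} :
    v ∈ moveSub h hh W ↔ ((h⁻¹ : GL ι F) : Matrix ι ι F) *ᵥ v ∈ W := Iff.rfl

lemma mulVec_mem_moveSub {W : Submodule (EndAlg A) (ι → F)} {w : ι → F} (hw : w ∈ W) :
    (h : Matrix ι ι F) *ᵥ w ∈ moveSub h hh W := by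
  rw [mem_moveSub, glInv_mulVec]; exact hw

lemma moveSub_le_iff {W X : Submodule (EndAlg A) (ι → F)} :
    moveSub h hh W ≤ X ↔ ∀ w ∈ W, (h : Matrix ι ι F) *ᵥ w ∈ X := by
  refine ⟨fun hle w hw => hle (mulVec_mem_moveSub h hh hw), fun hX v hv => ?_⟩
  have := hX _ hv
  rwa [gl_mulVec_inv] at this

lemma moveSub_restrictScalars (W : Submodule (EndAlg A) (ι → F)) :
    (moveSub h hh W).restrictScalars F = (W.restrictScalars F).map (Matrix.toLin' (h : Matrix ι ι F)) := by
  ext v
  rw [Submodule.mem_map, Submodule.restrictScalars_mem, mem_moveSub]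
  constructor
  · intro hv
    exact ⟨_, hv, by rw [Matrix.toLin'_apply, gl_mulVec_inv]⟩
  · rintro ⟨w, hw, rfl⟩
    rw [Matrix.toLin'_apply, glInv_mulVec]; exact hw

variable (hh' : ∀ a ∈ A, ((h⁻¹⁻¹ : GL ι F) : Matrix ι ι F) * a * ((h⁻¹ : GL ι F) : Matrix ι ι F) ∈ A)

lemma moveSub_moveSub (W : Submodule (EndAlg A) (ι → F)) :
    moveSub h hh (moveSub h⁻¹ hh' W) = W := by
  ext v
  rw [mem_moveSub, mem_moveSub, inv_inv, gl_mulVec_inv]

include hh' in
lemma moveSub_isAtom {U : Submodule (EndAlg A) (ι → F)} (hU : IsAtom U) :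
    IsAtom (moveSub h hh U) := by
  constructor
  · intro e
    apply hU.1
    rw [eq_bot_iff]
    intro u hu
    have h0 : (h : Matrix ι ι F) *ᵥ u ∈ (⊥ : Submodule (EndAlg A) (ι → F)) := e ▸ mulVec_mem_moveSub h hh hu
    rw [Submodule.mem_bot] at h0 ⊢
    rw [← glInv_mulVec h u, h0, Matrix.mulVec_zero]
  · intro X hX
    have hlt : moveSub h⁻¹ hh' X < U := by
      refine lt_of_le_of_ne ?_ fun e => hX.ne ?_
      · intro v hv
        rw [mem_moveSub, inv_inv] at hv
        have := (mem_moveSub h hh).1 (hX.le hv)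
        rwa [glInv_mulVec] at this
      · rw [← e, moveSub_moveSub]
    rw [← moveSub_moveSub h hh hh' X, hU.2 _ hlt, eq_bot_iff]
    intro v hv
    rw [mem_moveSub, Submodule.mem_bot] at hv
    rw [Submodule.mem_bot, ← gl_mulVec_inv h v, hv, Matrix.mulVec_zero]

lemma moveSub_congr {U m : Submodule (EndAlg A) (ι → F)} (e : m ≃ₗ[EndAlg A] U) :
    Nonempty (moveSub h hh m ≃ₗ[EndAlg A] moveSub h hh U) := by
  refine ⟨{
    toFun := fun v => ⟨(h : Matrix ι ι F) *ᵥ (e ⟨_, v.2⟩ : ι → F), mulVec_mem_moveSub h hh (e ⟨_, v.2⟩).2⟩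
    invFun := fun v => ⟨(h : Matrix ι ι F) *ᵥ (e.symm ⟨_, v.2⟩ : ι → F),
      mulVec_mem_moveSub h hh (e.symm ⟨_, v.2⟩).2⟩
    map_add' := ?_
    map_smul' := ?_
    left_inv := ?_
    right_inv := ?_ }⟩
  · intro x y
    apply Subtype.ext
    show _ = (h : Matrix ι ι F) *ᵥ _ + (h : Matrix ι ι F) *ᵥ _
    rw [← Matrix.mulVec_add, ← Submodule.coe_add, ← map_add]
    refine congrArg (fun q : U => (h : Matrix ι ι F) *ᵥ (q : ι → F)) (congrArg e ?_)
    exact Subtype.ext (Matrix.mulVec_add _ _ _)
  · intro b x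
    obtain ⟨a, ha, hab⟩ := endAlg_exists b
    let b' : EndAlg A := toEndAlg (hh a ha)
    have key : ∀ w : ι → F, b' • w = ((h⁻¹ : GL ι F) : Matrix ι ι F) *ᵥ (a *ᵥ ((h : Matrix ι ι F) *ᵥ w)) := by
      intro w
      show (((h⁻¹ : GL ι F) : Matrix ι ι F) * a * (h : Matrix ι ι F)) *ᵥ w = _
      rw [Matrix.mulVec_mulVec, Matrix.mulVec_mulVec, mul_assoc]
    apply Subtype.ext
    rw [RingHom.id_apply]
    show _ = ((b • (⟨_, _⟩ : moveSub h hh U) : moveSub h hh U) : ι → F)
    rw [Submodule.coe_smul (p := moveSub h hh U), hab]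
    have e1 : (⟨((h⁻¹ : GL ι F) : Matrix ι ι F) *ᵥ ((b • x : moveSub h hh m) : ι → F), (b • x).2⟩ : m) =
        b' • (⟨_, x.2⟩ : m) := by
      apply Subtype.ext
      show ((h⁻¹ : GL ι F) : Matrix ι ι F) *ᵥ (b • (x : ι → F)) =
        b' • (((h⁻¹ : GL ι F) : Matrix ι ι F) *ᵥ (x : ι → F))
      rw [key, gl_mulVec_inv, hab]
    refine (congrArg (fun q : m => (h : Matrix ι ι F) *ᵥ (e q : ι → F)) e1).trans ?_
    show (h : Matrix ι ι F) *ᵥ (e (b' • _) : ι → F) = _
    rw [map_smul, Submodule.coe_smul, key, gl_mulVec_inv]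
  · intro x
    apply Subtype.ext
    simp only
    have : (⟨((h⁻¹ : GL ι F) : Matrix ι ι F) *ᵥ ((h : Matrix ι ι F) *ᵥ (e ⟨_, x.2⟩ : ι → F)),
        (mem_moveSub h hh).1 (mulVec_mem_moveSub h hh (e ⟨_, x.2⟩).2)⟩ : U) = e ⟨_, x.2⟩ :=
      Subtype.ext (glInv_mulVec h _)
    rw [this, LinearEquiv.symm_apply_apply, gl_mulVec_inv]
  · intro x
    apply Subtype.ext
    simp only
    have : (⟨((h⁻¹ : GL ι F) : Matrix ι ι F) *ᵥ ((h : Matrix ι ι F) *ᵥ (e.symm ⟨_, x.2⟩ : ι → F)),
        (mem_moveSub h hh).1 (mulVec_mem_moveSub h hh (e.symm ⟨_, x.2⟩).2)⟩ : m) = e.symm ⟨_, x.2⟩ :=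
      Subtype.ext (glInv_mulVec h _)
    rw [this, LinearEquiv.apply_symm_apply, gl_mulVec_inv]

include hh' in
lemma moveSub_isotypic_le {U : Submodule (EndAlg A) (ι → F)} :
    moveSub h hh (isotypicComponent (EndAlg A) (ι → F) U) ≤
      isotypicComponent (EndAlg A) (ι → F) (moveSub h hh U) := by
  have hle : isotypicComponent (EndAlg A) (ι → F) U ≤
      moveSub h⁻¹ hh' (isotypicComponent (EndAlg A) (ι → F) (moveSub h hh U)) := by
    refine sSup_le fun m hm => ?_
    obtain ⟨e⟩ := hm
    intro w hw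
    rw [mem_moveSub, inv_inv]
    exact (le_sSup (show moveSub h hh m ∈ {x : Submodule (EndAlg A) (ι → F) |
      Nonempty (x ≃ₗ[EndAlg A] moveSub h hh U)} from moveSub_congr h hh e))
      (mulVec_mem_moveSub h hh hw)
  intro v hv
  have := hle hv
  rwa [mem_moveSub, inv_inv, gl_mulVec_inv] at this

end move

/-- Clifford: an irreducible group normalising A is imprimitive, or A has a single isotypic component. -/
lemma isotypic_dichotomy [Nonempty ι] {H : Subgroup (GL ι F)} (hirr : ActsIrreducibly (matrixSet H))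
    {A : Subalgebra F (Matrix ι ι F)} (hA : Normalises H A) :
    Imprimitive H ∨ ∃ U : Submodule (EndAlg A) (ι → F), IsAtom U ∧
      isotypicComponent (EndAlg A) (ι → F) U = ⊤ := by
  classical
  have hh : ∀ h ∈ H, ∀ a ∈ A, ((h⁻¹ : GL ι F) : Matrix ι ι F) * a * (h : Matrix ι ι F) ∈ A := by
    intro h hh a ha
    simpa using hA h⁻¹ (H.inv_mem hh) a ha
  have hh' : ∀ h ∈ H, ∀ a ∈ A, ((h⁻¹⁻¹ : GL ι F) : Matrix ι ι F) * a * ((h⁻¹ : GL ι F) : Matrix ι ι F) ∈ A :=
    fun h hhh => hh h⁻¹ (H.inv_mem hhh)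
  have hne : (⊥ : Submodule (EndAlg A) (ι → F)) ≠ ⊤ := bot_ne_top
  have : IsNoetherian (EndAlg A) (ι → F) := isNoetherian_of_tower F inferInstance
  have : IsArtinian (EndAlg A) (ι → F) := isArtinian_of_tower F inferInstance
  obtain ⟨U, hU⟩ := IsAtomic.exists_atom (Submodule (EndAlg A) (ι → F))
  by_cases htop : isotypicComponent (EndAlg A) (ι → F) U = ⊤
  · exact Or.inr ⟨U, hU, htop⟩
  left
  let W₀ := isotypicComponent (EndAlg A) (ι → F) U
  let C : Set (Submodule (EndAlg A) (ι → F)) :=
    Set.range fun h : H => isotypicComponent (EndAlg A) (ι → F) (moveSub (h : GL ι F) (hh h h.2) U)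
  have hCsub : C ⊆ isotypicComponents (EndAlg A) (ι → F) := by
    rintro _ ⟨h, rfl⟩
    exact ⟨_, isSimpleModule_iff_isAtom.2 (moveSub_isAtom _ _ (hh' h h.2) hU), rfl⟩
  have hCfin : C.Finite := (Set.finite_coe_iff.1 inferInstance).subset hCsub
  have hcomp : ∀ h : H, isotypicComponent (EndAlg A) (ι → F) (moveSub (h : GL ι F) (hh h h.2) U) =
      moveSub (h : GL ι F) (hh h h.2) W₀ := by
    intro h
    refine le_antisymm ?_ (moveSub_isotypic_le _ _ (hh' h h.2))
    have h1 := moveSub_isotypic_le (U := moveSub (h : GL ι F) (hh h h.2) U) ((h : GL ι F)⁻¹)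
      (hh _ (H.inv_mem h.2)) (hh' _ (H.inv_mem h.2))
    have e : moveSub ((h : GL ι F)⁻¹) (hh _ (H.inv_mem h.2)) (moveSub (h : GL ι F) (hh h h.2) U) = U := by
      ext v
      rw [mem_moveSub, mem_moveSub, inv_inv, glInv_mulVec]
    rw [e, moveSub_le_iff] at h1
    intro v hv
    exact (mem_moveSub _ _).2 (h1 v hv)
  let _ : Fintype C := hCfin.fintype
  let t := Fintype.card C
  let idx : Fin t ≃ C := (Fintype.equivFin C).symm
  let D : Fin t → Submodule F (ι → F) := fun i => (idx i : Submodule (EndAlg A) (ι → F)).restrictScalars F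
  have hDform : ∀ i, ∃ h : H, D i = (W₀.restrictScalars F).map (Matrix.toLin' ((h : GL ι F) : Matrix ι ι F)) := by
    intro i
    obtain ⟨h, hh₀⟩ := (idx i).2
    refine ⟨h, ?_⟩
    show ((idx i : C) : Submodule (EndAlg A) (ι → F)).restrictScalars F = _
    rw [← hh₀, ← moveSub_restrictScalars (h : GL ι F) (hh h h.2) W₀]
    exact congrArg _ (hcomp h)
  have hfr : ∀ i, Module.finrank F (D i) = Module.finrank F (W₀.restrictScalars F) := by
    intro i
    obtain ⟨h, e⟩ := hDform i
    rw [e]
    exact ((W₀.restrictScalars F).equivMapOfInjective _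
      (Matrix.mulVec_injective_of_isUnit (Units.isUnit _))).finrank_eq.symm
  have hindep : iSupIndep D := by
    have h1 : iSupIndep (fun i => ((idx i : C) : Submodule (EndAlg A) (ι → F))) := by
      have h0 : sSupIndep C := (sSupIndep_isotypicComponents (EndAlg A) (ι → F)).mono hCsub
      exact iSupIndep.comp (f := fun i : Fin t => (idx i : C)) ((sSupIndep_iff C).1 h0) idx.injective
    intro i
    have h2 := h1 i
    rw [disjoint_iff] at h2 ⊢
    have h3 := congrArg (Submodule.restrictScalars F) h2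
    simpa [D, Submodule.restrictScalars_iSup, Submodule.restrictScalars_inf] using h3
  have hperm : ∀ g : H, ∀ i, ∃ j, (D i).map (Matrix.toLin' ((g : GL ι F) : Matrix ι ι F)) = D j := by
    intro g i
    obtain ⟨h, e⟩ := hDform i
    obtain ⟨j, hj⟩ := idx.surjective ⟨_, g * h, rfl⟩
    refine ⟨j, ?_⟩
    rw [e, ← Submodule.map_comp, ← Matrix.toLin'_mul, ← Units.val_mul]
    show _ = ((idx j : C) : Submodule (EndAlg A) (ι → F)).restrictScalars F
    rw [hj]
    have := moveSub_restrictScalars ((g * h : H) : GL ι F) (hh _ (g * h).2) W₀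
    rw [← hcomp (g * h)] at this
    exact this.symm
  have hsup : iSup D = ⊤ := by
    have hinv : IsInv (matrixSet H) (iSup D) := by
      rw [isInv_iff_map_le]
      rintro _ ⟨g, hg, rfl⟩
      rw [Submodule.map_iSup]
      refine iSup_le fun i => ?_
      obtain ⟨j, hj⟩ := hperm ⟨g, hg⟩ i
      rw [hj]; exact le_iSup D j
    refine (actsIrreducibly_iff.1 hirr _ hinv).resolve_left ?_
    obtain ⟨i, hi⟩ := idx.surjective ⟨_, 1, rfl⟩
    intro hb
    have hi' : D i = ⊥ := eq_bot_iff.2 (hb ▸ le_iSup D i)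
    have h0 : Module.finrank F (W₀.restrictScalars F) = 0 := by
      rw [← hfr i, hi', finrank_bot]
    have : W₀ = ⊥ := (Submodule.restrictScalars_eq_bot_iff F _ _).1 (Submodule.finrank_eq_zero.1 h0)
    exact hU.1 (eq_bot_iff.2 (this ▸ (le_sSup ⟨LinearEquiv.refl _ U⟩ : U ≤ W₀)))
  have hm : 0 < Module.finrank F (W₀.restrictScalars F) := by
    refine Nat.pos_of_ne_zero fun h0 => ?_
    have : W₀ = ⊥ := (Submodule.restrictScalars_eq_bot_iff F _ _).1 (Submodule.finrank_eq_zero.1 h0)
    exact hU.1 (eq_bot_iff.2 (this ▸ (le_sSup ⟨LinearEquiv.refl _ U⟩ : U ≤ W₀)))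
  have ht : 2 ≤ t := by
    by_contra hlt
    apply htop
    obtain ⟨i, hi⟩ := idx.surjective ⟨_, 1, rfl⟩
    have hall : iSup D ≤ D i := iSup_le fun j => by
      have : j = i := Fin.ext (by omega)
      rw [this]
    rw [hsup, top_le_iff] at hall
    have : ((idx i : C) : Submodule (EndAlg A) (ι → F)) = ⊤ := (Submodule.restrictScalars_eq_top_iff F _ _).1 hall
    rw [hi] at this
    rw [eq_top_iff]
    intro v _
    have hv : v ∈ moveSub ((1 : H) : GL ι F) (hh _ (1 : H).2) W₀ := by
      rw [← hcomp 1]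
      exact (show isotypicComponent (EndAlg A) (ι → F) (moveSub ((1 : H) : GL ι F) (hh _ (1 : H).2) U) = ⊤ from this).symm ▸ Submodule.mem_top
    rw [mem_moveSub] at hv
    simpa using hv
  refine ⟨t, _, D, ⟨ht, hm, hfr, hindep, hsup⟩, fun g hg => ?_⟩
  choose σ hσ using hperm ⟨g, hg⟩
  have hσinj : Function.Injective σ := by
    intro i j hij
    by_contra hne'
    have e : D i = D j := by
      apply Submodule.map_injective_of_injective
        (f := Matrix.toLin' (g : Matrix ι ι F)) (Matrix.mulVec_injective_of_isUnit (Units.isUnit g))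
      rw [hσ i, hσ j, hij]
    have hd : Disjoint (D i) (D j) := hindep.pairwiseDisjoint hne'
    rw [e, disjoint_self] at hd
    have := hfr j
    rw [hd, finrank_bot] at this
    omega
  exact ⟨Equiv.ofBijective σ (Finite.injective_iff_bijective.1 hσinj), hσ⟩

/-- A homogeneous algebra: non-zero central elements are invertible and, over a central field of scalars, it has a
full set of matrix units. -/
theorem clifford_of_top [Fintype F] [Nonempty ι] {A : Subalgebra F (Matrix ι ι F)}
    {U : Submodule (EndAlg A) (ι → F)} (hU : IsAtom U)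
    (htop : isotypicComponent (EndAlg A) (ι → F) U = ⊤) :
    (∀ z ∈ A, (∀ a ∈ A, z * a = a * z) → z ≠ 0 → IsUnit z) ∧
    ((∀ z ∈ A, (∀ a ∈ A, z * a = a * z) → ∃ c : F, z = c • (1 : Matrix ι ι F)) →
      ∃ (s : ℕ) (f : Fin s → Fin s → Matrix ι ι F), 0 < s ∧ IsMatrixUnits f ∧
        Submodule.span F (Set.range (Function.uncurry f)) = Subalgebra.toSubmodule A) := by
  classical
  have : IsSimpleModule (EndAlg A) U := isSimpleModule_iff_isAtom.2 hU
  -- elements of A are determined by their action on U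
  have hfaith : ∀ b : EndAlg A, (∀ u : U, b • u = 0) → ∀ v : ι → F, b • v = 0 := by
    intro b hb v
    have hle : isotypicComponent (EndAlg A) (ι → F) U ≤
        ⨆ m : {m : Submodule (EndAlg A) (ι → F) // Nonempty (m ≃ₗ[EndAlg A] U)}, m.1 :=
      sSup_le fun m hm => le_iSup (fun m : {m : Submodule (EndAlg A) (ι → F) //
        Nonempty (m ≃ₗ[EndAlg A] U)} => m.1) ⟨m, hm⟩
    have hv := hle (htop ▸ Submodule.mem_top : v ∈ isotypicComponent (EndAlg A) (ι → F) U)
    refine Submodule.iSup_induction _ (motive := fun v => b • v = 0) hv (fun m x hx => ?_) (smul_zero b)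
      (fun x y hx hy => by rw [smul_add, hx, hy, add_zero])
    obtain ⟨e⟩ := m.2
    have : b • (⟨x, hx⟩ : m.1) = 0 := e.injective (by rw [map_smul, hb, map_zero])
    exact congrArg Subtype.val this
  let ρ : EndAlg A →ₐ[F] Module.End F U := Algebra.lsmul F F U
  have hρ : Function.Injective ρ := by
    rw [injective_iff_map_eq_zero]
    intro b hb
    have := hfaith b (fun u => congrArg (fun φ : Module.End F U => φ u) hb)
    exact Subtype.ext (LinearMap.ext this)
  let toE : A ≃ₐ[F] EndAlg A :=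
    A.equivMapOfInjective _ (Matrix.toLinAlgEquiv' : Matrix ι ι F ≃ₐ[F] _).injective
  have hUne : Nontrivial U := IsSimpleModule.nontrivial (EndAlg A) U
  have hcentral : ∀ z ∈ A, (∀ a ∈ A, z * a = a * z) → z ≠ 0 → IsUnit z := by
    intro z hz hzc hz0
    let b : EndAlg A := toEndAlg hz
    have hbc : ∀ b' : EndAlg A, b * b' = b' * b := by
      rintro ⟨_, a, ha, rfl⟩
      apply Subtype.ext
      show Matrix.toLinAlgEquiv' z * Matrix.toLinAlgEquiv' a = Matrix.toLinAlgEquiv' a * Matrix.toLinAlgEquiv' z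
      rw [← map_mul, ← map_mul, hzc a ha]
    let T : Module.End (EndAlg A) (ι → F) :=
      { toFun := fun v => b • v
        map_add' := smul_add b
        map_smul' := fun b' v => by
          show b • b' • v = b' • b • v
          rw [smul_smul, smul_smul, hbc] }
    rw [← Matrix.mulVec_injective_iff_isUnit]
    show Function.Injective T
    refine LinearMap.ker_eq_bot.1 ?_
    by_contra hker
    have : IsArtinian (EndAlg A) (ι → F) := isArtinian_of_tower F inferInstance
    obtain ⟨m, hm, hmle⟩ := (IsAtomic.eq_bot_or_exists_atom_le (LinearMap.ker T)).resolve_left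
      (fun e => hker (LinearMap.ker_eq_bot'.2 fun v hv => LinearMap.ker_eq_bot'.1 e v hv))
    have : IsSimpleModule (EndAlg A) m := isSimpleModule_iff_isAtom.2 hm
    obtain ⟨e⟩ := IsIsotypicOfType.of_isotypicComponent_eq_top htop m
    have hb0 : ∀ v : ι → F, b • v = 0 := by
      apply hfaith
      intro u
      have : b • (e.symm u) = 0 := Subtype.ext (hmle (e.symm u).2)
      rw [← e.apply_symm_apply u, ← map_smul, this, map_zero]
    apply hz0
    apply (Matrix.toLinAlgEquiv' : Matrix ι ι F ≃ₐ[F] _).injective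
    rw [map_zero]
    exact LinearMap.ext hb0
  refine ⟨hcentral, fun hZ => ?_⟩
  have : Finite (Module.End (EndAlg A) U) := Finite.of_injective (fun d => (d : U → U)) DFunLike.coe_injective
  have hdens : ∀ φ : Module.End F U, (∀ d : Module.End (EndAlg A) U, ∀ u, φ (d u) = d (φ u)) →
      ∃ b : EndAlg A, ∀ u : U, b • u = φ u := by
    intro φ hφ
    let f : Module.End (Module.End (EndAlg A) U) U :=
      { toFun := φ, map_add' := φ.map_add, map_smul' := fun d u => hφ d u }
    have : Module.Finite (Module.End (EndAlg A) U) U := Module.Finite.of_finite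
    obtain ⟨b, hb⟩ := Module.Finite.toModuleEnd_moduleEnd_surjective (R := EndAlg A) (M := U) f
    exact ⟨b, fun u => congrArg (fun g : Module.End (Module.End (EndAlg A) U) U => g u) hb⟩
  have hD : ∀ d : Module.End (EndAlg A) U, ∃ c : F, ∀ u, d u = c • u := by
    intro d
    obtain ⟨b, hb⟩ := hdens (d.restrictScalars F) (fun d' u => by
      exact congrArg (fun g : Module.End (EndAlg A) U => g u) (simple_end_comm (A := EndAlg A) (U := U) d d'))
    obtain ⟨⟨z, hz⟩, rfl⟩ := toE.surjective b
    obtain ⟨c, hc⟩ := hZ z hz (fun a ha => by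
      have hcomm : toE ⟨z, hz⟩ * toE ⟨a, ha⟩ = toE ⟨a, ha⟩ * toE ⟨z, hz⟩ := by
        apply hρ
        rw [map_mul, map_mul]
        ext1 u
        show toE ⟨z, hz⟩ • (toE ⟨a, ha⟩ • u) = toE ⟨a, ha⟩ • (toE ⟨z, hz⟩ • u)
        rw [hb, hb]
        exact d.map_smul _ u
      exact congrArg Subtype.val (toE.injective
        (show toE (⟨z, hz⟩ * ⟨a, ha⟩) = toE (⟨a, ha⟩ * ⟨z, hz⟩) by rw [map_mul, map_mul, hcomm])))
    refine ⟨c, fun u => ?_⟩
    have e : toE ⟨z, hz⟩ = algebraMap F (EndAlg A) c := by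
      rw [← toE.commutes]
      congr 1
      apply Subtype.ext
      rw [Subalgebra.coe_algebraMap, Algebra.algebraMap_eq_smul_one]
      exact hc
    refine (hb u).symm.trans ?_
    rw [e, algebraMap_smul]
  have hρs : Function.Surjective ρ := by
    intro φ
    obtain ⟨b, hb⟩ := density (A := EndAlg A) (U := U) hD φ
    exact ⟨b, LinearMap.ext hb⟩
  let Φ : A ≃ₐ[F] Module.End F U := toE.trans (AlgEquiv.ofBijective ρ ⟨hρ, hρs⟩)
  let bas := Module.finBasis F U
  let s := Module.finrank F U
  let Ψ : Matrix (Fin s) (Fin s) F ≃ₐ[F] A := (algEquivMatrix bas).symm.trans Φ.symm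
  let f : Fin s → Fin s → Matrix ι ι F := fun i j => (Ψ (Matrix.single i j 1) : Matrix ι ι F)
  refine ⟨s, f, Module.finrank_pos, ⟨?_, ?_⟩, ?_⟩
  · intro a b c d
    show (Ψ _ : Matrix ι ι F) * (Ψ _ : Matrix ι ι F) = _
    rw [← MulMemClass.coe_mul, ← map_mul]
    split_ifs with h
    · subst h; rw [Matrix.single_mul_single_same, one_mul]
    · rw [Matrix.single_mul_single_of_ne (i := a) (j := b) (k := c) 1 h, map_zero]; rfl
  · show ∑ a, (Ψ (Matrix.single a a 1) : Matrix ι ι F) = 1
    rw [← AddSubmonoidClass.coe_finsetSum, ← map_sum, Matrix.sum_single_one, map_one]; rfl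
  · apply le_antisymm
    · rw [Submodule.span_le]
      rintro _ ⟨⟨i, j⟩, rfl⟩
      exact (Ψ _).2
    · intro a ha
      obtain ⟨M, hM⟩ := Ψ.surjective ⟨a, ha⟩
      have : a = ∑ i, ∑ j, M i j • f i j := by
        rw [show a = (Ψ M : Matrix ι ι F) from (congrArg Subtype.val hM).symm]
        conv_lhs => rw [Matrix.matrix_eq_sum_single M]
        simp only [map_sum, AddSubmonoidClass.coe_finsetSum]
        refine Finset.sum_congr rfl fun i _ => Finset.sum_congr rfl fun j _ => ?_
        have e : Matrix.single i j (M i j) = M i j • Matrix.single i j (1 : F) := by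
          rw [Matrix.smul_single, smul_eq_mul, mul_one]
        rw [e, map_smul]; rfl
      rw [this]
      exact Submodule.sum_mem _ fun i _ => Submodule.sum_mem _ fun j _ =>
        Submodule.smul_mem _ _ (Submodule.subset_span ⟨(i, j), rfl⟩)

/-- Clifford's theorem for a subalgebra normalised by an irreducible primitive group. -/
theorem clifford [Fintype F] [Nonempty ι] {H : Subgroup (GL ι F)} (hirr : ActsIrreducibly (matrixSet H))
    (hprim : ¬ Imprimitive H) {A : Subalgebra F (Matrix ι ι F)} (hA : Normalises H A) :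
    (∀ z ∈ A, (∀ a ∈ A, z * a = a * z) → z ≠ 0 → IsUnit z) ∧
    ((∀ z ∈ A, (∀ a ∈ A, z * a = a * z) → ∃ c : F, z = c • (1 : Matrix ι ι F)) →
      ∃ (s : ℕ) (f : Fin s → Fin s → Matrix ι ι F), 0 < s ∧ IsMatrixUnits f ∧
        Submodule.span F (Set.range (Function.uncurry f)) = Subalgebra.toSubmodule A) := by
  obtain ⟨U, hU, htop⟩ := (isotypic_dichotomy hirr hA).resolve_left hprim
  exact clifford_of_top hU htop

/-- If an irreducible set consists of elements of A and elements commuting with A, then A is homogeneous. -/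
theorem clifford_of_mem_or_commute [Fintype F] [Nonempty ι] {S : Set (Matrix ι ι F)} (hirr : ActsIrreducibly S)
    {A : Subalgebra F (Matrix ι ι F)} (hS : ∀ s ∈ S, s ∈ A ∨ ∀ a ∈ A, s * a = a * s) :
    (∀ z ∈ A, (∀ a ∈ A, z * a = a * z) → z ≠ 0 → IsUnit z) ∧
    ((∀ z ∈ A, (∀ a ∈ A, z * a = a * z) → ∃ c : F, z = c • (1 : Matrix ι ι F)) →
      ∃ (s : ℕ) (f : Fin s → Fin s → Matrix ι ι F), 0 < s ∧ IsMatrixUnits f ∧
        Submodule.span F (Set.range (Function.uncurry f)) = Subalgebra.toSubmodule A) := by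
  have : IsArtinian (EndAlg A) (ι → F) := isArtinian_of_tower F inferInstance
  obtain ⟨U, hU⟩ := IsAtomic.exists_atom (Submodule (EndAlg A) (ι → F))
  refine clifford_of_top hU ?_
  have : IsSimpleModule (EndAlg A) U := isSimpleModule_iff_isAtom.2 hU
  have hinv : IsInv S ((isotypicComponent (EndAlg A) (ι → F) U).restrictScalars F) := by
    intro s hs v hv
    rcases hS s hs with hsA | hsc
    · exact (isotypicComponent (EndAlg A) (ι → F) U).smul_mem (toEndAlg hsA) hv
    · let T : Module.End (EndAlg A) (ι → F) :=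
        { toFun := fun v => s *ᵥ v
          map_add' := Matrix.mulVec_add s
          map_smul' := fun b v => by
            obtain ⟨a, ha, hab⟩ := endAlg_exists b
            show s *ᵥ (b • v) = b • (s *ᵥ v)
            rw [hab, hab, Matrix.mulVec_mulVec, Matrix.mulVec_mulVec, hsc a ha] }
      exact Submodule.IsFullyInvariant.isotypicComponent (EndAlg A) (ι → F) U T hv
  rcases actsIrreducibly_iff.1 hirr _ hinv with h | h
  · exfalso
    apply hU.1
    rw [eq_bot_iff]
    intro u hu
    have h1 : u ∈ (isotypicComponent (EndAlg A) (ι → F) U).restrictScalars F :=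
      (le_sSup ⟨LinearEquiv.refl _ U⟩ : U ≤ isotypicComponent (EndAlg A) (ι → F) U) hu
    rw [h] at h1
    exact h1
  · exact (Submodule.restrictScalars_eq_top_iff F _ _).1 h

end Cfsg.Agent.H99.Asch
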