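import Mathlib

/-!
Subfields of a finite field: membership by a power condition, existence for each degree dividing the degree,
a subfield of prime index above a proper subfield.
-/

set_option autoImplicit false

namespace Cfsg.Agent.H99.Asch

variable {F : Type*} [Field F] [Fintype F]

open Polynomial in
/-- In a field at most q elements satisfy x^q = x, for q at least 2. -/
lemma card_fixed_le {q : ℕ} (hq : 1 < q) : Nat.card {x : F // x ^ q = x} ≤ q := by
  classical
  let f : F[X] := X ^ q - X
  have hf : f ≠ 0 := FiniteField.X_pow_card_sub_X_ne_zero F hq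
  have h : ∀ x : {x : F // x ^ q = x}, x.1 ∈ f.roots.toFinset := by
    intro x
    rw [Multiset.mem_toFinset, mem_roots hf]
    simp [f, x.2]
  calc Nat.card {x : F // x ^ q = x} ≤ Nat.card f.roots.toFinset :=
        Nat.card_le_card_of_injective (fun x => (⟨x.1, h x⟩ : f.roots.toFinset))
          (fun x y e => Subtype.ext (by simpa using congrArg Subtype.val e))
    _ = f.roots.toFinset.card := by rw [Nat.card_eq_fintype_card, Fintype.card_coe]
    _ ≤ Multiset.card f.roots := Multiset.toFinset_card_le _
    _ ≤ f.natDegree := card_roots' f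
    _ = q := FiniteField.X_pow_card_sub_X_natDegree_eq F hq

/-- A subfield consists of the solutions of x^|K| = x. -/
lemma mem_subfield_iff (K : Subfield F) (x : F) : x ∈ K ↔ x ^ Nat.card K = x := by
  have hpow : ∀ y ∈ K, y ^ Nat.card K = y := by
    intro y hy
    let _ : Fintype K := Fintype.ofFinite K
    have := FiniteField.pow_card (⟨y, hy⟩ : K)
    rw [← Nat.card_eq_fintype_card] at this
    exact congrArg Subtype.val this
  refine ⟨hpow x, fun hx => ?_⟩
  have hle := card_fixed_le (F := F) (Finite.one_lt_card : 1 < Nat.card K)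
  let g : K → {y : F // y ^ Nat.card K = y} := fun y => ⟨y.1, hpow y.1 y.2⟩
  have ginj : Function.Injective g := fun a b e =>
    Subtype.ext (congrArg (fun z : {y : F // y ^ Nat.card K = y} => z.1) e)
  have gbij := (Nat.bijective_iff_injective_and_card g).2
    ⟨ginj, le_antisymm (Nat.card_le_card_of_injective g ginj) hle⟩
  obtain ⟨y, hy⟩ := gbij.2 ⟨x, hx⟩
  have : y.1 = x := congrArg Subtype.val hy
  exact this ▸ y.2

lemma subfield_eq_top_iff (K : Subfield F) : K = ⊤ ↔ Nat.card K = Fintype.card F := by
  constructor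
  · rintro rfl
    rw [← Nat.card_eq_fintype_card]
    exact Nat.card_congr (Equiv.subtypeUnivEquiv (fun x => Subfield.mem_top x))
  · intro h
    rw [eq_top_iff]
    intro x _
    rw [mem_subfield_iff, h]
    exact FiniteField.pow_card x

/-- A finite field of p^e elements has a subfield of p^d elements for every d dividing e. -/
lemma exists_subfield {p e d : ℕ} [Fact p.Prime] [CharP F p] (he : Fintype.card F = p ^ e) (hd : d ∣ e) :
    ∃ K : Subfield F, Nat.card K = p ^ d := by
  have hd0 : d ≠ 0 := by
    rintro rfl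
    have : e = 0 := Nat.eq_zero_of_zero_dvd hd
    subst this
    have := Fintype.one_lt_card (α := F)
    rw [he, pow_zero] at this
    omega
  let _ : Algebra (ZMod p) F := ZMod.algebra F p
  have hr : Module.finrank (ZMod p) F = e :=
    Nat.pow_right_injective (Fact.out : p.Prime).two_le (by
      show p ^ _ = p ^ _
      rw [FiniteField.pow_finrank_eq_card, he])
  obtain ⟨f⟩ := FiniteField.nonempty_algHom_of_finrank_dvd (F := ZMod p) (K := GaloisField p d) (L := F)
    (by rw [GaloisField.finrank p hd0, hr]; exact hd)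
  refine ⟨(f : GaloisField p d →+* F).fieldRange, ?_⟩
  rw [← GaloisField.card p d hd0]
  exact Nat.card_congr (Equiv.ofBijective _ (RingHom.rangeRestrictField_bijective _)).symm

lemma exists_card_eq_pow_of_le {K L : Subfield F} (h : K ≤ L) : ∃ m, Nat.card L = Nat.card K ^ m := by
  let _ : Algebra K L := (Subfield.inclusion h).toAlgebra
  exact ⟨_, Module.natCard_eq_pow_finrank (K := K) (V := L)⟩

lemma le_of_card_pow {K L : Subfield F} {m : ℕ} (h : Nat.card L = Nat.card K ^ m) : K ≤ L := by
  intro x hx
  rw [mem_subfield_iff] at hx ⊢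
  rw [h]
  clear h
  induction m with
  | zero => simp
  | succ m ih => rw [pow_succ, pow_mul, ih, hx]

/-- Above a proper subfield there is a subfield of prime index. -/
lemma exists_prime_index (F₀ : Subfield F) (h : F₀ ≠ ⊤) :
    ∃ (F₁ : Subfield F) (r : ℕ), F₀ ≤ F₁ ∧ r.Prime ∧ Fintype.card F = Nat.card F₁ ^ r := by
  obtain ⟨p, hp⟩ := CharP.exists F
  obtain ⟨e, hpp, he⟩ := FiniteField.card F p
  have : Fact p.Prime := ⟨hpp⟩
  obtain ⟨m, hm⟩ := exists_card_eq_pow_of_le (show F₀ ≤ ⊤ from le_top)
  rw [(subfield_eq_top_iff ⊤).1 rfl, he] at hm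
  obtain ⟨d, hd, hd'⟩ := (Nat.dvd_prime_pow hpp).1 (show Nat.card F₀ ∣ p ^ (e : ℕ) by
    rcases Nat.eq_zero_or_pos m with rfl | hm0
    · rw [pow_zero] at hm
      exact absurd hm (Nat.one_lt_pow e.pos.ne' hpp.one_lt).ne'
    · rw [hm]; exact dvd_pow_self _ hm0.ne')
  rw [hd', ← pow_mul] at hm
  have hem : (e : ℕ) = d * m := Nat.pow_right_injective hpp.two_le hm
  have hm1 : m ≠ 1 := by
    rintro rfl
    apply h
    rw [subfield_eq_top_iff, hd', he, hem, mul_one]
  obtain ⟨r, hr, ⟨k, hk⟩⟩ := Nat.exists_prime_and_dvd hm1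
  obtain ⟨F₁, hF₁⟩ := exists_subfield (F := F) (p := p) (d := d * k) (by exact he)
    ⟨r, by rw [hem, hk]; ring⟩
  refine ⟨F₁, r, le_of_card_pow (m := k) (by rw [hF₁, hd', ← pow_mul]), hr, ?_⟩
  rw [he, hF₁, ← pow_mul, hem, hk]
  congr 1; ring

end Cfsg.Agent.H99.Asch
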