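import Cfsg.Agent.H99.Aschbacher.Clifford

/-!
Matrix units inside the matrix algebra: every system of matrix units is a tensor frame, and a matrix normalising
its span is a tensor product in that frame. Realisation of algebras over subfields.
-/

set_option autoImplicit false

open scoped MatrixGroups Matrix Kronecker

namespace Cfsg.Agent.H99.Asch

open Cfsg.Geo

variable {ι : Type} [Fintype ι] [DecidableEq ι] {F : Type*} [Field F]
variable {κ μ : Type} [Fintype κ] [DecidableEq κ] [Fintype μ] [DecidableEq μ]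

/-- Conjugation by an invertible matrix is injective. -/
lemma conj_inj (g : GL ι F) {A B : Matrix ι ι F}
    (h : (g : Matrix ι ι F) * A * ((g⁻¹ : GL ι F) : Matrix ι ι F) =
      (g : Matrix ι ι F) * B * ((g⁻¹ : GL ι F) : Matrix ι ι F)) : A = B :=
  (Units.mul_right_inj g).1 ((Units.mul_left_inj g⁻¹).1 h)

/-- The Kronecker product transported to the index set ι along e, as an algebra map in the pair of factors. -/
def tens (e : ι ≃ κ × μ) (a : Matrix κ κ F) (c : Matrix μ μ F) : Matrix ι ι F :=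
  Matrix.reindexAlgEquiv F F e.symm (a ⊗ₖ c)

lemma tens_apply (e : ι ≃ κ × μ) (a : Matrix κ κ F) (c : Matrix μ μ F) (x y : ι) :
    tens e a c x y = a (e x).1 (e y).1 * c (e x).2 (e y).2 := rfl

lemma tens_mul (e : ι ≃ κ × μ) (a a' : Matrix κ κ F) (c c' : Matrix μ μ F) :
    tens e a c * tens e a' c' = tens e (a * a') (c * c') := by
  rw [tens, tens, tens, ← map_mul, Matrix.mul_kronecker_mul]

lemma tens_one (e : ι ≃ κ × μ) : tens e (1 : Matrix κ κ F) (1 : Matrix μ μ F) = 1 := by
  rw [tens, Matrix.one_kronecker_one, map_one]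

/-- The left factor of a tensor frame as an algebra map. -/
def tensL (e : ι ≃ κ × μ) : Matrix κ κ F →ₐ[F] Matrix ι ι F where
  toFun a := tens e a 1
  map_one' := tens_one e
  map_mul' a b := by rw [tens_mul, mul_one]
  map_zero' := by rw [tens, Matrix.zero_kronecker, map_zero]
  map_add' a b := by rw [tens, tens, tens, Matrix.add_kronecker, map_add]
  commutes' r := by
    rw [Algebra.algebraMap_eq_smul_one, Algebra.algebraMap_eq_smul_one, tens, Matrix.smul_kronecker,
      Matrix.one_kronecker_one, map_smul, map_one]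

lemma tensL_apply (e : ι ≃ κ × μ) (a : Matrix κ κ F) : tensL e a = tens e a 1 := rfl

lemma tensL_injective [Nonempty μ] (e : ι ≃ κ × μ) : Function.Injective (tensL (F := F) e) := by
  intro a b hab
  ext i j
  obtain ⟨m⟩ := ‹Nonempty μ›
  have := congrArg (fun M => M (e.symm (i, m)) (e.symm (j, m))) hab
  simpa [tensL_apply, tens_apply, Matrix.one_apply] using this

/-- A matrix commuting with the left factor lies in the right factor. -/
lemma exists_tensR [Nonempty κ] (e : ι ≃ κ × μ) (M : Matrix ι ι F)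
    (h : ∀ a b : κ, M * tens e (Matrix.single a b 1) 1 = tens e (Matrix.single a b 1) 1 * M) :
    ∃ c : Matrix μ μ F, M = tens e 1 c := by
  obtain ⟨a₀⟩ := ‹Nonempty κ›
  let R : Matrix (κ × μ) (κ × μ) F := Matrix.reindexAlgEquiv F F e M
  have hR : ∀ a b : κ, R * (Matrix.single a b (1 : F) ⊗ₖ (1 : Matrix μ μ F)) =
      (Matrix.single a b (1 : F) ⊗ₖ (1 : Matrix μ μ F)) * R := by
    intro a b
    have := congrArg (Matrix.reindexAlgEquiv F F e) (h a b)
    rw [map_mul, map_mul] at this
    simpa [R, tens] using this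
  have key : ∀ a b x y i j, R (x, i) (a, j) * (if b = y then 1 else 0) =
      (if a = x then 1 else 0) * R (b, i) (y, j) := by
    intro a b x y i j
    have := congrArg (fun N => N (x, i) (y, j)) (hR a b)
    simp only [Matrix.mul_apply, Fintype.sum_prod_type, Matrix.kroneckerMap_apply, Matrix.single_apply,
      Matrix.one_apply] at this
    by_cases hb : b = y <;> by_cases ha : a = x <;>
      simpa [hb, ha, ite_and, Finset.sum_ite_eq', Finset.sum_ite_eq] using this
  refine ⟨Matrix.of fun i j => R (a₀, i) (a₀, j), ?_⟩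
  ext u v
  obtain ⟨⟨x, i⟩, rfl⟩ := e.symm.surjective u
  obtain ⟨⟨y, j⟩, rfl⟩ := e.symm.surjective v
  show R (x, i) (y, j) = _
  rw [tens_apply, e.apply_symm_apply, e.apply_symm_apply, Matrix.of_apply]
  show _ = (1 : Matrix κ κ F) x y * R (a₀, i) (a₀, j)
  rw [Matrix.one_apply]
  have h1 := key y a₀ x a₀ i j
  rw [if_pos rfl, mul_one] at h1
  rw [h1]
  by_cases hxy : x = y
  · rw [if_pos hxy.symm, if_pos hxy, one_mul]
  · rw [if_neg (fun h => hxy h.symm), if_neg hxy, zero_mul]
    try rw [zero_mul]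

/-- Every system of matrix units comes from a tensor frame. -/
theorem exists_frame [Nonempty κ] {f : κ → κ → Matrix ι ι F} (hf : IsMatrixUnits f) :
    ∃ (t : ℕ) (e : ι ≃ κ × Fin t) (P : GL ι F), ∀ a b,
      f a b = (P : Matrix ι ι F) * tens e (Matrix.single a b 1) 1 * ((P⁻¹ : GL ι F) : Matrix ι ι F) := by
  classical
  obtain ⟨a₀⟩ := ‹Nonempty κ›
  let W : Submodule F (ι → F) := LinearMap.range (Matrix.toLin' (f a₀ a₀))
  let t := Module.finrank F W
  let w := Module.finBasis F W
  let v : κ × Fin t → (ι → F) := fun p => f p.1 a₀ *ᵥ (w p.2 : ι → F)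
  have hW : ∀ x ∈ W, f a₀ a₀ *ᵥ x = x := by
    rintro _ ⟨y, rfl⟩
    rw [Matrix.toLin'_apply, Matrix.mulVec_mulVec, hf.mul, if_pos rfl]
  have hfv : ∀ a b p, f a b *ᵥ v p = if b = p.1 then v (a, p.2) else 0 := by
    intro a b p
    show f a b *ᵥ (f p.1 a₀ *ᵥ _) = _
    rw [Matrix.mulVec_mulVec, hf.mul]
    split_ifs with h
    · rfl
    · rw [Matrix.zero_mulVec]
  have hspan : ⊤ ≤ Submodule.span F (Set.range v) := by
    intro x _
    have : x = ∑ a, f a a₀ *ᵥ (f a₀ a *ᵥ x) := by
      simp only [Matrix.mulVec_mulVec, hf.mul, if_true]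
      rw [← Matrix.sum_mulVec, hf.sum, Matrix.one_mulVec]
    rw [this]
    refine Submodule.sum_mem _ fun a _ => ?_
    have hmem : f a₀ a *ᵥ x ∈ W :=
      ⟨f a₀ a *ᵥ x, by rw [Matrix.toLin'_apply, Matrix.mulVec_mulVec, hf.mul, if_pos rfl]⟩
    have hx := congrArg Subtype.val (w.sum_repr ⟨_, hmem⟩)
    simp only [AddSubmonoidClass.coe_finsetSum, Submodule.coe_smul] at hx
    rw [← hx, Matrix.mulVec_sum]
    refine Submodule.sum_mem _ fun j _ => ?_
    rw [Matrix.mulVec_smul]
    exact Submodule.smul_mem _ _ (Submodule.subset_span ⟨(a, j), rfl⟩)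
  have hind : LinearIndependent F v := by
    rw [Fintype.linearIndependent_iff]
    intro g hg p
    have h1 : f a₀ p.1 *ᵥ (∑ q, g q • v q) = 0 := by rw [hg, Matrix.mulVec_zero]
    rw [Matrix.mulVec_sum] at h1
    simp only [Matrix.mulVec_smul, hfv, smul_ite, smul_zero] at h1
    rw [Fintype.sum_prod_type, Finset.sum_eq_single p.1 (fun b _ hb => by simp [hb.symm])
      (by simp)] at h1
    simp only [if_true] at h1
    have h2 : ∀ j, v (a₀, j) = (w j : ι → F) := fun j => hW _ (w j).2
    simp only [h2] at h1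
    have h3 : ∑ j, g (p.1, j) • w j = 0 := Subtype.ext (by simpa using h1)
    exact (Fintype.linearIndependent_iff.1 w.linearIndependent) _ h3 p.2
  let B : Module.Basis (κ × Fin t) F (ι → F) := Module.Basis.mk hind hspan
  have hcard : Fintype.card ι = Fintype.card (κ × Fin t) := by
    have h1 : Module.finrank F (ι → F) = Fintype.card ι := by simp
    rw [← h1, Module.finrank_eq_card_basis B]
  let e : ι ≃ κ × Fin t := Fintype.equivOfCardEq hcard
  let B' : Module.Basis ι F (ι → F) := B.reindex e.symm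
  let P : GL ι F :=
    ⟨(Pi.basisFun F ι).toMatrix B', B'.toMatrix (Pi.basisFun F ι),
      Module.Basis.toMatrix_mul_toMatrix_flip _ _, Module.Basis.toMatrix_mul_toMatrix_flip _ _⟩
  have hP : ∀ x y, (P : Matrix ι ι F) x y = v (e y) x := by
    intro x y
    show (Pi.basisFun F ι).toMatrix B' x y = _
    rw [Module.Basis.toMatrix_apply]
    simp [B', B]
  refine ⟨t, e, P, fun a b => ?_⟩
  have hcomm : f a b * (P : Matrix ι ι F) = (P : Matrix ι ι F) * tens e (Matrix.single a b 1) 1 := by
    ext x y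
    obtain ⟨⟨c, j⟩, rfl⟩ := e.symm.surjective y
    have h1 : (f a b * (P : Matrix ι ι F)) x (e.symm (c, j)) = (f a b *ᵥ v (c, j)) x := by
      simp only [Matrix.mul_apply, Matrix.mulVec, dotProduct, hP, e.apply_symm_apply]
    have h2 : ((P : Matrix ι ι F) * tens e (Matrix.single a b (1 : F)) (1 : Matrix (Fin t) (Fin t) F) : Matrix ι ι F) x (e.symm (c, j)) =
        ∑ p : κ × Fin t, v p x * (Matrix.single a b (1 : F) p.1 c * (1 : Matrix (Fin t) (Fin t) F) p.2 j) := by
      rw [Matrix.mul_apply, ← Equiv.sum_comp e.symm]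
      refine Finset.sum_congr rfl fun q _ => ?_
      rw [hP, tens_apply]
      simp [Matrix.one_apply]
    rw [h1, h2, hfv, Finset.sum_eq_single (a, j)]
    · by_cases hb : b = c
      · subst hb; simp
      · simp [hb]
    · rintro ⟨a', j'⟩ _ hne
      by_cases ha : a' = a
      · subst ha
        have : j' ≠ j := fun h => hne (by rw [h])
        simp [this]
      · simp [Ne.symm ha]
    · simp
  rw [← hcomm, mul_assoc, ← Units.val_mul, mul_inv_cancel, Units.val_one, mul_one]

/-- An algebra automorphism of a full matrix algebra is inner (Skolem–Noether). -/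
theorem exists_inner (φ : Matrix κ κ F →ₐ[F] Matrix κ κ F) (hφ : Function.Injective φ) :
    ∃ g : GL κ F, ∀ a, φ a = (g : Matrix κ κ F) * a * ((g⁻¹ : GL κ F) : Matrix κ κ F) := by
  classical
  let L := (Matrix.toLinAlgEquiv' : Matrix κ κ F ≃ₐ[F] _)
  let e : Matrix κ κ F ≃ₐ[F] Matrix κ κ F :=
    AlgEquiv.ofBijective φ ⟨hφ, (LinearMap.injective_iff_surjective (f := φ.toLinearMap)).1 hφ⟩
  obtain ⟨T, hT⟩ := ((L.symm.trans e).trans L).eq_linearEquivConjAlgEquiv
  let g : GL κ F :=
    ⟨L.symm T.toLinearMap, L.symm T.symm.toLinearMap, by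
      rw [← map_mul]; simp [Module.End.mul_eq_comp, ← Module.End.one_eq_id], by
      rw [← map_mul]; simp [Module.End.mul_eq_comp, ← Module.End.one_eq_id]⟩
  refine ⟨g, fun a => ?_⟩
  apply L.injective
  have := congrArg (fun ψ : Module.End F (κ → F) ≃ₐ[F] Module.End F (κ → F) => ψ (L a)) hT
  simp only [AlgEquiv.trans_apply, AlgEquiv.symm_apply_apply] at this
  refine this.trans ?_
  rw [map_mul, map_mul, LinearEquiv.conjAlgEquiv_apply]
  simp [g, Module.End.mul_eq_comp, LinearMap.comp_assoc]

/-- A matrix normalising the span of matrix units in a tensor frame is a tensor product in that frame. -/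
theorem exists_tens_of_normalises [Nonempty κ] [Nonempty μ] (e : ι ≃ κ × μ) (h : GL ι F)
    (hh : ∀ a : Matrix κ κ F, ∃ b, (h : Matrix ι ι F) * tens e a 1 * ((h⁻¹ : GL ι F) : Matrix ι ι F) = tens e b 1) :
    ∃ (g : GL κ F) (c : GL μ F), (h : Matrix ι ι F) = tens e g c := by
  classical
  choose b hb using hh
  have binj := tensL_injective (F := F) e
  let φ : Matrix κ κ F →ₐ[F] Matrix κ κ F :=
    { toFun := b
      map_one' := binj (by rw [tensL_apply, ← hb, tens_one, mul_one, ← Units.val_mul, mul_inv_cancel,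
          Units.val_one, map_one])
      map_mul' := fun x y => binj (by
        rw [tensL_apply, ← hb, map_mul, tensL_apply, tensL_apply, ← hb, ← hb,
          show tens e (x * y) (1 : Matrix μ μ F) = tens e x 1 * tens e y 1 by rw [tens_mul, mul_one]]
        simp only [mul_assoc]
        rw [← mul_assoc ((h⁻¹ : GL ι F) : Matrix ι ι F) (h : Matrix ι ι F), ← Units.val_mul,
          inv_mul_cancel, Units.val_one, one_mul])
      map_zero' := binj (by
        rw [tensL_apply, ← hb, ← tensL_apply, map_zero, mul_zero, zero_mul])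
      map_add' := fun x y => binj (by
        rw [tensL_apply, ← hb, ← tensL_apply, map_add, map_add, mul_add, add_mul, tensL_apply,
          tensL_apply, hb, hb]
        rfl)
      commutes' := fun r => binj (by
        rw [tensL_apply, ← hb, ← tensL_apply, AlgHom.commutes, Algebra.algebraMap_eq_smul_one,
          mul_smul_comm, smul_mul_assoc, mul_one, ← Units.val_mul, mul_inv_cancel, Units.val_one]) }
  have hφ : Function.Injective φ := by
    intro x y hxy
    apply binj
    apply conj_inj h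
    rw [tensL_apply, tensL_apply, hb, hb, show b x = b y from hxy]
  obtain ⟨g, hg⟩ := exists_inner φ hφ
  let gi : GL ι F := Units.map (tensL e).toMonoidHom g
  let c₀ : GL ι F := gi⁻¹ * h
  have hcomm : ∀ a b', (c₀ : Matrix ι ι F) * tens e (Matrix.single a b' 1) 1 =
      tens e (Matrix.single a b' 1) 1 * (c₀ : Matrix ι ι F) := by
    intro a b'
    set s := tens e (Matrix.single a b' (1 : F)) (1 : Matrix μ μ F) with hs
    have h1 : (h : Matrix ι ι F) * s = (gi : Matrix ι ι F) * s * ((gi⁻¹ : GL ι F) : Matrix ι ι F) * (h : Matrix ι ι F) := by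
      have h2 : (gi : Matrix ι ι F) * s * ((gi⁻¹ : GL ι F) : Matrix ι ι F) =
          (h : Matrix ι ι F) * s * ((h⁻¹ : GL ι F) : Matrix ι ι F) := by
        rw [hs, hb, show b (Matrix.single a b' 1) = φ (Matrix.single a b' 1) from rfl, hg]
        show tensL e (g : Matrix κ κ F) * tensL e (Matrix.single a b' 1) * tensL e ((g⁻¹ : GL κ F) : Matrix κ κ F) =
          tensL e ((g : Matrix κ κ F) * Matrix.single a b' 1 * ((g⁻¹ : GL κ F) : Matrix κ κ F))
        rw [map_mul, map_mul]
      rw [h2, mul_assoc, ← Units.val_mul, inv_mul_cancel, Units.val_one, mul_one]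
    show ((gi⁻¹ * h : GL ι F) : Matrix ι ι F) * s = s * ((gi⁻¹ * h : GL ι F) : Matrix ι ι F)
    rw [Units.val_mul, mul_assoc, h1, ← mul_assoc, ← mul_assoc, ← mul_assoc, ← Units.val_mul,
      inv_mul_cancel, Units.val_one, one_mul, mul_assoc]
  obtain ⟨c, hc⟩ := exists_tensR e (c₀ : Matrix ι ι F) hcomm
  have hcomm' : ∀ a b', ((c₀⁻¹ : GL ι F) : Matrix ι ι F) * tens e (Matrix.single a b' 1) 1 =
      tens e (Matrix.single a b' 1) 1 * ((c₀⁻¹ : GL ι F) : Matrix ι ι F) := fun a b' =>
    ((Commute.units_inv_left (a := tens e (Matrix.single a b' 1) 1) (u := c₀) (hcomm a b')))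
  obtain ⟨c', hc'⟩ := exists_tensR e _ hcomm'
  have hcc : ∀ x y : Matrix μ μ F, tens e (1 : Matrix κ κ F) x = tens e 1 y → x = y := by
    intro x y hxy
    ext i j
    obtain ⟨k⟩ := ‹Nonempty κ›
    have := congrArg (fun M => M (e.symm (k, i)) (e.symm (k, j))) hxy
    simpa [tens_apply, Matrix.one_apply] using this
  have h1 : c * c' = 1 := hcc _ _ (by
    rw [show tens e (1 : Matrix κ κ F) (c * c') = tens e 1 c * tens e 1 c' by rw [tens_mul, one_mul],
      ← hc, ← hc', ← Units.val_mul, mul_inv_cancel, Units.val_one, tens_one])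
  have h2 : c' * c = 1 := hcc _ _ (by
    rw [show tens e (1 : Matrix κ κ F) (c' * c) = tens e 1 c' * tens e 1 c by rw [tens_mul, one_mul],
      ← hc, ← hc', ← Units.val_mul, inv_mul_cancel, Units.val_one, tens_one])
  refine ⟨g, ⟨c, c', h1, h2⟩, ?_⟩
  have : h = gi * c₀ := by simp [c₀]
  rw [this, Units.val_mul, hc]
  show tensL e (g : Matrix κ κ F) * _ = _
  rw [tensL_apply, tens_mul, mul_one, one_mul]

/-- Matrix units spanning everything have as many indices as the dimension. -/
lemma frame_size_one {t : ℕ} (e : ι ≃ κ × Fin t) (P : GL ι F) [Nonempty κ]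
    (h : ∀ M : Matrix ι ι F, ∃ a, M = (P : Matrix ι ι F) * tens e a 1 * ((P⁻¹ : GL ι F) : Matrix ι ι F))
    [Nonempty ι] : t = 1 := by
  obtain ⟨k⟩ := ‹Nonempty κ›
  obtain ⟨x⟩ := ‹Nonempty ι›
  have i₀ : Fin t := (e x).2
  by_contra ht
  have : Nontrivial (Fin t) := Fin.nontrivial_iff_two_le.2 (by have := i₀.pos; omega)
  obtain ⟨i₁, hne⟩ := exists_ne i₀
  let S : Matrix ι ι F := tens e (1 : Matrix κ κ F) (Matrix.single i₀ i₁ 1)
  obtain ⟨a, ha⟩ := h ((P : Matrix ι ι F) * S * ((P⁻¹ : GL ι F) : Matrix ι ι F))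
  have hSa : S = tens e a 1 := conj_inj P ha
  have := congrArg (fun M => M (e.symm (k, i₀)) (e.symm (k, i₁))) hSa
  simp [S, tens_apply, Ne.symm hne, Matrix.one_apply, Matrix.single_apply] at this

end Cfsg.Agent.H99.Asch
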