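import Cfsg.Agent.H99.Aschbacher.Perfect

/-!
Aschbacher's theorem for linear groups: every subgroup of GL(ι, F) in dimension at least three stabilises one of
the geometric structures or lies in the residual class.
-/

set_option autoImplicit false

open scoped MatrixGroups Matrix Kronecker commutatorElement

namespace Cfsg.Agent.H99.Asch

open Cfsg.Geo

variable {ι : Type} [Fintype ι] [DecidableEq ι] {F : Type*} [Field F]

lemma mDecomposition_card {t m : ℕ} {D : Fin t → Submodule F (ι → F)} (hD : IsMDecomposition m D) :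
    t * m = Fintype.card ι := by
  classical
  have hint : DirectSum.IsInternal D :=
    (DirectSum.isInternal_submodule_iff_iSupIndep_and_iSup_eq_top D).2 ⟨hD.indep, hD.iSup_eq_top⟩
  let B := hint.collectedBasis (fun i => Module.finBasisOfFinrankEq F (D i) (hD.finrank_eq i))
  have h := Module.finrank_eq_card_basis B
  simpa using h.symm

lemma fieldSubalgebra_dvd [Fintype F] {r : ℕ} {K : Subalgebra F (Matrix ι ι F)} (hK : IsFieldSubalgebra r K)
    [Nonempty ι] : r ∣ Fintype.card ι := by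
  classical
  have : Nontrivial K := ⟨⟨0, 1, fun e => zero_ne_one (congrArg Subtype.val e)⟩⟩
  have hF : IsField K :=
    { exists_pair_ne := exists_pair_ne _
      mul_comm := fun a b => Subtype.ext (hK.comm a a.2 b b.2)
      mul_inv_cancel := fun {a} ha => by
        obtain ⟨y, hy, hxy⟩ := hK.inv a a.2 (fun e => ha (Subtype.ext e))
        exact ⟨⟨y, hy⟩, Subtype.ext hxy⟩ }
  let _ : Field K := hF.toField
  let _ : Module K (ι → F) :=
    Module.compHom (ι → F) ((Matrix.toLinAlgEquiv' : Matrix ι ι F ≃ₐ[F] _).toAlgHom.comp K.val).toRingHom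
  have : IsScalarTower F K (ι → F) := ⟨fun c k v => by
    show Matrix.toLin' ((c • k : K) : Matrix ι ι F) v = c • Matrix.toLin' (k : Matrix ι ι F) v
    rw [Subalgebra.coe_smul, map_smul, LinearMap.smul_apply]⟩
  have h := @Module.finrank_mul_finrank F K (ι → F) _ _ _ _ _ _ this _ _ _ _
  rw [hK.finrank_eq, Module.finrank_fintype_fun_eq_card] at h
  exact ⟨_, h.symm⟩

/-- A symmetric invertible Gram matrix with zero diagonal, scaled by H, gives a similarity group. -/
lemma inForms_of_symm_gram [Fintype F] {G : Matrix ι ι F} {H : Subgroup (GL ι F)} (hu : IsUnit G) (hs : Gᵀ = G)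
    (h2 : (2 : F) = 0 → ∀ i, G i i = 0)
    (hH : ∀ h ∈ H, ∃ c : Fˣ, (h : Matrix ι ι F)ᵀ * G * (h : Matrix ι ι F) = (c : F) • G) : InForms H := by
  classical
  set f := gramForm (RingHom.id F) G with hf
  have hbil : IsBilinearForm f :=
    ⟨gramForm_add_left _ G, gramForm_smul_left _ G, gramForm_add_right _ G, gramForm_smul_right _ G⟩
  have hnd := gramForm_nondegenerate (RingHom.id F) hu
  have hsim : H ≤ similarityGroup f := by
    intro h hh
    obtain ⟨c, hc⟩ := hH h hh
    refine ⟨c, fun u v => ?_⟩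
    rw [hf, gramForm_mulVec, RingHom.coe_id, Matrix.map_id, hc, gramForm_smul_gram]
  have hsw : ∀ u v, f v u = f u v := by
    intro u v
    have := gramForm_swap (RingHom.id F) (fun a => rfl) G u v
    rw [RingHom.coe_id, Matrix.map_id, hs] at this
    exact this
  by_cases hc : (2 : F) = 0
  · left
    have hself : ∀ x y, f (x + y) (x + y) = f x x + f y y := by
      intro x y
      rw [hbil.add_left, hbil.add_right, hbil.add_right, hsw x y]
      linear_combination (f x y) * hc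
    have halt : ∀ v, f v v = 0 := by
      intro v
      let L : (ι → F) →+ F := AddMonoidHom.mk' (fun x => f x x) hself
      show L v = 0
      conv_lhs => rw [pi_eq_sum_univ' v]
      rw [map_sum]
      refine Finset.sum_eq_zero fun i _ => ?_
      show f (v i • Pi.single i 1) (v i • Pi.single i 1) = 0
      rw [hbil.smul_left, hbil.smul_right]
      have e : f (Pi.single i 1) (Pi.single i 1) = G i i := by
        have h1 : (RingHom.id F : F →+* F) ∘ (Pi.single i (1 : F)) = Pi.single i 1 := rfl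
        rw [hf, gramForm, h1]
        simp
      rw [e, h2 hc i, mul_zero, mul_zero]
    refine ⟨f, ⟨hbil, fun v w => ?_, halt, hnd⟩, hsim⟩
    rw [hsw w v]
    linear_combination (f w v) * hc
  · right; right
    have hodd : Odd (Fintype.card F) := by
      rcases Nat.even_or_odd (Fintype.card F) with he | ho
      · exfalso
        apply hc
        have hc' := FiniteField.even_card_iff_char_two.2 (Nat.even_iff.1 he)
        have : CharP F 2 := ringChar.of_eq hc'
        exact_mod_cast CharP.cast_eq_zero F 2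
      · exact ho
    have hpol : QuadraticMap.polar (fun v => f v v) = fun u v => 2 * f u v := by
      funext u v
      simp only [QuadraticMap.polar, hbil.add_left, hbil.add_right, hsw u v]
      ring
    refine ⟨fun v => f v v, ⟨fun c v => ?_, ?_, ?_⟩, hodd, fun h hh => ?_⟩
    · show f _ _ = _
      rw [hbil.smul_left, hbil.smul_right]; ring
    · rw [hpol]
      constructor <;> intros <;> simp only [hbil.add_left, hbil.add_right, hbil.smul_left, hbil.smul_right] <;> ring
    · rw [hpol]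
      intro v hv
      obtain ⟨⟨x, hx⟩, ⟨y, hy⟩⟩ := hnd v hv
      exact ⟨⟨x, mul_ne_zero hc hx⟩, ⟨y, mul_ne_zero hc hy⟩⟩
    · obtain ⟨c, hc'⟩ := hsim hh
      exact ⟨c, fun v => hc' v v⟩

lemma mem_tensorProductSubgroup_iff {n₁ n₂ : ℕ} {e : ι ≃ Fin n₁ × Fin n₂} {P x : GL ι F} :
    x ∈ tensorProductSubgroup n₁ n₂ e P ↔ ∃ (a : GL (Fin n₁) F) (b : GL (Fin n₂) F),
      (x : Matrix ι ι F) = (P : Matrix ι ι F) * tens e a b * ((P⁻¹ : GL ι F) : Matrix ι ι F) := by
  constructor
  · rintro ⟨_, ⟨k, ⟨a, b, hk⟩, rfl⟩, rfl⟩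
    refine ⟨a, b, ?_⟩
    show (P : Matrix ι ι F) * Matrix.reindexAlgEquiv F F e.symm (k : Matrix _ _ F) * _ = _
    rw [hk]; rfl
  · rintro ⟨a, b, hx⟩
    refine ⟨P⁻¹ * x * P, ⟨(glReindex e.symm).symm (P⁻¹ * x * P), ⟨a, b, ?_⟩, MulEquiv.apply_symm_apply _ _⟩,
      by simp [mul_assoc]⟩
    show (Matrix.reindexAlgEquiv F F e.symm).symm ((P⁻¹ * x * P : GL ι F) : Matrix ι ι F) = _
    rw [Units.val_mul, Units.val_mul, hx]
    simp only [← mul_assoc]
    rw [← Units.val_mul, inv_mul_cancel, Units.val_one, one_mul, mul_assoc, ← Units.val_mul, inv_mul_cancel,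
      Units.val_one, mul_one]
    exact AlgEquiv.symm_apply_apply _ _

lemma tensorProductSubgroup_swap {n₁ n₂ : ℕ} (e : ι ≃ Fin n₁ × Fin n₂) (P : GL ι F) :
    tensorProductSubgroup n₁ n₂ e P ≤ tensorProductSubgroup n₂ n₁ (e.trans (Equiv.prodComm _ _)) P := by
  intro x hx
  obtain ⟨a, b, hx⟩ := mem_tensorProductSubgroup_iff.1 hx
  refine mem_tensorProductSubgroup_iff.2 ⟨b, a, ?_⟩
  have : tens e (a : Matrix _ _ F) (b : Matrix _ _ F) = tens (e.trans (Equiv.prodComm _ _)) (b : Matrix _ _ F) a := by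
    ext u v
    rw [tens_apply, tens_apply, mul_comm]
    rfl
  rw [hx, this]

lemma tensorProductSubgroup_le_wreath {m : ℕ} (e : ι ≃ Fin m × Fin m) (P : GL ι F) :
    tensorProductSubgroup m m e P ≤ tensorWreathSubgroup m 2 (e.trans (finTwoArrowEquiv (Fin m)).symm) P := by
  intro x hx
  obtain ⟨a, b, hx⟩ := mem_tensorProductSubgroup_iff.1 hx
  refine ⟨P⁻¹ * x * P, ⟨(glReindex (e.trans (finTwoArrowEquiv (Fin m)).symm).symm).symm (P⁻¹ * x * P),
    Subgroup.subset_closure (Or.inl ⟨![a, b], fun u v => ?_⟩), MulEquiv.apply_symm_apply _ _⟩, by simp [mul_assoc]⟩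
  have h1 : ((P⁻¹ * x * P : GL ι F) : Matrix ι ι F) = tens e a b := by
    rw [Units.val_mul, Units.val_mul, hx]
    simp only [← mul_assoc]
    rw [← Units.val_mul, inv_mul_cancel, Units.val_one, one_mul, mul_assoc, ← Units.val_mul, inv_mul_cancel,
      Units.val_one, mul_one]
  rw [Fin.prod_univ_two]
  show (Matrix.reindexAlgEquiv F F (e.trans (finTwoArrowEquiv (Fin m)).symm).symm).symm
    ((P⁻¹ * x * P : GL ι F) : Matrix ι ι F) u v = _
  rw [h1]
  simp [Matrix.reindexAlgEquiv, tens_apply, finTwoArrowEquiv]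

/-- A tensor product of two two-dimensional spaces carries a form. -/
lemma inForms_of_two_two [Fintype F] {e : ι ≃ Fin 2 × Fin 2} {P : GL ι F} {H : Subgroup (GL ι F)}
    (hH : H ≤ tensorProductSubgroup 2 2 e P) : InForms H := by
  let J : Matrix (Fin 2) (Fin 2) F := !![0, 1; -1, 0]
  have hJg : ∀ g : Matrix (Fin 2) (Fin 2) F, gᵀ * J * g = g.det • J := by
    intro g
    ext i j
    rw [Matrix.det_fin_two]
    fin_cases i <;> fin_cases j <;> simp [J, Matrix.mul_apply, Fin.sum_univ_two] <;> ring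
  have hJT : Jᵀ = -J := by
    ext i j; fin_cases i <;> fin_cases j <;> simp [J]
  have htT : ∀ a b : Matrix (Fin 2) (Fin 2) F, (tens e a b)ᵀ = tens e aᵀ bᵀ := fun a b => by
    ext u v; rfl
  let G : Matrix ι ι F := ((P⁻¹ : GL ι F) : Matrix ι ι F)ᵀ * tens e J J * ((P⁻¹ : GL ι F) : Matrix ι ι F)
  have hJu : IsUnit J := by
    rw [Matrix.isUnit_iff_isUnit_det, Matrix.det_fin_two]
    simp [J]
  have htu : IsUnit (tens e J J) := by
    obtain ⟨U, hU⟩ := hJu
    rw [← hU]
    exact isUnit_iff_exists.2 ⟨tens e (U⁻¹ : GL (Fin 2) F) (U⁻¹ : GL (Fin 2) F),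
      by rw [tens_mul, ← Units.val_mul, mul_inv_cancel, Units.val_one, tens_one],
      by rw [tens_mul, ← Units.val_mul, inv_mul_cancel, Units.val_one, tens_one]⟩
  have hsym : (tens e J J)ᵀ = tens e J J := by
    rw [htT, hJT]
    ext u v
    simp [tens_apply]
  refine inForms_of_symm_gram (G := G)
    ((((Matrix.isUnit_transpose _).2 (Units.isUnit P⁻¹)).mul htu).mul (Units.isUnit P⁻¹)) ?_ ?_ ?_
  · simp only [G, Matrix.transpose_mul, Matrix.transpose_transpose, hsym, mul_assoc]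
  · intro h2 i
    have hdiag : ∀ w : ι → F, w ⬝ᵥ (tens e J J *ᵥ w) = 0 := by
      intro w
      simp only [dotProduct, Matrix.mulVec, tens_apply, ← Equiv.sum_comp e.symm,
        Fintype.sum_prod_type, Fin.sum_univ_two, e.apply_symm_apply]
      simp [J]
      linear_combination (w (e.symm (0, 0)) * w (e.symm (1, 1)) - w (e.symm (0, 1)) * w (e.symm (1, 0))) * h2
    have : G i i = ((P⁻¹ : GL ι F) : Matrix ι ι F).col i ⬝ᵥ (tens e J J *ᵥ ((P⁻¹ : GL ι F) : Matrix ι ι F).col i) := by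
      simp only [G, mul_assoc]
      rw [Matrix.mul_apply']
      congr 1
    rw [this, hdiag]
  · intro h hh
    obtain ⟨a, b, hab⟩ := mem_tensorProductSubgroup_iff.1 (hH hh)
    refine ⟨Matrix.GeneralLinearGroup.det a * Matrix.GeneralLinearGroup.det b, ?_⟩
    have hPP : (P : Matrix ι ι F)ᵀ * ((P⁻¹ : GL ι F) : Matrix ι ι F)ᵀ = 1 := by
      rw [← Matrix.transpose_mul, ← Units.val_mul, inv_mul_cancel, Units.val_one, Matrix.transpose_one]
    rw [hab, Matrix.transpose_mul, Matrix.transpose_mul, htT]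
    calc _ = ((P⁻¹ : GL ι F) : Matrix ι ι F)ᵀ * (tens e (a : Matrix (Fin 2) (Fin 2) F)ᵀ (b : Matrix (Fin 2) (Fin 2) F)ᵀ *
            ((P : Matrix ι ι F)ᵀ * ((P⁻¹ : GL ι F) : Matrix ι ι F)ᵀ) * tens e J J *
            (((P⁻¹ : GL ι F) : Matrix ι ι F) * (P : Matrix ι ι F)) * tens e a b) * ((P⁻¹ : GL ι F) : Matrix ι ι F) := by
          simp only [G, mul_assoc]
      _ = _ := by
          rw [hPP, ← Units.val_mul P⁻¹ P, inv_mul_cancel, Units.val_one, mul_one, mul_one, tens_mul, tens_mul,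
            hJg, hJg]
          rw [show tens e ((a : Matrix (Fin 2) (Fin 2) F).det • J) ((b : Matrix (Fin 2) (Fin 2) F).det • J) =
            ((a : Matrix (Fin 2) (Fin 2) F).det * (b : Matrix (Fin 2) (Fin 2) F).det) • tens e J J by
              ext u v; simp only [tens_apply, Matrix.smul_apply, smul_eq_mul]; ring,
            mul_smul_comm, smul_mul_assoc]
          rfl

lemma exists_minimal_normal [Finite F] {H : Subgroup (GL ι F)} (hns : ¬ H ≤ scalars ι F) :
    ∃ N, NormalIn H N ∧ ¬ N ≤ scalars ι F ∧ ∀ M, NormalIn H M → M ≤ N → M ≤ scalars ι F ∨ M = N := by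
  let P : Subgroup (GL ι F) → Prop := fun N => NormalIn H N ∧ ¬ N ≤ scalars ι F
  have hH : P H := ⟨⟨le_rfl, fun h hh x hx => H.mul_mem (H.mul_mem hh hx) (H.inv_mem hh)⟩, hns⟩
  obtain ⟨N, -, hN⟩ := Finite.exists_le_minimal hH
  refine ⟨N, hN.prop.1, hN.prop.2, fun M hM hle => ?_⟩
  by_contra hne
  push Not at hne
  exact hne.2 (le_antisymm hle (hN.2 ⟨hM, hne.1⟩ hle))

/-- Aschbacher's theorem for linear groups. -/
theorem aschbacher [Fintype F] (hn3 : 3 ≤ Fintype.card ι) (H : Subgroup (GL ι F)) :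
    (∃ W : Submodule F (ι → F), W ≠ ⊥ ∧ W ≠ ⊤ ∧ H ≤ subspaceStabilizer W) ∨
    Imprimitive H ∨
    (∃ (r : ℕ) (K : Subalgebra F (Matrix ι ι F)), r.Prime ∧ IsFieldSubalgebra r K ∧ H ≤ subalgebraNormalizer K) ∨
    (∃ (n₁ n₂ : ℕ) (e : ι ≃ Fin n₁ × Fin n₂) (P : GL ι F), 2 ≤ n₁ ∧ n₁ < n₂ ∧
      H ≤ tensorProductSubgroup n₁ n₂ e P) ∨
    (∃ (F₁ : Subfield F) (r : ℕ) (P : GL ι F), r.Prime ∧ Fintype.card F = Nat.card F₁ ^ r ∧
      H ≤ subfieldSubgroup F₁ P) ∨
    (∃ (r : ℕ) (R : Subgroup (GL ι F)) (m : ℕ), IsLinearSymplecticTypeData r R ∧ Fintype.card ι = r ^ m ∧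
      1 ≤ m ∧ H ≤ subgroupNormalizer R) ∨
    (∃ (m k : ℕ) (e : ι ≃ (Fin k → Fin m)) (P : GL ι F), 3 ≤ m ∧ 2 ≤ k ∧ H ≤ tensorWreathSubgroup m k e P) ∨
    InForms H ∨
    InLinearResidualClass H := by
  classical
  have : Nonempty ι := Fintype.card_pos_iff.1 (by omega)
  by_cases hirr : ActsIrreducibly (matrixSet H)
  swap
  · left
    rw [actsIrreducibly_iff] at hirr
    push Not at hirr
    obtain ⟨W, hW, hWb, hWt⟩ := hirr
    refine ⟨W, hWb, hWt, fun h hh => ?_⟩
    have hle : W.map (Matrix.toLin' (h : Matrix ι ι F)) ≤ W := isInv_iff_map_le.1 hW _ ⟨h, hh, rfl⟩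
    have heq : W.map (Matrix.toLin' (h : Matrix ι ι F)) = W :=
      Submodule.eq_of_le_of_finrank_eq hle
        (W.equivMapOfInjective _ (Matrix.mulVec_injective_of_isUnit (Units.isUnit h))).finrank_eq.symm
    intro v
    refine ⟨fun hv => hle ⟨v, hv, rfl⟩, fun hv => ?_⟩
    rw [← heq] at hv
    obtain ⟨w, hw, hwv⟩ := hv
    rwa [← Matrix.mulVec_injective_of_isUnit (Units.isUnit h) hwv]
  by_cases hprim : Imprimitive H
  · exact Or.inr (Or.inl hprim)
  have hns : ¬ H ≤ scalars ι F := by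
    intro hle
    obtain ⟨i, j, hij⟩ : ∃ i j : ι, i ≠ j := Fintype.exists_pair_of_one_lt_card (by omega)
    have hinv : IsInv (matrixSet H) (F ∙ (Pi.single i (1 : F))) := by
      rintro _ ⟨g, hg, rfl⟩ v hv
      obtain ⟨c, hc⟩ := (mem_scalars_iff g).1 (hle hg)
      show (g : Matrix ι ι F) *ᵥ v ∈ _
      rw [hc, Matrix.smul_mulVec, Matrix.one_mulVec]
      exact Submodule.smul_mem _ _ hv
    rcases actsIrreducibly_iff.1 hirr _ hinv with h | h
    · have h1 := (Submodule.span_singleton_eq_bot.1 h)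
      simp at h1
    · obtain ⟨c, hc⟩ := Submodule.mem_span_singleton.1 (h ▸ Submodule.mem_top : Pi.single j (1 : F) ∈ _)
      have := congrFun hc j
      simp [Ne.symm hij] at this
  obtain ⟨N, hN, hNs, hmin⟩ := exists_minimal_normal hns
  rcases normal_trichotomy hirr hprim hN hNs with h | ⟨n₁, n₂, e, P, h1, h2, hle⟩ | henv
  · exact Or.inr (Or.inr (Or.inl h))
  · rcases lt_trichotomy n₁ n₂ with hlt | rfl | hlt
    · exact Or.inr (Or.inr (Or.inr (Or.inl ⟨n₁, n₂, e, P, h1, hlt, hle⟩)))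
    · rcases Nat.lt_or_ge n₁ 3 with h3 | h3
      · have h4 : n₁ = 2 := by omega
        subst h4
        exact Or.inr (Or.inr (Or.inr (Or.inr (Or.inr (Or.inr (Or.inr (Or.inl (inForms_of_two_two hle))))))))
      · exact Or.inr (Or.inr (Or.inr (Or.inr (Or.inr (Or.inr (Or.inl ⟨n₁, 2, _, P, h3, le_rfl,
          hle.trans (tensorProductSubgroup_le_wreath e P)⟩))))))
    · exact Or.inr (Or.inr (Or.inr (Or.inl ⟨n₂, n₁, _, P, h2, hlt, hle.trans (tensorProductSubgroup_swap e P)⟩)))
  by_cases hcomm : ∀ x ∈ N, ∀ y ∈ N, x * y * x⁻¹ * y⁻¹ ∈ scalars ι F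
  · rcases symplecticType_case hn3 hN hNs henv hmin hcomm with h | h | h
    · exact Or.inr (Or.inr (Or.inr (Or.inr (Or.inl h))))
    · exact Or.inr (Or.inr (Or.inr (Or.inr (Or.inr (Or.inr (Or.inr (Or.inl h)))))))
    · exact Or.inr (Or.inr (Or.inr (Or.inr (Or.inr (Or.inl h)))))
  · have hperf : ⁅N, N⁆ = N := by
      have hle : ⁅N, N⁆ ≤ N :=
        Subgroup.commutator_le.2 fun x hx y hy => by
          rw [commutatorElement_def]
          exact N.mul_mem (N.mul_mem (N.mul_mem hx hy) (N.inv_mem hx)) (N.inv_mem hy)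
      refine (hmin _ ⟨hle.trans hN.1, fun h hh x hx => ?_⟩ hle).resolve_left fun hsc => ?_
      · have h1 : ⁅N, N⁆.map (MulAut.conj h).toMonoidHom ≤ ⁅N, N⁆ := by
          rw [Subgroup.map_commutator]
          exact Subgroup.commutator_mono (by rintro _ ⟨z, hz, rfl⟩; exact hN.2 h hh z hz)
            (by rintro _ ⟨z, hz, rfl⟩; exact hN.2 h hh z hz)
        exact h1 ⟨x, hx, rfl⟩
      · exact hcomm fun x hx y hy => hsc (Subgroup.commutator_mem_commutator hx hy)
    rcases perfect_case hn3 hN henv hmin hperf with h | h | h | h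
    · exact Or.inr (Or.inr (Or.inr (Or.inr (Or.inr (Or.inr (Or.inr (Or.inr h)))))))
    · exact Or.inr (Or.inr (Or.inr (Or.inr (Or.inl h))))
    · exact Or.inr (Or.inr (Or.inr (Or.inr (Or.inr (Or.inr (Or.inr (Or.inl h)))))))
    · exact Or.inr (Or.inr (Or.inr (Or.inr (Or.inr (Or.inr (Or.inl h))))))

end Cfsg.Agent.H99.Asch
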