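import Cfsg.Agent.H99.Aschbacher.Linear
import Cfsg.Agent.H98.MaximalBase
import Cfsg.Agent.H1.GLDerived
import Cfsg.Agent.H2.Basis

/-!
The special linear group is contained in no member of a geometric class, and the resulting list of possibilities
for a maximal subgroup of SL(ι, F).
-/

set_option autoImplicit false

open scoped MatrixGroups Matrix Kronecker commutatorElement

namespace Cfsg.Agent.H99.Asch

open Cfsg.Geo

variable {ι : Type} [Fintype ι] [DecidableEq ι] {F : Type*} [Field F]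

lemma exists_not_mem_two (hn3 : 3 ≤ Fintype.card ι) (a b : ι → F) :
    ∃ u, u ∉ Submodule.span F {a, b} := by
  classical
  refine SetLike.exists_not_mem_of_ne_top _ (fun h => ?_) rfl
  have h1 := finrank_span_le_card ({a, b} : Set (ι → F)) (R := F)
  rw [h, finrank_top, Module.finrank_fintype_fun_eq_card] at h1
  have h2 : ({a, b} : Set (ι → F)).toFinset.card ≤ 2 := by
    classical
    simpa using Finset.card_le_two (a := a) (b := b)
  omega

/-- A transvection fixing v and moving w to u, when u - w avoids the plane of v and w. -/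
lemma exists_sl_step {v w u : ι → F} (hv : v ≠ 0) (hw : w ∉ Submodule.span F {v})
    (hu : u ∉ Submodule.span F {v, w}) :
    ∃ g ∈ specialLinear ι F, (g : Matrix ι ι F) *ᵥ v = v ∧ (g : Matrix ι ι F) *ᵥ w = u := by
  have hnot : w ∉ Submodule.span F {v, u - w} := by
    intro h
    rw [Submodule.mem_span_pair] at h
    obtain ⟨a, b, hab⟩ := h
    by_cases hb : b = 0
    · subst hb
      rw [zero_smul, add_zero] at hab
      exact hw (Submodule.mem_span_singleton.2 ⟨a, hab⟩)
    · apply hu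
      rw [Submodule.mem_span_pair]
      refine ⟨-(b⁻¹ * a), b⁻¹ + 1, ?_⟩
      have : b • u = -a • v + (1 + b) • w := by
        conv_rhs => rw [add_smul, one_smul]
        rw [smul_sub] at hab
        linear_combination (norm := module) hab
      calc (-(b⁻¹ * a)) • v + (b⁻¹ + 1) • w = b⁻¹ • (-a • v + (1 + b) • w) := by
            rw [smul_add, smul_smul, smul_smul]
            congr 1
            · ring_nf
            · congr 1; field_simp
        _ = u := by rw [← this, smul_smul, inv_mul_cancel₀ hb, one_smul]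
  obtain ⟨φ, h1, h2⟩ := H98.exists_functional hnot
  have hφv : φ v = 0 := LinearMap.mem_ker.1 (h2 (Submodule.subset_span (by simp)))
  have hφa : φ (u - w) = 0 := LinearMap.mem_ker.1 (h2 (Submodule.subset_span (by simp)))
  refine ⟨H98.transGL φ (u - w) hφa, H98.transGL_mem_sl _ _ _, ?_, ?_⟩
  · rw [H98.transGL_mulVec, hφv, zero_smul, add_zero]
  · rw [H98.transGL_mulVec, h1, one_smul]; abel

/-- SL is transitive on independent pairs. -/
lemma exists_sl_pair (hn3 : 3 ≤ Fintype.card ι) {v w u : ι → F} (hv : v ≠ 0) (hw : w ∉ Submodule.span F {v})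
    (hu : u ∉ Submodule.span F {v}) :
    ∃ g ∈ specialLinear ι F, (g : Matrix ι ι F) *ᵥ v = v ∧ (g : Matrix ι ι F) *ᵥ w = u := by
  by_cases h : u ∈ Submodule.span F {v, w}
  · obtain ⟨s, hs⟩ := exists_not_mem_two hn3 v w
    have hsv : s ∉ Submodule.span F {v} := fun h' => hs (Submodule.span_mono (by simp) h')
    obtain ⟨g, hg, g1, g2⟩ := exists_sl_step hv hw hs
    have hus : u ∉ Submodule.span F {v, s} := by
      intro h'
      obtain ⟨a, b, hab⟩ := Submodule.mem_span_pair.1 h'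
      by_cases hb : b = 0
      · subst hb
        rw [zero_smul, add_zero] at hab
        exact hu (Submodule.mem_span_singleton.2 ⟨a, hab⟩)
      · apply hs
        have : s = b⁻¹ • (u - a • v) := by
          rw [← hab, add_sub_cancel_left, smul_smul, inv_mul_cancel₀ hb, one_smul]
        rw [this]
        exact Submodule.smul_mem _ _ (Submodule.sub_mem _ h (Submodule.smul_mem _ _ (Submodule.subset_span (by simp))))
    obtain ⟨g', hg', g1', g2'⟩ := exists_sl_step hv hsv hus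
    refine ⟨g' * g, Subgroup.mul_mem _ hg' hg, ?_, ?_⟩
    · rw [Units.val_mul, ← Matrix.mulVec_mulVec, g1, g1']
    · rw [Units.val_mul, ← Matrix.mulVec_mulVec, g2, g2']
  · exact exists_sl_step hv hw h

/-- SL is transitive on non-zero vectors. -/
lemma exists_sl_vec (hn3 : 3 ≤ Fintype.card ι) {v w : ι → F} (hv : v ≠ 0) (hw : w ≠ 0) :
    ∃ g ∈ specialLinear ι F, (g : Matrix ι ι F) *ᵥ v = w := by
  obtain ⟨s, hs⟩ := exists_not_mem_two hn3 v w
  have hs0 : s ≠ 0 := fun h => hs (h ▸ Submodule.zero_mem _)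
  have hvs : v ∉ Submodule.span F {s} := by
    intro h
    obtain ⟨a, ha⟩ := Submodule.mem_span_singleton.1 h
    by_cases ha0 : a = 0
    · exact hv (by rw [← ha, ha0, zero_smul])
    · apply hs
      have : s = a⁻¹ • v := by rw [← ha, smul_smul, inv_mul_cancel₀ ha0, one_smul]
      rw [this]
      exact Submodule.smul_mem _ _ (Submodule.subset_span (by simp))
  have hws : w ∉ Submodule.span F {s} := by
    intro h
    obtain ⟨a, ha⟩ := Submodule.mem_span_singleton.1 h
    by_cases ha0 : a = 0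
    · exact hw (by rw [← ha, ha0, zero_smul])
    · apply hs
      have : s = a⁻¹ • w := by rw [← ha, smul_smul, inv_mul_cancel₀ ha0, one_smul]
      rw [this]
      exact Submodule.smul_mem _ _ (Submodule.subset_span (by simp))
  obtain ⟨g, hg, -, h2⟩ := exists_sl_pair hn3 hs0 hvs hws
  exact ⟨g, hg, h2⟩

lemma sl_not_le_subspace (hn3 : 3 ≤ Fintype.card ι) {W : Submodule F (ι → F)} (h0 : W ≠ ⊥) (h1 : W ≠ ⊤) :
    ¬ specialLinear ι F ≤ subspaceStabilizer W := by
  intro h
  obtain ⟨v, hv, hv0⟩ := Submodule.exists_mem_ne_zero_of_ne_bot h0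
  obtain ⟨w, hw⟩ := SetLike.exists_not_mem_of_ne_top W h1 rfl
  obtain ⟨g, hg, hgv⟩ := exists_sl_vec hn3 hv0 (fun e : w = 0 => hw (e ▸ W.zero_mem))
  exact hw (hgv ▸ (h hg v).1 hv)

lemma sl_not_le_decomposition (hn3 : 3 ≤ Fintype.card ι) {t m : ℕ} {D : Fin t → Submodule F (ι → F)}
    (hD : IsMDecomposition m D) : ¬ specialLinear ι F ≤ decompositionStabilizer D := by
  intro h
  have ht := hD.two_le
  let i0 : Fin t := ⟨0, by omega⟩
  let i1 : Fin t := ⟨1, by omega⟩
  have h01 : i0 ≠ i1 := fun e => by simp [i0, i1] at e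
  have hne : ∀ i, D i ≠ ⊥ := fun i e => by
    have h' := hD.finrank_eq i
    rw [e, finrank_bot] at h'
    have := hD.pos
    omega
  have hdisj : ∀ i j, i ≠ j → ∀ x, x ∈ D i → x ∈ D j → x = 0 := fun i j hij x hi hj =>
    (Submodule.disjoint_def.1 (hD.indep.pairwiseDisjoint hij)) x hi hj
  obtain ⟨v, hv, hv0⟩ := Submodule.exists_mem_ne_zero_of_ne_bot (hne i0)
  obtain ⟨w, hw, hw0⟩ := Submodule.exists_mem_ne_zero_of_ne_bot (hne i1)
  have hwv : w ∉ Submodule.span F {v} := by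
    intro h'
    exact hw0 (hdisj i0 i1 h01 w ((Submodule.span_singleton_le_iff_mem _ _).2 hv h') hw)
  have huv : v + w ∉ Submodule.span F {v} := fun h' => hwv (by
    have := Submodule.sub_mem _ h' (Submodule.mem_span_singleton_self v)
    rwa [add_sub_cancel_left] at this)
  obtain ⟨g, hg, g1, g2⟩ := exists_sl_pair hn3 hv0 hwv huv
  obtain ⟨σ, hσ⟩ := h hg
  have hgv : v ∈ D (σ i0) := hσ i0 ▸ ⟨v, hv, by rw [Matrix.toLin'_apply, g1]⟩
  have hgw : v + w ∈ D (σ i1) := hσ i1 ▸ ⟨w, hw, by rw [Matrix.toLin'_apply, g2]⟩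
  have s0 : σ i0 = i0 := by
    by_contra hne'
    exact hv0 (hdisj _ _ hne' v hgv hv)
  have hsum : v + w ∈ D i0 ⊔ D i1 := Submodule.add_mem_sup hv hw
  by_cases s1 : σ i1 = i1
  · rw [s1] at hgw
    have := Submodule.sub_mem _ hgw hw
    rw [add_sub_cancel_right] at this
    exact hv0 (hdisj i0 i1 h01 v hv this)
  · have s1' : σ i1 ≠ i0 := fun e => h01.symm (σ.injective (e.trans s0.symm))
    have hd := hD.indep (σ i1)
    have hle : D i0 ⊔ D i1 ≤ ⨆ j, ⨆ (_ : j ≠ σ i1), D j :=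
      sup_le (le_iSup₂_of_le i0 (Ne.symm s1') le_rfl) (le_iSup₂_of_le i1 (Ne.symm s1) le_rfl)
    have := Submodule.disjoint_def.1 hd _ hgw (hle hsum)
    exact huv (this ▸ Submodule.zero_mem _)

/-- A subalgebra normalised by SL with all non-zero elements invertible is scalar. -/
lemma scalar_of_field_normalised (hn3 : 3 ≤ Fintype.card ι) {K : Subalgebra F (Matrix ι ι F)}
    (hinv : ∀ x ∈ K, x ≠ 0 → IsUnit x)
    (hnorm : ∀ g ∈ specialLinear ι F, ∀ x ∈ K, (g : Matrix ι ι F) * x * ((g⁻¹ : GL ι F) : Matrix ι ι F) ∈ K)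
    {x : Matrix ι ι F} (hx : x ∈ K) {v : ι → F} (hv : v ≠ 0) : x *ᵥ v ∈ Submodule.span F {v} := by
  by_contra hxv
  obtain ⟨φ, h1, h2⟩ := H98.exists_functional hxv
  have hφv : φ v = 0 := LinearMap.mem_ker.1 (h2 (Submodule.mem_span_singleton_self v))
  let t := H98.transGL φ v hφv
  let y : Matrix ι ι F := (t : Matrix ι ι F) * x * ((t⁻¹ : GL ι F) : Matrix ι ι F) - x
  have hy : y ∈ K := K.sub_mem (hnorm t (H98.transGL_mem_sl _ _ _) x hx) hx
  have hfix : ∀ z, φ z = 0 → ((t⁻¹ : GL ι F) : Matrix ι ι F) *ᵥ z = z := by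
    intro z hz
    conv_lhs => rw [show z = (t : Matrix ι ι F) *ᵥ z by rw [H98.transGL_mulVec, hz, zero_smul, add_zero]]
    exact H98.gl_inv_mulVec t z
  have hyv : y *ᵥ v = v := by
    rw [Matrix.sub_mulVec, ← Matrix.mulVec_mulVec, ← Matrix.mulVec_mulVec, hfix v hφv, H98.transGL_mulVec, h1,
      one_smul]
    abel
  let L : (ι → F) →ₗ[F] F × F := φ.prod (φ.comp (Matrix.mulVecLin x))
  obtain ⟨z, hz, hz0⟩ : ∃ z ∈ LinearMap.ker L, z ≠ 0 := by
    refine Submodule.exists_mem_ne_zero_of_ne_bot fun hker => ?_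
    have := LinearMap.finrank_le_finrank_of_injective (LinearMap.ker_eq_bot.1 hker)
    rw [Module.finrank_fintype_fun_eq_card, Module.finrank_prod, Module.finrank_self] at this
    omega
  simp only [L, LinearMap.mem_ker, LinearMap.prod_apply, Function.prod_apply, Prod.mk_eq_zero, LinearMap.comp_apply,
    Matrix.mulVecLin_apply] at hz
  have hyz : y *ᵥ z = 0 := by
    rw [Matrix.sub_mulVec, ← Matrix.mulVec_mulVec, ← Matrix.mulVec_mulVec, hfix z hz.1, H98.transGL_mulVec, hz.2,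
      zero_smul, add_zero, sub_self]
  have hy0 : y ≠ 0 := fun e => by
    rw [e, Matrix.zero_mulVec] at hyv
    exact hv hyv.symm
  exact hz0 (Matrix.mulVec_injective_of_isUnit (hinv y hy hy0) (hyz.trans (Matrix.mulVec_zero y).symm))

lemma eq_smul_one_of_mulVec {x : Matrix ι ι F} (hn3 : 3 ≤ Fintype.card ι)
    (h : ∀ v, v ≠ 0 → x *ᵥ v ∈ Submodule.span F {v}) : ∃ c : F, x = c • 1 := by
  have hx : ∀ v : ι → F, ∃ c : F, x *ᵥ v = c • v := fun v => by
    by_cases hv : v = 0
    · exact ⟨0, by rw [hv, Matrix.mulVec_zero, smul_zero]⟩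
    · obtain ⟨c, hc⟩ := Submodule.mem_span_singleton.1 (h v hv)
      exact ⟨c, hc.symm⟩
  choose c hc using hx
  have key : ∀ i j : ι, c (Pi.single i 1) = c (Pi.single j 1) := by
    intro i j
    rcases eq_or_ne i j with rfl | hij
    · rfl
    have h' := hc (Pi.single i 1 + Pi.single j 1)
    rw [Matrix.mulVec_add, hc, hc] at h'
    have hi := congrFun h' i
    have hj := congrFun h' j
    simp [hij, hij.symm] at hi hj
    rw [hi, hj]
  have : Nonempty ι := Fintype.card_pos_iff.1 (by omega)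
  obtain ⟨i0⟩ := this
  refine ⟨c (Pi.single i0 1), Matrix.ext_of_mulVec_single fun i => ?_⟩
  rw [hc, Matrix.smul_mulVec, Matrix.one_mulVec, key i i0]

lemma sl_not_le_field [Fintype F] (hn3 : 3 ≤ Fintype.card ι) {r : ℕ} (hr : r.Prime)
    {K : Subalgebra F (Matrix ι ι F)} (hK : IsFieldSubalgebra r K) :
    ¬ specialLinear ι F ≤ subalgebraNormalizer K := by
  intro h
  have hbot : K ≤ (⊥ : Subalgebra F (Matrix ι ι F)) := by
    intro x hx
    obtain ⟨c, hc⟩ := eq_smul_one_of_mulVec hn3 fun v hv =>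
      scalar_of_field_normalised hn3 (fun y hy hy0 => by
        obtain ⟨z, -, hz⟩ := hK.inv y hy hy0
        exact IsUnit.of_mul_eq_one (M := Matrix ι ι F) (a := y) z hz)
        (fun g hg y hy => (h hg y).1 hy) hx hv
    rw [hc, ← Algebra.algebraMap_eq_smul_one]
    exact Subalgebra.algebraMap_mem _ _
  have : Nonempty ι := Fintype.card_pos_iff.1 (by omega)
  have h1 : Module.finrank F K = 1 := by rw [le_bot_iff.1 hbot]; exact Subalgebra.finrank_bot
  have := hr.two_le
  rw [hK.finrank_eq] at h1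
  omega

lemma sl_not_le_tensor [Fintype F] (hn3 : 3 ≤ Fintype.card ι) {n₁ n₂ : ℕ} (h1 : 2 ≤ n₁) (h2 : 3 ≤ n₂)
    (e : ι ≃ Fin n₁ × Fin n₂) (P : GL ι F) : ¬ specialLinear ι F ≤ tensorProductSubgroup n₁ n₂ e P := by
  intro h
  have : NeZero n₁ := ⟨by omega⟩
  have : NeZero n₂ := ⟨by omega⟩
  let L : Matrix (Fin n₁) (Fin n₁) F →ₐ[F] Matrix ι ι F := (conjHom P).comp (tensL e)
  let E := Matrix.single (⟨0, by omega⟩ : Fin n₁) (⟨1, by omega⟩ : Fin n₁) (1 : F)
  let x := L E
  have hx : ∃ v, v ≠ 0 ∧ x *ᵥ v ∉ Submodule.span F {v} := by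
    by_contra hc
    push Not at hc
    obtain ⟨c, hc⟩ := eq_smul_one_of_mulVec hn3 hc
    have hE : E = c • 1 := by
      have hinj : Function.Injective L := fun a b hab => tensL_injective e (conj_inj P (by
        simpa only [L, AlgHom.comp_apply, conjHom_apply] using hab))
      apply hinj
      rw [map_smul, map_one]
      exact hc
    have := congrFun (congrFun hE ⟨0, by omega⟩) ⟨1, by omega⟩
    simp [E] at this
  obtain ⟨v, hv, hxv⟩ := hx
  obtain ⟨φ, f1, f2⟩ := H98.exists_functional hxv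
  have hφv : φ v = 0 := LinearMap.mem_ker.1 (f2 (Submodule.mem_span_singleton_self v))
  let t := H98.transGL φ v hφv
  obtain ⟨a, b, hab⟩ := mem_tensorProductSubgroup_iff.1 (h (H98.transGL_mem_sl φ v hφv))
  obtain ⟨c, hc⟩ : ∃ c, (t : Matrix ι ι F) * x * ((t⁻¹ : GL ι F) : Matrix ι ι F) = L c := by
    refine ⟨(a : Matrix (Fin n₁) (Fin n₁) F) * E * ((a⁻¹ : GL (Fin n₁) F) : Matrix (Fin n₁) (Fin n₁) F), ?_⟩
    rw [Units.mul_inv_eq_iff_eq_mul]
    show _ = _ * (t : Matrix ι ι F)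
    simp only [x, L, AlgHom.comp_apply, tensL_apply, conjHom_apply, hab, t]
    simp only [mul_assoc]
    simp only [← mul_assoc ((P⁻¹ : GL ι F) : Matrix ι ι F) (P : Matrix ι ι F), Units.inv_mul, one_mul]
    simp only [← mul_assoc (tens e _ _) (tens e _ _), tens_mul, one_mul, mul_one]
    rw [mul_assoc, mul_assoc, Units.inv_mul, mul_one]
  let y := L (c - E)
  have hy : y = (t : Matrix ι ι F) * x * ((t⁻¹ : GL ι F) : Matrix ι ι F) - x := by
    simp only [y, map_sub, hc, x]
  have hfix : ∀ z, φ z = 0 → ((t⁻¹ : GL ι F) : Matrix ι ι F) *ᵥ z = z := by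
    intro z hz
    conv_lhs => rw [show z = (t : Matrix ι ι F) *ᵥ z by rw [H98.transGL_mulVec, hz, zero_smul, add_zero]]
    exact H98.gl_inv_mulVec t z
  have hyv : y *ᵥ v = v := by
    rw [hy, Matrix.sub_mulVec, ← Matrix.mulVec_mulVec, ← Matrix.mulVec_mulVec, hfix v hφv, H98.transGL_mulVec,
      f1, one_smul]
    abel
  -- the image of y has dimension at most two
  let Lk : (ι → F) →ₗ[F] F × F := φ.prod (φ.comp (Matrix.mulVecLin x))
  have hker : LinearMap.ker Lk ≤ LinearMap.ker (Matrix.mulVecLin y) := by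
    intro z hz
    simp only [Lk, LinearMap.mem_ker, LinearMap.prod_apply, Function.prod_apply, Prod.mk_eq_zero,
      LinearMap.comp_apply, Matrix.mulVecLin_apply] at hz ⊢
    rw [hy, Matrix.sub_mulVec, ← Matrix.mulVec_mulVec, ← Matrix.mulVec_mulVec, hfix z hz.1, H98.transGL_mulVec,
      hz.2, zero_smul, add_zero, sub_self]
  have hrange : Module.finrank F (LinearMap.range (Matrix.mulVecLin y)) ≤ 2 := by
    have hA := LinearMap.finrank_range_add_finrank_ker (Matrix.mulVecLin y)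
    have hB := LinearMap.finrank_range_add_finrank_ker Lk
    have hC := Submodule.finrank_mono hker
    have hD := Submodule.finrank_le (LinearMap.range Lk)
    rw [Module.finrank_prod, Module.finrank_self] at hD
    omega
  -- but a non-zero element of the first factor has rank at least n₂
  have hd : c - E ≠ 0 := fun e' => by
    rw [show y = L (c - E) from rfl, e', map_zero, Matrix.zero_mulVec] at hyv
    exact hv hyv.symm
  obtain ⟨i, j, hij⟩ : ∃ i j, (c - E) i j ≠ 0 := by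
    by_contra hne
    push Not at hne
    exact hd (Matrix.ext hne)
  let S : (Fin n₂ → F) →ₗ[F] (ι → F) :=
    { toFun := fun s => (P : Matrix ι ι F) *ᵥ (fun p => if (e p).1 = j then s (e p).2 else 0)
      map_add' := fun s s' => by rw [← Matrix.mulVec_add]; congr 1; funext p; by_cases hp : (e p).1 = j <;> simp [hp]
      map_smul' := fun r s => by
        rw [RingHom.id_apply, ← Matrix.mulVec_smul]; congr 1; funext p; by_cases hp : (e p).1 = j <;> simp [hp] }
  have hinj : Function.Injective ((Matrix.mulVecLin y).comp S) := by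
    rw [injective_iff_map_eq_zero]
    intro s hs
    have hz : tens e (c - E) 1 *ᵥ (fun p => if (e p).1 = j then s (e p).2 else 0) = 0 := by
      refine Matrix.mulVec_injective_of_isUnit (Units.isUnit P) ?_
      rw [Matrix.mulVec_zero, ← hs]
      simp only [LinearMap.comp_apply, Matrix.mulVecLin_apply, S, LinearMap.coe_mk, AddHom.coe_mk, y, L,
        AlgHom.comp_apply, tensL_apply, conjHom_apply]
      rw [Matrix.mulVec_mulVec, Matrix.mulVec_mulVec, mul_assoc, mul_assoc, Units.inv_mul, mul_one]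
    funext k
    have hk := congrFun hz (e.symm (i, k))
    simp only [Matrix.mulVec, dotProduct, tens_apply, ← Equiv.sum_comp e.symm, Equiv.apply_symm_apply,
      Fintype.sum_prod_type, mul_ite, mul_zero, Matrix.one_apply, Pi.zero_apply] at hk
    have hk' : c i j - E i j = 0 ∨ s k = 0 := by simpa using hk
    exact hk'.resolve_left hij
  have := LinearMap.finrank_range_of_inj hinj
  rw [Module.finrank_fintype_fun_eq_card, Fintype.card_fin] at this
  have hle := Submodule.finrank_mono (LinearMap.range_comp_le_range S (Matrix.mulVecLin y))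
  omega

lemma sl_not_le_subfield [Fintype F] (hn3 : 3 ≤ Fintype.card ι) {r : ℕ} (hr : r.Prime) {F₀ : Subfield F}
    (hc : Fintype.card F = Nat.card F₀ ^ r) (P : GL ι F) :
    ¬ specialLinear ι F ≤ subfieldSubgroup F₀ P := by
  intro h
  obtain ⟨c, hcF⟩ : ∃ c, c ∉ F₀ := by
    by_contra hall
    push Not at hall
    have htop : F₀ = ⊤ := eq_top_iff.2 fun x _ => hall x
    have h2 := (subfield_eq_top_iff F₀).1 htop
    rw [h2] at hc
    have := Fintype.one_lt_card (α := F)
    have h3 := Nat.pow_lt_pow_right this hr.one_lt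
    rw [pow_one, ← hc] at h3
    exact lt_irrefl _ h3
  obtain ⟨i, j, hij⟩ : ∃ i j : ι, i ≠ j := Fintype.exists_pair_of_one_lt_card (by omega)
  let g : GL ι F := Matrix.SpecialLinearGroup.toGL (Matrix.SpecialLinearGroup.transvection hij c)
  have hg : P * g * P⁻¹ ∈ specialLinear ι F := by
    have hdet : g ∈ specialLinear ι F := by
      rw [specialLinear, MonoidHom.mem_ker]
      exact Units.ext (Matrix.SpecialLinearGroup.transvection hij c).det_coe
    rw [specialLinear, MonoidHom.mem_ker] at hdet ⊢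
    rw [map_mul, map_mul, hdet, mul_one, ← map_mul, mul_inv_cancel, map_one]
  obtain ⟨k, hk, hkg⟩ := h hg
  have hkg' : k = g := by
    have : P * k * P⁻¹ = P * g * P⁻¹ := hkg
    exact mul_left_cancel (mul_right_cancel this)
  subst hkg'
  obtain ⟨a, ha, z, hz, haz⟩ := Subgroup.mem_sup_of_normal_right.1 hk
  obtain ⟨a', rfl⟩ := ha
  obtain ⟨s, hs⟩ := (mem_scalars_iff z).1 hz
  have hent : ∀ p q, (g : Matrix ι ι F) p q = (s : F) * ((a' : Matrix ι ι F₀) p q : F) := by
    intro p q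
    rw [← haz, Units.val_mul, hs, mul_smul_comm, mul_one]
    rfl
  have hgc : (g : Matrix ι ι F) = Matrix.transvection i j c := rfl
  have e1 := hent i i
  have e2 := hent i j
  rw [hgc] at e1 e2
  simp [Matrix.transvection, Matrix.one_apply, hij, hij.symm] at e1 e2
  apply hcF
  have hsF : (s : F) ∈ F₀ := by
    rw [eq_inv_of_mul_eq_one_left e1.symm]
    exact F₀.inv_mem (Subtype.prop _)
  rw [e2]
  exact F₀.mul_mem hsF (Subtype.prop _)

/-- The second-centre subgroup of a p-group modulo a normal subgroup. -/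
lemma exists_second_center {G : Type*} [Group G] [Finite G] (R S : Subgroup G) [S.Normal] {r : ℕ} [Fact r.Prime]
    (hp : IsPGroup r R) (hne : ¬ R ≤ S) :
    ∃ A : Subgroup G, (∀ x, x ∈ A ↔ x ∈ R ∧ ∀ y ∈ R, y * x * y⁻¹ * x⁻¹ ∈ S) ∧ ¬ A ≤ S := by
  have hmem : ∀ x, x ∈ R ⊓ (Subgroup.centralizer ((R.map (QuotientGroup.mk' S) : Subgroup (G ⧸ S)) :
      Set (G ⧸ S))).comap (QuotientGroup.mk' S) ↔ x ∈ R ∧ ∀ y ∈ R, y * x * y⁻¹ * x⁻¹ ∈ S := by
    intro x
    rw [Subgroup.mem_inf, Subgroup.mem_comap, Subgroup.mem_centralizer_iff]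
    refine and_congr_right fun _ => ⟨fun h y hy => ?_, fun h q hq => ?_⟩
    · rw [← QuotientGroup.eq_one_iff]
      have := h _ (Subgroup.mem_map_of_mem (QuotientGroup.mk' S) hy)
      simp only [QuotientGroup.mk'_apply] at this
      simp only [QuotientGroup.mk_mul, QuotientGroup.mk_inv]
      rw [this]
      group
    · obtain ⟨y, hy, rfl⟩ := hq
      have := (QuotientGroup.eq_one_iff (N := S) _).2 (h y hy)
      simp only [QuotientGroup.mk_mul, QuotientGroup.mk_inv] at this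
      simp only [QuotientGroup.mk'_apply]
      exact mul_inv_eq_iff_eq_mul.1 (mul_inv_eq_one.1 this)
  refine ⟨_, hmem, fun hle => ?_⟩
  have : Nontrivial (R.map (QuotientGroup.mk' S)) := by
    rw [Subgroup.nontrivial_iff_ne_bot, ne_eq, Subgroup.map_eq_bot_iff, QuotientGroup.ker_mk']
    exact hne
  obtain ⟨⟨q, hqR⟩, hqc, hq1⟩ :=
    (Subgroup.nontrivial_iff_exists_ne_one _).1 (hp.map (QuotientGroup.mk' S)).center_nontrivial
  obtain ⟨x, hx, rfl⟩ := hqR
  refine hq1 (Subtype.ext ((QuotientGroup.eq_one_iff x).2 (hle (Subgroup.mem_inf.2 ⟨hx, ?_⟩))))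
  rw [Subgroup.mem_comap, Subgroup.mem_centralizer_iff]
  exact fun p hp' => congrArg Subtype.val (Subgroup.mem_center_iff.1 hqc ⟨p, hp'⟩)

lemma sl_not_le_symplecticType [Fintype F] (hn3 : 3 ≤ Fintype.card ι) {r : ℕ} {R : Subgroup (GL ι F)}
    (hR : IsLinearSymplecticTypeData r R) : ¬ specialLinear ι F ≤ subgroupNormalizer R := by
  classical
  intro h
  have : Nonempty ι := Fintype.card_pos_iff.1 (by omega)
  have hconj : ∀ g ∈ specialLinear ι F, ∀ x ∈ R, g * x * g⁻¹ ∈ R := fun g hg x hx =>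
    ((Subgroup.mem_normalizer_iff).1 (h hg) x).1 hx
  have hscal : ∀ x ∈ R, (∀ y ∈ R, x * y = y * x) → x ∈ scalars ι F := fun x _ hc =>
    mem_scalars_of_commute hR.absIrred hc
  -- the elements with scalar commutators
  have hne : ¬ R ≤ scalars ι F := by
    intro hRs
    obtain ⟨i, j, hij⟩ : ∃ i j : ι, i ≠ j := Fintype.exists_pair_of_one_lt_card (by omega)
    obtain ⟨c, hc⟩ := hR.absIrred.2 (Matrix.single i j (1 : F)) (by
      rintro _ ⟨s, hs, rfl⟩
      obtain ⟨d, hd⟩ := (mem_scalars_iff s).1 (hRs hs)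
      show _ * (s : Matrix ι ι F) = (s : Matrix ι ι F) * _
      rw [hd, mul_smul_comm, smul_mul_assoc, mul_one, one_mul])
    have := congrFun (congrFun hc i) j
    simp [hij] at this
  have : Fact r.Prime := ⟨hR.symplecticType.prime⟩
  obtain ⟨A, hmemA, hAns⟩ := exists_second_center R (scalars ι F) hR.symplecticType.pGroup hne
  have hAconj : ∀ g ∈ specialLinear ι F, ∀ x ∈ A, g * x * g⁻¹ ∈ A := by
    intro g hg x hx
    rw [hmemA] at hx ⊢
    refine ⟨hconj g hg x hx.1, fun y hy => ?_⟩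
    have hy' := hconj g⁻¹ (inv_mem hg) y hy
    have hc := hx.2 _ hy'
    rw [inv_inv] at hc
    have := scalars_normal.conj_mem _ hc g
    convert this using 1
    simp [mul_assoc]
  obtain ⟨x, hxA, hxs⟩ := SetLike.not_le_iff_exists.1 hAns
  obtain ⟨v₀, hv₀, hxv₀⟩ : ∃ v, v ≠ 0 ∧ (x : Matrix ι ι F) *ᵥ v ∉ Submodule.span F {v} := by
    by_contra hc
    push Not at hc
    obtain ⟨c, hc⟩ := eq_smul_one_of_mulVec hn3 hc
    exact hxs (mem_scalars_of_smul hc)
  -- A moves every non-zero vector to every vector off its line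
  have horb : ∀ v u : ι → F, v ≠ 0 → u ∉ Submodule.span F {v} → ∃ z ∈ A, (z : Matrix ι ι F) *ᵥ v = u := by
    intro v u hv hu
    obtain ⟨g, hg, hgv⟩ := exists_sl_vec hn3 hv₀ hv
    set x' := g * x * g⁻¹ with hx'
    have hgi : ((g⁻¹ : GL ι F) : Matrix ι ι F) *ᵥ v = v₀ := by rw [← hgv, H98.gl_inv_mulVec]
    have hxv : (x' : Matrix ι ι F) *ᵥ v = (g : Matrix ι ι F) *ᵥ ((x : Matrix ι ι F) *ᵥ v₀) := by
      rw [hx', Units.val_mul, Units.val_mul, ← Matrix.mulVec_mulVec, ← Matrix.mulVec_mulVec, hgi]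
    have hw : (x' : Matrix ι ι F) *ᵥ v ∉ Submodule.span F {v} := by
      rw [hxv, ← hgv]
      intro hm
      obtain ⟨c, hc⟩ := Submodule.mem_span_singleton.1 hm
      rw [← Matrix.mulVec_smul] at hc
      exact hxv₀ (Submodule.mem_span_singleton.2 ⟨c, Matrix.mulVec_injective_of_isUnit (Units.isUnit g) hc⟩)
    obtain ⟨g', hg', g1, g2⟩ := exists_sl_pair hn3 hv hw hu
    refine ⟨g' * x' * g'⁻¹, hAconj g' hg' _ (hAconj g hg x hxA), ?_⟩
    rw [Units.val_mul, Units.val_mul, ← Matrix.mulVec_mulVec, ← Matrix.mulVec_mulVec]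
    have : ((g'⁻¹ : GL ι F) : Matrix ι ι F) *ᵥ v = v := by
      conv_lhs => rw [← g1]
      exact H98.gl_inv_mulVec g' v
    rw [this, g2]
  -- A is absolutely irreducible
  have hirr : ActsIrreducibly (matrixSet A) := by
    rw [actsIrreducibly_iff]
    intro W hW
    rw [or_iff_not_imp_left]
    intro hW0
    obtain ⟨v, hv, hv0⟩ := Submodule.exists_mem_ne_zero_of_ne_bot hW0
    rw [eq_top_iff]
    intro u _
    by_cases hu : u ∈ Submodule.span F {v}
    · exact (Submodule.span_singleton_le_iff_mem _ _).2 hv hu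
    · obtain ⟨z, hz, rfl⟩ := horb v u hv0 hu
      exact hW _ ⟨z, hz, rfl⟩ v hv
  have hcommutant : ∀ M : Matrix ι ι F, (∀ s ∈ matrixSet A, M * s = s * M) → ∃ c : F, M = c • 1 := by
    let C : Subalgebra F (Matrix ι ι F) := Subalgebra.centralizer F (matrixSet A)
    intro M hM
    have hMC : M ∈ C := (Subalgebra.mem_centralizer_iff F).2 fun s hs => (hM s hs).symm
    refine eq_smul_one_of_mulVec hn3 fun v hv => scalar_of_field_normalised hn3 (K := C)
      (fun y hy hy0 => isUnit_of_irreducible hirr hy0 fun s hs => ((Subalgebra.mem_centralizer_iff F).1 hy s hs).symm)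
      (fun g hg y hy => (Subalgebra.mem_centralizer_iff F).2 ?_) hMC hv
    rintro _ ⟨s, hs, rfl⟩
    have hsA := hAconj g⁻¹ (inv_mem hg) s hs
    rw [inv_inv] at hsA
    have := (Subalgebra.mem_centralizer_iff F).1 hy _ ⟨_, hsA, rfl⟩
    have h' := congrArg (conjHom g) this
    rw [map_mul, map_mul, conjHom_coe] at h'
    simp only [conjHom_apply] at h'
    simpa [mul_assoc] using h'
  have henv : env A = ⊤ := env_eq_top ⟨hirr, hcommutant⟩
  have hcomm : ∀ a ∈ A, ∀ b ∈ A, a * b * a⁻¹ * b⁻¹ ∈ scalars ι F := fun a ha b hb =>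
    ((hmemA b).1 hb).2 a ((hmemA a).1 ha).1
  -- a transversal of the scalars in A
  let S : Subgroup A := (scalars ι F).subgroupOf A
  let ε : A ⧸ S ≃ Fin (Nat.card (A ⧸ S)) := Finite.equivFin _
  let T : Fin (Nat.card (A ⧸ S)) → GL ι F := fun i => ((ε.symm i).out : A)
  have hcard := (transversal_basis henv hcomm T (fun i => SetLike.coe_mem _)
    (fun a ha => by
      refine ⟨ε (QuotientGroup.mk ⟨a, ha⟩), a * (T (ε (QuotientGroup.mk ⟨a, ha⟩)))⁻¹, ?_, by simp⟩
      have hq : (QuotientGroup.mk ((QuotientGroup.mk ⟨a, ha⟩ : A ⧸ S).out) : A ⧸ S) = QuotientGroup.mk ⟨a, ha⟩ :=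
        QuotientGroup.out_eq' _
      have := QuotientGroup.eq.1 hq
      rw [Subgroup.mem_subgroupOf] at this
      have h2 := scalars_normal.conj_mem _ this (T (ε (QuotientGroup.mk ⟨a, ha⟩)))
      simp only [T, Equiv.symm_apply_apply, Subgroup.coe_mul, Subgroup.coe_inv] at h2 ⊢
      simpa [mul_assoc] using h2)
    (fun i j hij => by
      apply ε.symm.injective
      rw [← QuotientGroup.out_eq' (ε.symm i), ← QuotientGroup.out_eq' (ε.symm j), QuotientGroup.eq]
      rw [Subgroup.mem_subgroupOf]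
      have h2 := scalars_normal.conj_mem _ (inv_mem hij) (T i)⁻¹
      simp only [T, Subgroup.coe_mul, Subgroup.coe_inv] at h2 ⊢
      simpa [mul_assoc] using h2)).2.2
  rw [Fintype.card_fin] at hcard
  -- count the orbit of a vector
  let v : ι → F := v₀
  let f : Fin (Nat.card (A ⧸ S)) × F → (ι → F) := fun p => p.2 • ((T p.1 : Matrix ι ι F) *ᵥ v)
  have hsub : (Finset.univ : Finset (ι → F)) ⊆
      Finset.univ.image f ∪ Finset.univ.image (fun c : F => c • v) := by
    intro u _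
    rw [Finset.mem_union]
    by_cases hu : u ∈ Submodule.span F {v}
    · obtain ⟨c, hc⟩ := Submodule.mem_span_singleton.1 hu
      exact Or.inr (Finset.mem_image.2 ⟨c, Finset.mem_univ _, hc⟩)
    · left
      obtain ⟨z, hz, hzv⟩ := horb v u hv₀ hu
      let i := ε (QuotientGroup.mk ⟨z, hz⟩)
      have hq : (QuotientGroup.mk ((QuotientGroup.mk ⟨z, hz⟩ : A ⧸ S).out) : A ⧸ S) = QuotientGroup.mk ⟨z, hz⟩ :=
        QuotientGroup.out_eq' _
      have hs := QuotientGroup.eq.1 hq
      rw [Subgroup.mem_subgroupOf] at hs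
      obtain ⟨c, hc⟩ := (mem_scalars_iff _).1 hs
      refine Finset.mem_image.2 ⟨(i, (c : F)), Finset.mem_univ _, ?_⟩
      rw [← hzv]
      have : (z : Matrix ι ι F) = (T i : Matrix ι ι F) * ((c : F) • 1) := by
        rw [← hc, ← Units.val_mul]
        simp [T, i]
      show (c : F) • ((T i : Matrix ι ι F) *ᵥ v) = _
      rw [this, mul_smul_comm, mul_one, Matrix.smul_mulVec]
  have hle := (Finset.card_le_card hsub).trans (Finset.card_union_le _ _)
  have h1 := (Finset.card_image_le (s := (Finset.univ : Finset (Fin (Nat.card (A ⧸ S)) × F))) (f := f))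
  have h2 := (Finset.card_image_le (s := (Finset.univ : Finset F)) (f := fun c : F => c • v))
  simp only [Finset.card_univ, Fintype.card_prod, Fintype.card_fin, Fintype.card_fun, hcard] at hle h1 h2
  have hq4 : 4 ≤ Fintype.card F := by
    obtain ⟨p, e, -, ⟨hp, -, hcardF, hdvd, -⟩, hcases⟩ := hR.field
    rw [← hcardF] at hdvd
    have h1F := Fintype.one_lt_card (α := F)
    have hle' := Nat.le_of_dvd (by omega) hdvd
    have := hR.symplecticType.prime.two_le
    rcases hcases with ⟨hodd, -, hcz, -⟩ | ⟨-, -, hcz, -⟩ | ⟨-, -, hι, -⟩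
    · obtain ⟨k, hk⟩ := hodd
      omega
    · omega
    · omega
  obtain ⟨n, hn⟩ : ∃ n, Fintype.card ι = n + 3 := ⟨Fintype.card ι - 3, by omega⟩
  rw [hn] at hle h1
  have hpow : (n + 3) ^ 2 + 2 ≤ 4 ^ (n + 2) := by
    clear hle h1 hn hcard
    induction n with
    | zero => norm_num
    | succ n ih => rw [show 4 ^ (n + 1 + 2) = 4 * 4 ^ (n + 2) by ring]; nlinarith
  have : ((n + 3) ^ 2 + 2) * Fintype.card F ≤ Fintype.card F ^ (n + 3) := by
    rw [show n + 3 = (n + 2) + 1 by ring, pow_succ]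
    exact Nat.mul_le_mul_right _ (hpow.trans (Nat.pow_le_pow_left hq4 _))
  rw [Nat.add_mul] at this
  omega

lemma sl_not_le_similarity [Fintype F] (hn3 : 3 ≤ Fintype.card ι) (σ : F →+* F) (hσ : Function.Surjective σ)
    {f : (ι → F) → (ι → F) → F} (hadd : ∀ v x y, f v (x + y) = f v x + f v y)
    (hsmul : ∀ (c : F) v x, f v (c • x) = σ c * f v x) (hnd : IsNondegenerateForm f) :
    ¬ specialLinear ι F ≤ similarityGroup f := by
  intro h
  obtain ⟨v, hv⟩ : ∃ v : ι → F, v ≠ 0 := by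
    obtain ⟨s, hs⟩ := exists_not_mem_two (F := F) hn3 0 0
    exact ⟨s, fun e => hs (by rw [e]; exact Submodule.zero_mem _)⟩
  obtain ⟨-, w₀, hw₀⟩ := hnd v hv
  obtain ⟨s, hs⟩ := exists_not_mem_two hn3 v v
  have hs' : s ∉ Submodule.span F {v} := fun h' => hs (Submodule.span_mono (by simp) h')
  obtain ⟨s', hs2⟩ := exists_not_mem_two hn3 v s
  obtain ⟨u, hu, hfu⟩ : ∃ u, u ∉ Submodule.span F {v} ∧ f v u = 0 := by
    by_cases h2 : f v s = 0
    · exact ⟨s, hs', h2⟩
    obtain ⟨c, hc⟩ := hσ (-(f v s' / f v s))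
    refine ⟨s' + c • s, fun hm => hs2 ?_, ?_⟩
    · obtain ⟨a, ha⟩ := Submodule.mem_span_singleton.1 hm
      rw [Submodule.mem_span_pair]
      exact ⟨a, -c, by rw [ha, neg_smul, add_neg_cancel_right]⟩
    · rw [hadd, hsmul, hc, neg_mul, div_mul_cancel₀ _ h2, add_neg_cancel]
  obtain ⟨w, hw, hfw⟩ : ∃ w, w ∉ Submodule.span F {v} ∧ f v w ≠ 0 := by
    by_cases hw : w₀ ∈ Submodule.span F {v}
    · refine ⟨w₀ + u, fun hm => hu ?_, ?_⟩
      · have := Submodule.sub_mem _ hm hw
        rwa [add_sub_cancel_left] at this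
      · rwa [hadd, hfu, add_zero]
    · exact ⟨w₀, hw, hw₀⟩
  obtain ⟨g, hg, g1, g2⟩ := exists_sl_pair hn3 hv hw hu
  obtain ⟨c, hc⟩ := h hg
  have := hc v w
  rw [g1, g2, hfu] at this
  exact hfw ((mul_eq_zero.1 this.symm).resolve_left c.ne_zero)

lemma symplectic_even {f : (ι → F) → (ι → F) → F} (hf : IsSymplecticForm f) : Even (Fintype.card ι) := by
  let B : LinearMap.BilinForm F (ι → F) :=
    LinearMap.mk₂ F f hf.bilinear.add_left (fun c x v => hf.bilinear.smul_left c x v)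
      hf.bilinear.add_right (fun c v x => hf.bilinear.smul_right c v x)
  obtain ⟨m, b, -⟩ := H2.exists_symplectic_basis B
    ⟨fun v hv => by
        by_contra hv0
        obtain ⟨-, ⟨y, hy⟩⟩ := hf.nondegenerate v hv0
        exact hy (hv y),
      fun v hv => by
        by_contra hv0
        obtain ⟨⟨y, hy⟩, -⟩ := hf.nondegenerate v hv0
        exact hy (hv y)⟩ hf.alternating
  have hb := Module.finrank_eq_card_basis b
  simp at hb
  exact ⟨m, hb⟩

lemma sl_le_commutator [Fintype F] (hn3 : 3 ≤ Fintype.card ι) :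
    specialLinear ι F ≤ ⁅specialLinear ι F, specialLinear ι F⁆ := by
  have e : specialLinear ι F = (⊤ : Subgroup (Matrix.SpecialLinearGroup ι F)).map Matrix.SpecialLinearGroup.toGL := by
    rw [← MonoidHom.range_eq_map]
    exact H1.ker_det_eq_range_toGL
  rw [e, ← Subgroup.map_commutator]
  have := H1.commutator_SL_eq_top (ι := ι) (F := F) (Or.inl hn3)
  rw [commutator_def] at this
  rw [this]

/-- The derived group of a tensor wreath group with two factors is in the tensor product group. -/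
lemma wreath_commutator_le_tensor {m : ℕ} (e : ι ≃ (Fin 2 → Fin m)) (P : GL ι F) :
    ⁅tensorWreathSubgroup m 2 e P, tensorWreathSubgroup m 2 e P⁆ ≤
      tensorProductSubgroup m m (e.trans (finTwoArrowEquiv (Fin m))) P := by
  -- normal forms in the standard group
  have hnf : ∀ g ∈ tensorWreathStandard m 2 F, ∃ (a : Fin 2 → GL (Fin m) F) (σ : Equiv.Perm (Fin 2)),
      g = tpowUnit a * permUnit σ := by
    intro g hg
    have hconj : ∀ (σ : Equiv.Perm (Fin 2)) (a : Fin 2 → GL (Fin m) F),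
        permUnit σ * tpowUnit a = tpowUnit (a ∘ σ.symm) * (permUnit σ : GL (Fin 2 → Fin m) F) := by
      intro σ a
      rw [← mul_inv_eq_iff_eq_mul]
      ext1
      exact permMat_conj σ fun i => ((a i : GL (Fin m) F) : Matrix (Fin m) (Fin m) F)
    have hmul : ∀ a b : Fin 2 → GL (Fin m) F, tpowUnit a * tpowUnit b = tpowUnit (a * b) := fun a b =>
      Units.ext (tpow_mul _ _).symm
    have hperm : ∀ σ τ : Equiv.Perm (Fin 2), ∃ ρ, (permUnit σ * permUnit τ : GL (Fin 2 → Fin m) F) = permUnit ρ := by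
      intro σ τ
      refine ⟨σ * τ, Units.ext ?_⟩
      show permMat σ * permMat τ = _
      ext x y
      rw [permMat_mul_apply]
      simp [permMat, permUnit, Function.comp_assoc]
      exact if_congr Iff.rfl rfl rfl
    induction hg using Subgroup.closure_induction with
    | mem x hx =>
      rcases hx with ⟨gs, hgs⟩ | ⟨σ, hσ⟩
      · refine ⟨gs, 1, ?_⟩
        rw [show (permUnit 1 : GL (Fin 2 → Fin m) F) = 1 from Units.ext (by
          ext x y; simp [permUnit, permMat, Matrix.one_apply, eq_comm]), mul_one]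
        exact Units.ext (Matrix.ext hgs)
      · refine ⟨1, σ, ?_⟩
        rw [show (tpowUnit 1 : GL (Fin 2 → Fin m) F) = 1 from Units.ext tpow_one, one_mul]
        exact Units.ext (Matrix.ext fun x y => by simp [hσ x y, permUnit, permMat])
    | one =>
      exact ⟨1, 1, by
        rw [show (tpowUnit 1 : GL (Fin 2 → Fin m) F) = 1 from Units.ext tpow_one, one_mul]
        exact Units.ext (by ext x y; simp [permUnit, permMat, Matrix.one_apply, eq_comm])⟩
    | mul x y _ _ hx hy =>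
      obtain ⟨a, σ, rfl⟩ := hx
      obtain ⟨b, τ, rfl⟩ := hy
      obtain ⟨ρ, hρ⟩ := hperm σ τ
      refine ⟨a * (b ∘ σ.symm), ρ, ?_⟩
      rw [mul_assoc, ← mul_assoc (permUnit σ), hconj, mul_assoc, hρ, ← mul_assoc, hmul]
    | inv x _ hx =>
      obtain ⟨a, σ, rfl⟩ := hx
      refine ⟨a⁻¹ ∘ σ, σ⁻¹, ?_⟩
      have h1 : (permUnit σ : GL (Fin 2 → Fin m) F)⁻¹ = permUnit σ⁻¹ := Units.ext rfl
      rw [mul_inv_rev, h1, show (tpowUnit a : GL (Fin 2 → Fin m) F)⁻¹ = tpowUnit a⁻¹ from Units.ext rfl, hconj]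
      rfl
  have hS : ∀ g₁ ∈ tensorWreathStandard m 2 F, ∀ g₂ ∈ tensorWreathStandard m 2 F,
      ∃ a : Fin 2 → GL (Fin m) F, ⁅g₁, g₂⁆ = tpowUnit a := by
    intro g₁ h₁ g₂ h₂
    obtain ⟨a, σ, rfl⟩ := hnf g₁ h₁
    obtain ⟨b, τ, rfl⟩ := hnf g₂ h₂
    let N : Subgroup (GL (Fin 2 → Fin m) F) :=
      { carrier := Set.range (tpowUnit (F := F) (k := 2) (s := m))
        mul_mem' := by rintro _ _ ⟨a, rfl⟩ ⟨b, rfl⟩; exact ⟨a * b, Units.ext (tpow_mul _ _)⟩
        one_mem' := ⟨1, Units.ext tpow_one⟩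
        inv_mem' := by rintro _ ⟨a, rfl⟩; exact ⟨a⁻¹, Units.ext rfl⟩ }
    have hN : ∀ (π : Equiv.Perm (Fin 2)), ∀ x ∈ N, permUnit π * x * (permUnit π)⁻¹ ∈ N := by
      rintro π _ ⟨c, rfl⟩
      exact ⟨c ∘ π.symm, Units.ext (permMat_conj π fun i => ((c i : GL (Fin m) F) : Matrix (Fin m) (Fin m) F)).symm⟩
    have hcomm : (permUnit σ : GL (Fin 2 → Fin m) F) * permUnit τ = permUnit τ * permUnit σ := by
      have hp : ∀ π : Equiv.Perm (Fin 2), π = 1 ∨ π = Equiv.swap 0 1 := by decide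
      have h1 : (permUnit 1 : GL (Fin 2 → Fin m) F) = 1 := Units.ext (by
        ext x y; simp [permUnit, permMat, Matrix.one_apply, eq_comm])
      rcases hp σ with rfl | rfl
      · rw [h1, one_mul, mul_one]
      · rcases hp τ with rfl | rfl
        · rw [h1, one_mul, mul_one]
        · rfl
    have key : ⁅tpowUnit a * permUnit σ, tpowUnit b * permUnit τ⁆ = tpowUnit a *
        (permUnit σ * tpowUnit b * (permUnit σ)⁻¹) * (permUnit τ * (tpowUnit a)⁻¹ * (permUnit τ)⁻¹) *
        (tpowUnit b : GL (Fin 2 → Fin m) F)⁻¹ := by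
      rw [commutatorElement_def, mul_inv_rev, mul_inv_rev]
      have hcomm' : permUnit τ * (permUnit σ)⁻¹ = (permUnit σ)⁻¹ * (permUnit τ : GL (Fin 2 → Fin m) F) := by
        rw [eq_inv_mul_iff_mul_eq, ← mul_assoc, hcomm, mul_inv_cancel_right]
      simp only [mul_assoc]
      rw [← mul_assoc (permUnit τ) (permUnit σ)⁻¹, hcomm', mul_assoc]
    obtain ⟨c, hc⟩ : _ ∈ N := key ▸ N.mul_mem (N.mul_mem (N.mul_mem ⟨a, rfl⟩ (hN σ _ ⟨b, rfl⟩))
      (hN τ _ (N.inv_mem ⟨a, rfl⟩))) (N.inv_mem ⟨b, rfl⟩)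
    exact ⟨c, hc.symm⟩
  rw [Subgroup.commutator_le]
  intro x hx y hy
  obtain ⟨_, ⟨g₁, h₁, rfl⟩, rfl⟩ := hx
  obtain ⟨_, ⟨g₂, h₂, rfl⟩, rfl⟩ := hy
  obtain ⟨a, ha⟩ := hS g₁ h₁ g₂ h₂
  rw [← map_commutatorElement, ← map_commutatorElement, ha]
  refine mem_tensorProductSubgroup_iff.2 ⟨a 0, a 1, ?_⟩
  show (P : Matrix ι ι F) * _ * _ = _
  congr 2
  ext u w
  simp [glReindex, tpowUnit, tpow_apply, tens_apply, finTwoArrowEquiv, Fin.prod_univ_two,
    Matrix.reindexAlgEquiv]

lemma sl_not_le_wreath [Fintype F] (hn3 : 3 ≤ Fintype.card ι) {m : ℕ} (hm : 3 ≤ m)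
    (e : ι ≃ (Fin 2 → Fin m)) (P : GL ι F) : ¬ specialLinear ι F ≤ tensorWreathSubgroup m 2 e P := fun h =>
  sl_not_le_tensor hn3 (n₁ := m) (by omega) hm (e.trans (finTwoArrowEquiv (Fin m))) P
    ((sl_le_commutator hn3).trans ((Subgroup.commutator_mono h h).trans (wreath_commutator_le_tensor e P)))

lemma eq_inf_of_maximal {H M : Subgroup (GL ι F)} (hH : IsMaximalIn (specialLinear ι F) H) (hle : H ≤ M)
    (hM : ¬ specialLinear ι F ≤ M) : H = M ⊓ specialLinear ι F :=
  ((hH.2 _ (le_inf hle hH.1.le) inf_le_right).resolve_right fun e => hM (inf_eq_right.1 e)).symm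

/-- The possibilities for a maximal subgroup of SL(ι, F) in dimension 3 to 26. -/
theorem maximal_cases [Fintype F] (hn3 : 3 ≤ Fintype.card ι) (hn : Fintype.card ι ≤ 26)
    {H : Subgroup (GL ι F)} (hH : IsMaximalIn (specialLinear ι F) H) :
    (∃ W : Submodule F (ι → F), W ≠ ⊥ ∧ W ≠ ⊤ ∧ H = subspaceStabilizer W ⊓ specialLinear ι F) ∨
    (∃ (t m : ℕ) (D : Fin t → Submodule F (ι → F)), IsMDecomposition m D ∧ t * m = Fintype.card ι ∧
      H = decompositionStabilizer D ⊓ specialLinear ι F) ∨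
    (∃ (r : ℕ) (K : Subalgebra F (Matrix ι ι F)), r.Prime ∧ r ∣ Fintype.card ι ∧ IsFieldSubalgebra r K ∧
      H = subalgebraNormalizer K ⊓ specialLinear ι F) ∨
    (∃ (n₁ n₂ : ℕ) (e : ι ≃ Fin n₁ × Fin n₂) (P : GL ι F), 2 ≤ n₁ ∧ n₁ < n₂ ∧ Fintype.card ι = n₁ * n₂ ∧
      H = tensorProductSubgroup n₁ n₂ e P ⊓ specialLinear ι F) ∨
    (∃ (F₁ : Subfield F) (r : ℕ) (P : GL ι F), r.Prime ∧ Fintype.card F = Nat.card F₁ ^ r ∧
      H = subfieldSubgroup F₁ P ⊓ specialLinear ι F) ∨
    (∃ (r : ℕ) (R : Subgroup (GL ι F)) (m : ℕ), IsLinearSymplecticTypeData r R ∧ Fintype.card ι = r ^ m ∧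
      1 ≤ m ∧ H = subgroupNormalizer R ⊓ specialLinear ι F) ∨
    (∃ (m : ℕ) (e : ι ≃ (Fin 2 → Fin m)) (P : GL ι F), 3 ≤ m ∧ Fintype.card ι = m ^ 2 ∧
      H = tensorWreathSubgroup m 2 e P ⊓ specialLinear ι F) ∨
    (Even (Fintype.card ι) ∧ ∃ f, IsSymplecticForm f ∧ H = similarityGroup f ⊓ specialLinear ι F) ∨
    (∃ (σ : F ≃+* F) (f : (ι → F) → (ι → F) → F), IsUnitaryForm σ f ∧
      H = similarityGroup f ⊓ specialLinear ι F) ∨
    (Odd (Fintype.card F) ∧ ∃ Q : (ι → F) → F, IsNondegenerateQuadraticForm Q ∧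
      H = quadSimilarityGroup Q ⊓ specialLinear ι F) ∨
    InLinearResidualClass H := by
  have : Nonempty ι := Fintype.card_pos_iff.1 (by omega)
  rcases aschbacher hn3 H with ⟨W, h1, h2, h⟩ | ⟨t, m, D, hD, h⟩ | ⟨r, K, hr, hK, h⟩ |
    ⟨n₁, n₂, e, P, h1, h2, h⟩ | ⟨F₁, r, P, hr, hc, h⟩ | ⟨r, R, m, hR, hm, hm1, h⟩ | ⟨m, k, e, P, h1, h2, h⟩ |
    hf | h
  · exact Or.inl ⟨W, h1, h2, eq_inf_of_maximal hH h (sl_not_le_subspace hn3 h1 h2)⟩
  · exact Or.inr (Or.inl ⟨t, m, D, hD, mDecomposition_card hD,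
      eq_inf_of_maximal hH h (sl_not_le_decomposition hn3 hD)⟩)
  · exact Or.inr (Or.inr (Or.inl ⟨r, K, hr, fieldSubalgebra_dvd hK, hK,
      eq_inf_of_maximal hH h (sl_not_le_field hn3 hr hK)⟩))
  · exact Or.inr (Or.inr (Or.inr (Or.inl ⟨n₁, n₂, e, P, h1, h2, by simpa using Fintype.card_congr e,
      eq_inf_of_maximal hH h (sl_not_le_tensor hn3 h1 (by omega) e P)⟩)))
  · exact Or.inr (Or.inr (Or.inr (Or.inr (Or.inl ⟨F₁, r, P, hr, hc,
      eq_inf_of_maximal hH h (sl_not_le_subfield hn3 hr hc P)⟩))))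
  · exact Or.inr (Or.inr (Or.inr (Or.inr (Or.inr (Or.inl ⟨r, R, m, hR, hm, hm1,
      eq_inf_of_maximal hH h (sl_not_le_symplecticType hn3 hR)⟩)))))
  · have hcard : Fintype.card ι = m ^ k := by simpa using Fintype.card_congr e
    have hk : k = 2 := by
      by_contra hne
      have h3 : (3 : ℕ) ^ 3 ≤ m ^ k :=
        (Nat.pow_le_pow_left h1 3).trans (Nat.pow_le_pow_right (by omega) (by omega))
      omega
    subst hk
    exact Or.inr (Or.inr (Or.inr (Or.inr (Or.inr (Or.inr (Or.inl ⟨m, e, P, h1, hcard,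
      eq_inf_of_maximal hH h (sl_not_le_wreath hn3 h1 e P)⟩))))))
  · rcases hf with ⟨f, hf, h⟩ | ⟨σ, f, hf, h⟩ | ⟨Q, hQ, ho, h⟩
    · exact Or.inr (Or.inr (Or.inr (Or.inr (Or.inr (Or.inr (Or.inr (Or.inl ⟨symplectic_even hf, f, hf,
        eq_inf_of_maximal hH h (sl_not_le_similarity hn3 (RingHom.id F) Function.surjective_id
          hf.bilinear.add_right (fun c v x => hf.bilinear.smul_right c v x) hf.nondegenerate)⟩)))))))
    · exact Or.inr (Or.inr (Or.inr (Or.inr (Or.inr (Or.inr (Or.inr (Or.inr (Or.inl ⟨σ, f, hf,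
        eq_inf_of_maximal hH h (sl_not_le_similarity hn3 σ.toRingHom σ.surjective
          (fun v x y => by rw [hf.herm v, hf.add_left, map_add, ← hf.herm, ← hf.herm])
          (fun c v x => by rw [hf.herm v, hf.smul_left, map_mul, ← hf.herm]; rfl) hf.nondegenerate)⟩))))))))
    · refine Or.inr (Or.inr (Or.inr (Or.inr (Or.inr (Or.inr (Or.inr (Or.inr (Or.inr (Or.inl ⟨ho, Q, hQ,
        eq_inf_of_maximal hH h fun hle => ?_⟩)))))))))
      apply sl_not_le_similarity hn3 (RingHom.id F) Function.surjective_id hQ.polar_bilinear.add_right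
        (fun c v x => hQ.polar_bilinear.smul_right c v x) hQ.nondegenerate
      intro g hg
      obtain ⟨c, hc⟩ := hle hg
      refine ⟨c, fun u v => ?_⟩
      simp only [QuadraticMap.polar, ← Matrix.mulVec_add, hc]
      ring
  · exact Or.inr (Or.inr (Or.inr (Or.inr (Or.inr (Or.inr (Or.inr (Or.inr (Or.inr (Or.inr h)))))))))

end Cfsg.Agent.H99.Asch
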