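import Cfsg.Agent.H99.Aschbacher.Base

/-!
The class-two case of Aschbacher's theorem: a minimal non-scalar normal subgroup with scalar commutators gives a
subfield group, a similarity group, or the normaliser of a group of symplectic type.
-/

set_option autoImplicit false

open scoped MatrixGroups Matrix

namespace Cfsg.Agent.H99.Asch

open Cfsg.Geo

variable {ι : Type} [Fintype ι] [DecidableEq ι] {F : Type*} [Field F]

/-- In a class-two situation, the k-th power of a product. -/
lemma mul_pow_comm {G : Type*} [Group G] {x y c : G} (hc : y * x = c * (x * y)) (hz : ∀ g : G, c * g = g * c)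
    (k : ℕ) : (x * y) ^ k = c ^ (k.choose 2) * (x ^ k * y ^ k) := by
  have hz' : ∀ (j : ℕ) (g : G), c ^ j * g = g * c ^ j := fun j g =>
    ((show Commute c g from hz g).pow_left j).eq
  have hyx : ∀ j : ℕ, y ^ j * x = c ^ j * (x * y ^ j) := by
    intro j
    induction j with
    | zero => simp
    | succ j ih =>
      calc y ^ (j + 1) * x = y * (y ^ j * x) := by rw [pow_succ', mul_assoc]
        _ = y * (c ^ j * (x * y ^ j)) := by rw [ih]
        _ = c ^ j * (y * x * y ^ j) := by rw [← mul_assoc, ← hz' j y, mul_assoc, ← mul_assoc y]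
        _ = c ^ j * (c * (x * y) * y ^ j) := by rw [hc]
        _ = c ^ (j + 1) * (x * y ^ (j + 1)) := by rw [pow_succ, pow_succ' y]; simp only [mul_assoc]
  induction k with
  | zero => simp
  | succ k ih =>
    calc (x * y) ^ (k + 1) = c ^ (k.choose 2) * (x ^ k * (y ^ k * x) * y) := by
          rw [pow_succ, ih]; simp only [mul_assoc]
      _ = c ^ (k.choose 2) * (x ^ k * (c ^ k * (x * y ^ k)) * y) := by rw [hyx]
      _ = c ^ (k.choose 2) * (c ^ k * (x ^ (k + 1) * y ^ (k + 1))) := by
          rw [← mul_assoc (x ^ k), ← hz' k (x ^ k), pow_succ x, pow_succ y]; simp only [mul_assoc]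
      _ = c ^ ((k + 1).choose 2) * (x ^ (k + 1) * y ^ (k + 1)) := by
          rw [← mul_assoc, ← pow_add, Nat.choose_succ_succ', Nat.choose_one_right, add_comm]

/-- The scalar matrix of a unit. -/
def scl (c : Fˣ) : GL ι F := Units.map (Matrix.scalar ι : F →+* Matrix ι ι F).toMonoidHom c

lemma scl_mem (c : Fˣ) : (scl c : GL ι F) ∈ scalars ι F := ⟨c, rfl⟩

lemma coe_scl (c : Fˣ) : ((scl c : GL ι F) : Matrix ι ι F) = (c : F) • (1 : Matrix ι ι F) := by
  simp [scl, Matrix.smul_one_eq_diagonal]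

lemma scl_injective [Nonempty ι] : Function.Injective (scl (ι := ι) (F := F)) := by
  intro a b hab
  obtain ⟨i⟩ := ‹Nonempty ι›
  have := congrArg (fun g : GL ι F => (g : Matrix ι ι F) i i) hab
  simp only [coe_scl, Matrix.smul_apply, Matrix.one_apply_eq, smul_eq_mul, mul_one] at this
  exact Units.ext this

/-- The coefficient of a scalar power: x^k = c • 1. -/
lemma exists_scl {g : GL ι F} (hg : g ∈ scalars ι F) : ∃ c : Fˣ, g = scl c := by
  obtain ⟨c, hc⟩ := hg
  exact ⟨c, hc.symm⟩

lemma scl_mul (a b : Fˣ) : (scl (a * b) : GL ι F) = scl a * scl b := map_mul _ a b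

lemma scl_pow (a : Fˣ) (k : ℕ) : (scl (a ^ k) : GL ι F) = scl a ^ k := map_pow _ a k

lemma coe_scl_mul (c : Fˣ) (g : GL ι F) : ((scl c * g : GL ι F) : Matrix ι ι F) = (c : F) • (g : Matrix ι ι F) := by
  rw [Units.val_mul, coe_scl, smul_mul_assoc, one_mul]

/-- If N has scalar commutators and generates all matrices, representatives modulo scalars form a basis. -/
lemma transversal_basis [Fintype F] [Nonempty ι] {G₀ : Subgroup (GL ι F)} (henv : env G₀ = ⊤)
    (hcomm : ∀ x ∈ G₀, ∀ y ∈ G₀, x * y * x⁻¹ * y⁻¹ ∈ scalars ι F)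
    {X : Type} [Fintype X] (T : X → GL ι F) (hT : ∀ x, T x ∈ G₀)
    (hcover : ∀ g ∈ G₀, ∃ x, ∃ z ∈ scalars ι F, g = z * T x)
    (hinj : ∀ x x', T x * (T x')⁻¹ ∈ scalars ι F → x = x') :
    LinearIndependent F (fun x => (T x : Matrix ι ι F)) ∧
      (∀ M : Matrix ι ι F, ∃ c : X → F, M = ∑ x, c x • (T x : Matrix ι ι F)) ∧
      Fintype.card X = Fintype.card ι ^ 2 := by
  classical
  have key : ∀ x, ∀ y : G₀, ∃ c : Fˣ, (y : GL ι F) * T x * (y : GL ι F)⁻¹ = scl c * T x := by
    intro x y
    obtain ⟨c, hc⟩ := exists_scl (hcomm _ y.2 _ (hT x))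
    exact ⟨c, by rw [← hc, inv_mul_cancel_right]⟩
  choose χ hχ using key
  let φ : X → (G₀ →* F) := fun x =>
    { toFun := fun y => (χ x y : F)
      map_one' := by
        have h := hχ x 1
        simp only [OneMemClass.coe_one, one_mul, inv_one, mul_one] at h
        have : (scl (χ x 1) : GL ι F) = scl 1 := by
          rw [show (scl 1 : GL ι F) = 1 from map_one _]
          exact (left_eq_mul.1 (h.trans (by
            rw [scalars_commute (scl_mem (χ x 1))]))).trans rfl
        rw [scl_injective this, Units.val_one]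
      map_mul' := fun y y' => by
        have h := hχ x (y * y')
        have h' : ((y * y' : G₀) : GL ι F) * T x * ((y * y' : G₀) : GL ι F)⁻¹ = scl (χ x y' * χ x y) * T x := by
          calc ((y * y' : G₀) : GL ι F) * T x * ((y * y' : G₀) : GL ι F)⁻¹
              = (y : GL ι F) * ((y' : GL ι F) * T x * (y' : GL ι F)⁻¹) * (y : GL ι F)⁻¹ := by
                simp [mul_assoc]
            _ = scl (χ x y') * ((y : GL ι F) * T x * (y : GL ι F)⁻¹) := by
                rw [hχ x y', ← mul_assoc (y : GL ι F), ← scalars_commute (scl_mem _) (y : GL ι F)]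
                simp only [mul_assoc]
            _ = scl (χ x y' * χ x y) * T x := by rw [hχ x y, scl_mul, mul_assoc]
        rw [h'] at h
        rw [← scl_injective (mul_right_cancel h), Units.val_mul, mul_comm] }
  have hφinj : Function.Injective φ := by
    intro x x' h
    apply hinj
    have hall : ∀ y ∈ G₀, (T x * (T x')⁻¹) * y = y * (T x * (T x')⁻¹) := by
      intro y hy
      have hc : χ x ⟨y, hy⟩ = χ x' ⟨y, hy⟩ := Units.ext (DFunLike.congr_fun h ⟨y, hy⟩)
      have e : y * (T x * (T x')⁻¹) * y⁻¹ = T x * (T x')⁻¹ := by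
        calc y * (T x * (T x')⁻¹) * y⁻¹ = (y * T x * y⁻¹) * (y * T x' * y⁻¹)⁻¹ := by simp [mul_assoc]
          _ = T x * (T x')⁻¹ := by
            rw [hχ x ⟨y, hy⟩, hχ x' ⟨y, hy⟩, hc, mul_inv_rev]
            generalize hcd : (scl (χ x' ⟨y, hy⟩) : GL ι F) = d
            have hd : d ∈ scalars ι F := hcd ▸ scl_mem _
            rw [mul_assoc d, ← mul_assoc (T x), scalars_commute hd]
            simp [mul_assoc]
      exact (mul_inv_eq_iff_eq_mul.1 e).symm
    exact mem_scalars_of_commute (absIrred_of_env henv) hall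
  have hind : LinearIndependent F (fun x => (T x : Matrix ι ι F)) := by
    rw [Fintype.linearIndependent_iff]
    intro g hg x
    by_contra hgx
    obtain ⟨i, j, hij⟩ : ∃ i j, (T x : Matrix ι ι F) i j ≠ 0 := by
      by_contra hne
      push Not at hne
      exact Units.ne_zero (T x) (Matrix.ext hne)
    have hli := (linearIndependent_monoidHom G₀ F).comp φ hφinj
    rw [Fintype.linearIndependent_iff] at hli
    have := hli (fun q => g q * (T q : Matrix ι ι F) i j) (funext fun y => by
      have h1 := congrArg (conjHom (y : GL ι F)) hg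
      simp only [map_sum, map_smul, map_zero, conjHom_coe, hχ, coe_scl_mul, smul_smul] at h1
      have h2 := congrArg (fun M : Matrix ι ι F => M i j) h1
      simp only [Matrix.sum_apply, Matrix.smul_apply, smul_eq_mul, Matrix.zero_apply] at h2
      simp only [Finset.sum_apply, Pi.smul_apply, smul_eq_mul, Function.comp_apply, Pi.zero_apply]
      rw [← h2]
      refine Finset.sum_congr rfl fun q _ => ?_
      show g q * _ * (χ q y : F) = g q * (χ q y : F) * _
      ring) x
    exact hgx ((mul_eq_zero.1 this).resolve_right hij)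
  have hspan : ∀ M : Matrix ι ι F, ∃ c : X → F, M = ∑ x, c x • (T x : Matrix ι ι F) := by
    intro M
    have hle : Submodule.span F (matrixSet G₀) ≤
        Submodule.span F (Set.range fun x => (T x : Matrix ι ι F)) := by
      rw [Submodule.span_le]
      rintro _ ⟨g, hg, rfl⟩
      obtain ⟨x, z, hz, rfl⟩ := hcover g hg
      obtain ⟨c, rfl⟩ := exists_scl hz
      show ((scl c * T x : GL ι F) : Matrix ι ι F) ∈ _
      rw [coe_scl_mul]
      exact Submodule.smul_mem _ _ (Submodule.subset_span ⟨x, rfl⟩)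
    have hM : M ∈ Subalgebra.toSubmodule (env G₀) := by
      rw [henv]; exact (Algebra.mem_top : M ∈ (⊤ : Subalgebra F (Matrix ι ι F)))
    rw [env_toSubmodule] at hM
    obtain ⟨c, hc⟩ := (Submodule.mem_span_range_iff_exists_fun F).1 (hle hM)
    exact ⟨c, hc.symm⟩
  refine ⟨hind, hspan, ?_⟩
  let B := Module.Basis.mk hind (fun M _ => by
    obtain ⟨c, rfl⟩ := hspan M
    exact Submodule.sum_mem _ fun x _ => Submodule.smul_mem _ _ (Submodule.subset_span ⟨x, rfl⟩))
  rw [← Module.finrank_eq_card_basis B, Module.finrank_matrix, Module.finrank_self, mul_one, sq]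

/-- Representatives with structure constants in the powers of ζ give a fixed Gram matrix for σ with σ(ζ)ζ = 1. -/
lemma exists_fixedGram [Fintype F] [Nonempty ι] (σ : F →+* F) (hσ : ∀ a, σ (σ a) = a) {R : Subgroup (GL ι F)}
    {X : Type} [Fintype X] {T : X → GL ι F}
    (hind : LinearIndependent F (fun x => (T x : Matrix ι ι F)))
    (hspan : ∀ M : Matrix ι ι F, ∃ c : X → F, M = ∑ x, c x • (T x : Matrix ι ι F))
    {U : Subgroup Fˣ} (hU : ∀ u ∈ U, σ (u : F) * (u : F) = 1)
    (hR : ∀ g ∈ R, ∃ x, ∃ u ∈ U, g = scl u * T x) (hTR : ∀ x, T x ∈ R) :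
    ∃ G : Matrix ι ι F, G ≠ 0 ∧ FixesGram σ G R := by
  classical
  let star' : GL ι F → GL ι F := fun g =>
    { val := (((g⁻¹ : GL ι F) : Matrix ι ι F).map σ)ᵀ
      inv := ((g : Matrix ι ι F).map σ)ᵀ
      val_inv := by
        rw [← Matrix.transpose_mul, ← Matrix.map_mul, ← Units.val_mul, mul_inv_cancel, Units.val_one,
          Matrix.map_one σ (map_zero σ) (map_one σ), Matrix.transpose_one]
      inv_val := by
        rw [← Matrix.transpose_mul, ← Matrix.map_mul, ← Units.val_mul, inv_mul_cancel, Units.val_one,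
          Matrix.map_one σ (map_zero σ) (map_one σ), Matrix.transpose_one] }
  have hstar : ∀ a b, star' (a * b) = star' a * star' b := by
    intro a b
    apply Units.ext
    show (((((a * b)⁻¹ : GL ι F)) : Matrix ι ι F).map σ)ᵀ = _
    rw [mul_inv_rev, Units.val_mul, Matrix.map_mul, Matrix.transpose_mul]
    rfl
  have hstarscl : ∀ u ∈ U, star' (scl u) = scl u := by
    intro u hu
    apply Units.ext
    show ((((scl u)⁻¹ : GL ι F) : Matrix ι ι F).map σ)ᵀ = _
    have e : ((scl u)⁻¹ : GL ι F) = scl u⁻¹ := (map_inv _ u).symm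
    rw [e, coe_scl, coe_scl]
    have h1 : σ ((u⁻¹ : Fˣ) : F) = (u : F) := by
      have := hU u hu
      rw [Units.val_inv_eq_inv_val, map_inv₀]
      exact inv_eq_of_mul_eq_one_right this
    ext i j
    by_cases hij : i = j
    · subst hij
      rw [Matrix.transpose_apply, Matrix.map_apply, Matrix.smul_apply, Matrix.smul_apply, Matrix.one_apply_eq,
        smul_eq_mul, mul_one, h1, smul_eq_mul, mul_one]
    · simp [hij, Ne.symm hij]
  let B := Module.Basis.mk hind (fun M _ => by
    obtain ⟨c, rfl⟩ := hspan M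
    exact Submodule.sum_mem _ fun x _ => Submodule.smul_mem _ _ (Submodule.subset_span ⟨x, rfl⟩))
  let L : Matrix ι ι F →ₗ[F] Matrix ι ι F := B.constr F fun x => (star' (T x) : Matrix ι ι F)
  have hL : ∀ g ∈ R, L (g : Matrix ι ι F) = (star' g : Matrix ι ι F) := by
    intro g hg
    obtain ⟨x, u, hu, rfl⟩ := hR g hg
    rw [hstar, hstarscl u hu, coe_scl_mul, coe_scl_mul, map_smul]
    congr 1
    have : B x = (T x : Matrix ι ι F) := Module.Basis.mk_apply _ _ x
    rw [← this]
    exact B.constr_basis F _ x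
  have hspanR : ∀ M : Matrix ι ι F, M ∈ Submodule.span F (matrixSet R) := by
    intro M
    obtain ⟨c, rfl⟩ := hspan M
    exact Submodule.sum_mem _ fun x _ => Submodule.smul_mem _ _ (Submodule.subset_span ⟨T x, hTR x, rfl⟩)
  have hmul : ∀ M N, L (M * N) = L M * L N := by
    intro M N
    induction hspanR M using Submodule.span_induction with
    | mem M hM =>
      induction hspanR N using Submodule.span_induction with
      | mem N hN =>
        obtain ⟨a, ha, rfl⟩ := hM; obtain ⟨b, hb, rfl⟩ := hN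
        rw [← Units.val_mul, hL _ (R.mul_mem ha hb), hL a ha, hL b hb, hstar, Units.val_mul]
      | zero => simp
      | add u v _ _ hu hv => rw [mul_add, map_add, map_add, mul_add, hu, hv]
      | smul c u _ hu => rw [mul_smul_comm, map_smul, map_smul, mul_smul_comm, hu]
    | zero => simp
    | add u v _ _ hu hv => rw [add_mul, map_add, map_add, add_mul, hu, hv]
    | smul c u _ hu => rw [smul_mul_assoc, map_smul, map_smul, smul_mul_assoc, hu]
  have hone : L 1 = 1 := by
    have h1 : star' 1 = 1 := by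
      have := hstar 1 1
      rwa [mul_one, left_eq_mul] at this
    have := hL 1 R.one_mem
    rwa [h1, Units.val_one] at this
  let φ : Matrix ι ι F →ₐ[F] Matrix ι ι F := AlgHom.ofLinearMap L hone hmul
  have hφ : Function.Injective φ := RingHom.injective φ.toRingHom
  obtain ⟨g, hg⟩ := exists_inner φ hφ
  refine ⟨(g : Matrix ι ι F).map σ, fun e => ?_, fun s hs => ?_⟩
  · apply Units.ne_zero g
    apply Matrix.map_injective σ.injective
    show (g : Matrix ι ι F).map σ = (0 : Matrix ι ι F).map σ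
    rw [e]; ext i j; simp
  · have h1 : φ (s : Matrix ι ι F) = (star' s : Matrix ι ι F) := hL s hs
    rw [hg] at h1
    have h2 := congrArg (fun M => ((s : Matrix ι ι F).map σ)ᵀ * M * (g : Matrix ι ι F)) h1
    change ((s : Matrix ι ι F).map σ)ᵀ * _ * _ =
      ((s : Matrix ι ι F).map σ)ᵀ * (((s⁻¹ : GL ι F) : Matrix ι ι F).map σ)ᵀ * _ at h2
    rw [← Matrix.transpose_mul, ← Matrix.map_mul, ← Units.val_mul s⁻¹ s, inv_mul_cancel s, Units.val_one,
      Matrix.map_one σ (map_zero σ) (map_one σ), Matrix.transpose_one, one_mul, mul_assoc, mul_assoc,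
      ← Units.val_mul g⁻¹ g, inv_mul_cancel, Units.val_one, mul_one, ← mul_assoc] at h2
    have h3 := congrArg (fun M : Matrix ι ι F => M.map σ) h2
    simp only [Matrix.map_mul] at h3
    have h4 : (((s : Matrix ι ι F).map σ)ᵀ).map σ = (s : Matrix ι ι F)ᵀ := by
      ext i j; simp [hσ]
    rwa [h4] at h3

/-- The units of F killed by r · gcd(2, r) are the powers of one primitive root, whose order is r, or 2 or 4 for r = 2. -/
lemma exists_root [Fintype F] {r : ℕ} (hr : r.Prime) {ω : Fˣ} (hω : orderOf ω = r) :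
    ∃ (z : ℕ) (ζ : Fˣ), orderOf ζ = z ∧ z ∣ r * Nat.gcd 2 r ∧
      (∀ c : Fˣ, c ^ (r * Nat.gcd 2 r) = 1 → c ∈ Subgroup.zpowers ζ) ∧
      ((Odd r ∧ z = r) ∨ (r = 2 ∧ z = 4) ∨ (r = 2 ∧ z = 2)) := by
  rcases hr.eq_two_or_odd' with h2 | hodd
  · subst h2
    have hd : 2 * Nat.gcd 2 2 = 4 := by norm_num
    rw [hd]
    by_cases h4 : ∃ i : Fˣ, orderOf i = 4
    · obtain ⟨i, hi⟩ := h4
      refine ⟨4, i, hi, dvd_rfl, fun c hc => ?_, Or.inr (Or.inl ⟨rfl, rfl⟩)⟩
      have hp : IsPrimitiveRoot i 4 := hi ▸ IsPrimitiveRoot.orderOf i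
      have := hp.zpowers_eq
      rw [this]
      exact (mem_rootsOfUnity 4 c).2 hc
    · refine ⟨2, ω, hω, by norm_num, fun c hc => ?_, Or.inr (Or.inr ⟨rfl, rfl⟩)⟩
      have hc2 : c ^ 2 = 1 := by
        by_contra hne
        apply h4
        refine ⟨c, orderOf_eq_prime_pow (p := 2) (n := 1) (by simpa using hne) ?_⟩
        simpa using hc
      have hp : IsPrimitiveRoot ω 2 := hω ▸ IsPrimitiveRoot.orderOf ω
      rw [hp.zpowers_eq]
      exact (mem_rootsOfUnity 2 c).2 hc2
  · have hd : r * Nat.gcd 2 r = r := by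
      have : Nat.gcd 2 r = 1 := by
        have h := Nat.coprime_two_left.2 hodd
        exact h
      rw [this, mul_one]
    rw [hd]
    refine ⟨r, ω, hω, dvd_rfl, fun c hc => ?_, Or.inl ⟨hodd, rfl⟩⟩
    have : NeZero r := ⟨hr.ne_zero⟩
    have hp : IsPrimitiveRoot ω r := hω ▸ IsPrimitiveRoot.orderOf ω
    rw [hp.zpowers_eq]
    exact (mem_rootsOfUnity r c).2 hc

/-- If x ↦ x^(p^k) fixes ζ, every element of the subfield generated by ζ is fixed, so a generator forces p^k ≥ |F|. -/
lemma card_le_of_fixed [Fintype F] {p : ℕ} [Fact p.Prime] [CharP F p] {ζ : F} {k : ℕ} (hk : 1 ≤ k)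
    (hgen : Subfield.closure {ζ} = ⊤) (hfix : ζ ^ p ^ k = ζ) : Fintype.card F ≤ p ^ k := by
  let L : Subfield F := RingHom.eqLocusField (iterateFrobenius F p k) (RingHom.id F)
  have hle : Subfield.closure {ζ} ≤ L := Subfield.closure_le.2 (by
    rintro x rfl
    exact hfix)
  rw [hgen] at hle
  have hq : 1 < p ^ k := Nat.one_lt_pow (by omega) (Fact.out : p.Prime).one_lt
  have := card_fixed_le (F := F) hq
  rw [Nat.card_congr (Equiv.subtypeUnivEquiv (p := fun x : F => x ^ p ^ k = x) (fun x => hle (Subfield.mem_top x))),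
    Nat.card_eq_fintype_card] at this
  exact this

/-- The class-two case. -/
theorem symplecticType_case [Fintype F] (hn3 : 3 ≤ Fintype.card ι) {H N : Subgroup (GL ι F)}
    (hN : NormalIn H N) (hns : ¬ N ≤ scalars ι F) (henv : env N = ⊤)
    (hmin : ∀ M, NormalIn H M → M ≤ N → M ≤ scalars ι F ∨ M = N)
    (hcomm : ∀ x ∈ N, ∀ y ∈ N, x * y * x⁻¹ * y⁻¹ ∈ scalars ι F) :
    (∃ (F₁ : Subfield F) (r : ℕ) (P : GL ι F), r.Prime ∧ Fintype.card F = Nat.card F₁ ^ r ∧
      H ≤ subfieldSubgroup F₁ P) ∨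
    InForms H ∨
    (∃ (r : ℕ) (R : Subgroup (GL ι F)) (m : ℕ), IsLinearSymplecticTypeData r R ∧ Fintype.card ι = r ^ m ∧
      1 ≤ m ∧ H ≤ subgroupNormalizer R) := by
  classical
  have : Nonempty ι := Fintype.card_pos_iff.1 (by omega)
  have : Nontrivial ι := Fintype.one_lt_card_iff_nontrivial.1 (by omega)
  have habs := absIrred_of_env henv
  -- N is not commutative
  have hnab : ¬ ∀ x ∈ N, ∀ y ∈ N, x * y = y * x := by
    intro h
    apply hns
    intro x hx
    exact mem_scalars_of_commute habs fun y hy => h x hx y hy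
  push Not at hnab
  obtain ⟨a, ha, b, hb, hab⟩ := hnab
  -- a prime exponent modulo scalars
  obtain ⟨g, hg, hgs⟩ := SetLike.not_le_iff_exists.1 hns
  let m₀ := orderOf (QuotientGroup.mk g : GL ι F ⧸ scalars ι F)
  have hm₀ : m₀ ≠ 1 := fun e => hgs ((QuotientGroup.eq_one_iff g).1 (orderOf_eq_one_iff.1 e))
  have : Finite (GL ι F) := inferInstance
  obtain ⟨r, hr, hrm⟩ := Nat.exists_prime_and_dvd hm₀
  have hGcomm : ∀ x ∈ N, ∀ y ∈ N, ∃ c : Fˣ, y * x = scl c * (x * y) := by
    intro x hx y hy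
    obtain ⟨c, hc⟩ := exists_scl (hcomm y hy x hx)
    exact ⟨c, by rw [← hc]; simp [mul_assoc]⟩
  let Mr : Subgroup (GL ι F) :=
    { carrier := {x | x ∈ N ∧ x ^ r ∈ scalars ι F}
      one_mem' := ⟨N.one_mem, by simp⟩
      mul_mem' := fun {x y} hx hy => by
        obtain ⟨c, hc⟩ := hGcomm x hx.1 y hy.1
        refine ⟨N.mul_mem hx.1 hy.1, ?_⟩
        rw [mul_pow_comm hc (fun g => scalars_commute (scl_mem c) g) r]
        exact Subgroup.mul_mem _ (Subgroup.pow_mem _ (scl_mem c) _) (Subgroup.mul_mem _ hx.2 hy.2)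
      inv_mem' := fun {x} hx => ⟨N.inv_mem hx.1, by rw [inv_pow]; exact Subgroup.inv_mem _ hx.2⟩ }
  have hMrn : NormalIn H Mr := ⟨fun x hx => hN.1 hx.1, fun h hh x hx => ⟨hN.2 h hh x hx.1, by
    rw [conj_pow]; exact scalars_normal.conj_mem _ hx.2 h⟩⟩
  have hMr : ∀ x ∈ N, x ^ r ∈ scalars ι F := by
    have hsel : Mr = N := by
      refine (hmin Mr hMrn fun x hx => hx.1).resolve_left fun hle => ?_
      have hmem : g ^ (m₀ / r) ∈ Mr := by
        refine ⟨N.pow_mem hg _, ?_⟩
        rw [← pow_mul, Nat.div_mul_cancel hrm, ← QuotientGroup.eq_one_iff, QuotientGroup.mk_pow]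
        exact pow_orderOf_eq_one _
      have h1 := hle hmem
      rw [← QuotientGroup.eq_one_iff, QuotientGroup.mk_pow, ← orderOf_dvd_iff_pow_eq_one] at h1
      have hpos : 0 < m₀ := orderOf_pos _
      have := Nat.le_of_dvd (Nat.div_pos (Nat.le_of_dvd hpos hrm) hr.pos) h1
      have := Nat.div_lt_self hpos hr.one_lt
      omega
    intro x hx
    rw [← hsel] at hx
    exact hx.2
  let G₀ : Subgroup (GL ι F) := N ⊔ scalars ι F
  have hmem₀ : ∀ x ∈ G₀, ∃ y ∈ N, ∃ c : Fˣ, x = y * scl c := by
    intro x hx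
    obtain ⟨y, hy, z, hz, rfl⟩ := Subgroup.mem_sup_of_normal_right.1 hx
    obtain ⟨c, rfl⟩ := exists_scl hz
    exact ⟨y, hy, c, rfl⟩
  have hcomm₀ : ∀ x ∈ G₀, ∀ y ∈ G₀, x * y * x⁻¹ * y⁻¹ ∈ scalars ι F := by
    intro x hx y hy
    obtain ⟨x', hx', c, rfl⟩ := hmem₀ x hx
    obtain ⟨y', hy', d, rfl⟩ := hmem₀ y hy
    have e : x' * scl c * (y' * scl d) * (x' * scl c)⁻¹ * (y' * scl d)⁻¹ = x' * y' * x'⁻¹ * y'⁻¹ := by
      have hc : ∀ g : GL ι F, scl c * g = g * scl c := scalars_commute (scl_mem c)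
      have hd : ∀ g : GL ι F, scl d * g = g * scl d := scalars_commute (scl_mem d)
      calc x' * scl c * (y' * scl d) * (x' * scl c)⁻¹ * (y' * scl d)⁻¹
          = x' * ((scl c * y') * scl d * (scl c)⁻¹) * x'⁻¹ * (scl d)⁻¹ * y'⁻¹ := by simp [mul_assoc]
        _ = x' * (y' * (scl d * scl c) * (scl c)⁻¹ ) * x'⁻¹ * (scl d)⁻¹ * y'⁻¹ := by rw [hc y']; simp [mul_assoc, hd (scl c)]
        _ = x' * y' * (scl d * x'⁻¹) * (scl d)⁻¹ * y'⁻¹ := by simp [mul_assoc]
        _ = x' * y' * x'⁻¹ * y'⁻¹ := by rw [hd x'⁻¹]; simp [mul_assoc]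
    rw [e]; exact hcomm x' hx' y' hy'
  have hpow₀ : ∀ x ∈ G₀, x ^ r ∈ scalars ι F := by
    intro x hx
    obtain ⟨y, hy, c, rfl⟩ := hmem₀ x hx
    rw [(show Commute y (scl c) from (scalars_commute (scl_mem c) y).symm).mul_pow]
    exact Subgroup.mul_mem _ (hMr y hy) (Subgroup.pow_mem _ (scl_mem c) _)
  have henv₀ : env G₀ = ⊤ := top_le_iff.1 (henv ▸ env_mono le_sup_left)
  -- the commutator values
  have hωall : ∀ x ∈ G₀, ∀ y ∈ G₀, ∀ c : Fˣ, y * x = scl c * (x * y) → c ^ r = 1 := by
    intro x hx y hy c hc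
    apply scl_injective (ι := ι)
    have hyx : x⁻¹ * y * x = scl c * y := by
      rw [mul_assoc, hc, ← mul_assoc, ← scalars_commute (scl_mem c)]; simp [mul_assoc]
    have h2 : (x⁻¹ * y * x) ^ r = y ^ r := by
      obtain ⟨d, hd⟩ := exists_scl (hpow₀ y hy)
      have : x⁻¹ * y ^ r * x⁻¹⁻¹ = y ^ r := by
        rw [hd, ← scalars_commute (scl_mem d), mul_assoc]; simp
      rw [← conj_pow, inv_inv] at this
      exact this
    rw [hyx, (show Commute (scl c) y from scalars_commute (scl_mem c) y).mul_pow] at h2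
    rw [scl_pow, show (scl 1 : GL ι F) = 1 from map_one _]
    exact mul_eq_right.1 h2
  obtain ⟨ω, hω⟩ : ∃ ω : Fˣ, orderOf ω = r := by
    obtain ⟨c, hc⟩ := hGcomm a ha b hb
    refine ⟨c, ?_⟩
    have : Fact r.Prime := ⟨hr⟩
    refine orderOf_eq_prime (hωall a (le_sup_left (b := scalars ι F) ha) b (le_sup_left (b := scalars ι F) hb) c hc) ?_
    rintro rfl
    apply hab
    rw [show (scl 1 : GL ι F) = 1 from map_one _, one_mul] at hc
    exact hc.symm
  obtain ⟨p, hp⟩ := CharP.exists F
  obtain ⟨e, hpp, he⟩ := FiniteField.card F p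
  have : Fact p.Prime := ⟨hpp⟩
  have hrp : r ≠ p := by
    rintro rfl
    have h1 : ω ^ r = 1 := hω ▸ pow_orderOf_eq_one ω
    have h2 : ((ω : F) - 1) ^ r = 0 := by
      rw [sub_pow_char, one_pow, ← Units.val_pow_eq_pow_val, h1, Units.val_one, sub_self]
    have h3 : ω = 1 := Units.ext (by simpa [sub_eq_zero] using (pow_eq_zero_iff hr.ne_zero).1 h2)
    rw [h3, orderOf_one] at hω
    exact hr.one_lt.ne hω
  obtain ⟨z, ζ, hζ, hzd, hroots, hzcases⟩ := exists_root hr hω
  set d := r * Nat.gcd 2 r with hd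
  have hrd : r ∣ d := dvd_mul_right _ _
  have hd0 : d ≠ 0 := Nat.mul_ne_zero hr.ne_zero (by simp [Nat.gcd_eq_zero_iff])
  have hrchoose : r ∣ d.choose 2 := by
    rcases hr.eq_two_or_odd' with h2 | hodd
    · subst h2; rw [hd]; decide
    · have hg : Nat.gcd 2 r = 1 := Nat.coprime_two_left.2 hodd
      rw [hd, hg, mul_one]
      refine hr.dvd_choose_self (by norm_num) ?_
      obtain ⟨j, hj⟩ := hodd
      have := hr.two_le
      omega
  let R : Subgroup (GL ι F) :=
    { carrier := {x | x ∈ G₀ ∧ x ^ d = 1}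
      one_mem' := ⟨G₀.one_mem, one_pow _⟩
      mul_mem' := fun {x y} hx hy => by
        refine ⟨G₀.mul_mem hx.1 hy.1, ?_⟩
        obtain ⟨c, hc⟩ := exists_scl (hcomm₀ y hy.1 x hx.1)
        have hc' : y * x = scl c * (x * y) := by rw [← hc]; simp [mul_assoc]
        rw [mul_pow_comm hc' (fun g => scalars_commute (scl_mem c) g), hx.2, hy.2]
        obtain ⟨j, hj⟩ := hrchoose
        rw [← scl_pow, hj, pow_mul, hωall x hx.1 y hy.1 c hc', one_pow,
          show (scl 1 : GL ι F) = 1 from map_one _]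
        simp
      inv_mem' := fun {x} hx => ⟨G₀.inv_mem hx.1, by rw [inv_pow, hx.2, inv_one]⟩ }
  have hRn : ∀ h ∈ H, ∀ x ∈ R, h * x * h⁻¹ ∈ R := by
    intro h hh x hx
    refine ⟨?_, by rw [conj_pow, hx.2, mul_one, mul_inv_cancel]⟩
    obtain ⟨y, hy, c, rfl⟩ := hmem₀ x hx.1
    have : h * (y * scl c) * h⁻¹ = (h * y * h⁻¹) * scl c := by
      rw [← mul_assoc, mul_assoc (h * y), scalars_commute (scl_mem c) h⁻¹, ← mul_assoc]
    rw [this]
    exact Subgroup.mul_mem _ (le_sup_left (b := scalars ι F) (hN.2 h hh y hy)) (le_sup_right (a := N) (scl_mem c))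
  -- every element is a scalar multiple of one killed by d
  have hscale : ∀ x ∈ G₀, ∃ c : Fˣ, (scl c * x) ^ d = 1 := by
    have hsm : ∀ (c : Fˣ) (x : GL ι F) (k : ℕ), (scl c * x) ^ k = scl (c ^ k) * x ^ k := fun c x k => by
      rw [(show Commute (scl c) x from scalars_commute (scl_mem c) x).mul_pow, scl_pow]
    -- reduction to the power map into units modulo r-th powers
    by_cases hspec : r = 2 ∧ z = 2
    · intro x hx
      obtain ⟨u, hu⟩ := exists_scl (hpow₀ x hx)
      obtain ⟨rfl, hz2⟩ := hspec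
      have hd4 : d = 4 := by rw [hd]; norm_num
      let sq : Fˣ →* Fˣ := powMonoidHom 2
      have hidx : sq.range.index ∣ 2 := by
        rw [IsCyclic.index_powMonoidHom_range]; exact Nat.gcd_dvd_right _ _
      have hm1 : ((-1 : Fˣ)) ∉ sq.range := by
        rintro ⟨i, hi⟩
        have hi' : i ^ 2 = -1 := hi
        have h4 : orderOf i = 4 := by
          refine orderOf_eq_prime_pow (p := 2) (n := 1) ?_ ?_
          · rw [pow_one, hi']
            intro h
            have h1 : (2 : F) = 0 := by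
              have := congrArg (fun v : Fˣ => (v : F)) h
              simp only [Units.val_neg, Units.val_one] at this
              linear_combination -this
            have : ω = 1 := by
              have hw : ω ^ 2 = 1 := hω ▸ pow_orderOf_eq_one ω
              have hw' := congrArg (fun v : Fˣ => (v : F)) hw
              simp only [Units.val_pow_eq_pow_val, Units.val_one] at hw'
              apply Units.ext
              have : ((ω : F) - 1) * ((ω : F) - 1) = 0 := by linear_combination hw' - ((ω : F) - 1) * h1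
              rw [Units.val_one]
              exact sub_eq_zero.1 (mul_self_eq_zero.1 this)
            rw [this, orderOf_one] at hω
            omega
          · rw [show (2 : ℕ) ^ (1 + 1) = 2 * 2 from rfl, pow_mul, hi', neg_one_sq]
        have : i ∈ Subgroup.zpowers ζ := hroots i (by rw [hd4, ← h4, pow_orderOf_eq_one])
        have := orderOf_dvd_of_mem_zpowers this
        rw [h4, hζ, hz2] at this
        omega
      have hsel : u ∈ sq.range ∨ -u ∈ sq.range := by
        by_contra hne
        push Not at hne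
        have hidx' : sq.range.index ≠ 1 := fun h1 => hm1 (Subgroup.index_eq_one.1 h1 ▸ Subgroup.mem_top _)
        have h2 := (Nat.prime_two.eq_one_or_self_of_dvd _ hidx).resolve_left hidx'
        have := (Subgroup.mul_mem_iff_of_index_two h2 (a := -1) (b := u)).2
          ⟨fun h => absurd h hm1, fun h => absurd h hne.1⟩
        rw [neg_one_mul] at this
        exact hne.2 this
      rcases hsel with ⟨v, hv⟩ | ⟨v, hv⟩
      · refine ⟨v⁻¹, ?_⟩
        rw [hd4, show 4 = 2 * 2 from rfl, pow_mul, hsm, hu, ← scl_mul, ← scl_pow]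
        have hv' : v ^ 2 = u := hv
        rw [← hv', inv_pow, inv_mul_cancel, one_pow]
        exact map_one _
      · refine ⟨v⁻¹, ?_⟩
        rw [hd4, show 4 = 2 * 2 from rfl, pow_mul, hsm, hu, ← scl_mul, ← scl_pow]
        have hv' : v ^ 2 = -u := hv
        rw [inv_pow, hv', inv_neg, neg_mul, inv_mul_cancel, neg_one_sq]
        exact map_one _
    · -- the commutator values are r-th powers after squaring
      have hωpow : ∀ c : Fˣ, c ^ r = 1 → ∃ w : Fˣ, w ^ r = c ^ (r.choose 2) := by
        intro c hc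
        rcases hzcases with ⟨hodd, -⟩ | ⟨h2, hz4⟩ | h
        · refine ⟨1, ?_⟩
          have hdiv : r ∣ r.choose 2 := by
            refine hr.dvd_choose_self (by norm_num) ?_
            obtain ⟨j, hj⟩ := hodd
            have := hr.two_le
            omega
          obtain ⟨j, hj⟩ := hdiv
          rw [hj, pow_mul, hc, one_pow, one_pow]
        · subst h2
          rw [Nat.choose_self, pow_one]
          have hζ2 : (ζ ^ 2) ^ 2 = 1 := by rw [← pow_mul, show 2 * 2 = z by omega, ← hζ, pow_orderOf_eq_one]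
          have hζn : ζ ^ 2 ≠ 1 := fun h => by
            have := orderOf_dvd_of_pow_eq_one h
            rw [hζ, hz4] at this
            omega
          rcases (show c = 1 ∨ c = ζ ^ 2 by
            have h1 : ∀ w : Fˣ, w ^ 2 = 1 → w = 1 ∨ w = -1 := by
              intro w hw
              have := congrArg (fun v : Fˣ => (v : F)) hw
              simp only [Units.val_pow_eq_pow_val, Units.val_one, sq_eq_one_iff] at this
              rcases this with h | h
              · exact Or.inl (Units.ext h)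
              · exact Or.inr (Units.ext (by simpa using h))
            rcases h1 c hc with h | h
            · exact Or.inl h
            · exact Or.inr (h.trans ((h1 _ hζ2).resolve_left hζn).symm)) with rfl | rfl
          · exact ⟨1, one_pow _⟩
          · exact ⟨ζ, rfl⟩
        · exact absurd h hspec
      let Mc : Subgroup (GL ι F) :=
        { carrier := {x | x ∈ N ∧ ∃ c : Fˣ, (scl c * x) ^ r = 1}
          one_mem' := ⟨N.one_mem, 1, by rw [hsm, one_pow, one_pow, mul_one]; exact map_one _⟩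
          mul_mem' := fun {x y} hx hy => by
            refine ⟨N.mul_mem hx.1 hy.1, ?_⟩
            obtain ⟨c1, h1⟩ := hx.2; obtain ⟨c2, h2⟩ := hy.2
            obtain ⟨c, hc⟩ := hGcomm x hx.1 y hy.1
            obtain ⟨w, hw⟩ := hωpow c (hωall x (le_sup_left (b := scalars ι F) hx.1) y
              (le_sup_left (b := scalars ι F) hy.1) c hc)
            refine ⟨c1 * c2 * w⁻¹, ?_⟩
            rw [hsm] at h1 h2 ⊢
            rw [mul_pow_comm hc (fun g => scalars_commute (scl_mem c) g), ← scl_pow, ← hw,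
              ← mul_assoc, ← scl_mul, mul_pow, inv_pow, inv_mul_cancel_right, mul_pow, scl_mul]
            calc scl (c1 ^ r) * scl (c2 ^ r) * (x ^ r * y ^ r)
                = scl (c1 ^ r) * (scl (c2 ^ r) * x ^ r) * y ^ r := by simp [mul_assoc]
              _ = scl (c1 ^ r) * (x ^ r * scl (c2 ^ r)) * y ^ r := by rw [scalars_commute (scl_mem _) (x ^ r)]
              _ = (scl (c1 ^ r) * x ^ r) * (scl (c2 ^ r) * y ^ r) := by simp [mul_assoc]
              _ = 1 := by rw [h1, h2, one_mul]
          inv_mem' := fun {x} hx => by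
            refine ⟨N.inv_mem hx.1, ?_⟩
            obtain ⟨c, hc⟩ := hx.2
            refine ⟨c⁻¹, ?_⟩
            rw [hsm] at hc ⊢
            rw [inv_pow, inv_pow, show (scl (c ^ r)⁻¹ : GL ι F) = (scl (c ^ r))⁻¹ from map_inv _ _,
              ← mul_inv_rev, ← scalars_commute (scl_mem _) (x ^ r), hc, inv_one] }
      have hMcn : NormalIn H Mc := ⟨fun x hx => hN.1 hx.1, fun h hh x hx => by
        refine ⟨hN.2 h hh x hx.1, ?_⟩
        obtain ⟨c, hc⟩ := hx.2
        refine ⟨c, ?_⟩
        have : scl c * (h * x * h⁻¹) = h * (scl c * x) * h⁻¹ := by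
          rw [← mul_assoc, ← mul_assoc, scalars_commute (scl_mem c) h, mul_assoc h]
        rw [this, conj_pow, hc, mul_one, mul_inv_cancel]⟩
      have hfull : Mc = N := by
        refine (hmin Mc hMcn fun x hx => hx.1).resolve_left fun hle => ?_
        -- the power map would embed N modulo scalars into a group of order r
        let rp : Fˣ →* Fˣ := powMonoidHom r
        choose u hu using fun x : N => exists_scl (hMr x x.2)
        let ψ : N →* Fˣ ⧸ rp.range :=
          { toFun := fun x => QuotientGroup.mk (u x)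
            map_one' := by
              have : u 1 = 1 := scl_injective (ι := ι) (by
                rw [← hu 1, OneMemClass.coe_one, one_pow]; exact (map_one _).symm)
              rw [this]; rfl
            map_mul' := fun x y => by
              obtain ⟨c, hc⟩ := hGcomm x x.2 y y.2
              obtain ⟨w, hw⟩ := hωpow c (hωall x (le_sup_left (b := scalars ι F) x.2) y
                (le_sup_left (b := scalars ι F) y.2) c hc)
              have : u (x * y) = w ^ r * (u x * u y) := scl_injective (ι := ι) (by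
                rw [← hu (x * y), Subgroup.coe_mul, mul_pow_comm hc (fun g => scalars_commute (scl_mem c) g),
                  hu x, hu y, ← scl_pow, ← hw, ← scl_mul, ← scl_mul])
              rw [this, QuotientGroup.mk_mul, QuotientGroup.mk_mul,
                (QuotientGroup.eq_one_iff (N := rp.range) (w ^ r)).2 ⟨w, rfl⟩, one_mul] }
        have hker : ∀ x : N, ψ x = 1 → (x : GL ι F) ∈ scalars ι F := by
          intro x hx
          obtain ⟨v, hv⟩ := (QuotientGroup.eq_one_iff (N := rp.range) _).1 hx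
          refine hle (⟨x.2, v⁻¹, ?_⟩ : (x : GL ι F) ∈ Mc)
          have hv' : v ^ r = u x := hv
          rw [hsm, hu x, ← hv', inv_pow, ← scl_mul, inv_mul_cancel]
          exact map_one _
        -- a quotient of prime order at most makes N commutative
        have hcard : Nat.card (Fˣ ⧸ rp.range) ∣ r := by
          rw [← Subgroup.index_eq_card, IsCyclic.index_powMonoidHom_range]
          exact Nat.gcd_dvd_right _ _
        have hcyc : IsCyclic (Fˣ ⧸ rp.range) := inferInstance
        have : Fact r.Prime := ⟨hr⟩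
        obtain ⟨x₀, hx₀⟩ : ∃ x₀ : N, ψ x₀ ≠ 1 := by
          by_contra hne
          push Not at hne
          exact hns fun x hx => hker ⟨x, hx⟩ (hne _)
        have hgen : Subgroup.zpowers (ψ x₀) = ⊤ := by
          have hcard' : Nat.card (Fˣ ⧸ rp.range) = r :=
            (hr.eq_one_or_self_of_dvd _ hcard).resolve_left fun h1 => hx₀ (by
              have := (Nat.card_eq_one_iff_unique.1 h1).1
              exact Subsingleton.elim _ _)
          exact zpowers_eq_top_of_prime_card hcard' hx₀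
        apply hab
        have hstep : ∀ x : N, ∃ (k : ℤ) (c : Fˣ), (x : GL ι F) = scl c * (x₀ : GL ι F) ^ k := by
          intro x
          obtain ⟨k, hk⟩ := Subgroup.mem_zpowers_iff.1 (hgen ▸ Subgroup.mem_top (ψ x))
          refine ⟨k, ?_⟩
          obtain ⟨c, hc⟩ := exists_scl (hker (x * (x₀ ^ k)⁻¹) (by rw [map_mul, map_inv, map_zpow, hk, mul_inv_cancel]))
          refine ⟨c, ?_⟩
          rw [Subgroup.coe_mul, Subgroup.coe_inv, Subgroup.coe_zpow] at hc
          rw [← hc, inv_mul_cancel_right]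
        obtain ⟨k, c, hk⟩ := hstep ⟨a, ha⟩
        obtain ⟨l, c', hl⟩ := hstep ⟨b, hb⟩
        rw [show a = _ from hk, show b = _ from hl]
        have hz1 : Commute (scl c : GL ι F) (scl c' * (x₀ : GL ι F) ^ l) := scalars_commute (scl_mem c) _
        have hz2 : Commute ((x₀ : GL ι F) ^ k) (scl c' : GL ι F) := (scalars_commute (scl_mem c') _).symm
        exact (hz1.mul_left (hz2.mul_right ((Commute.refl _).zpow_zpow k l))).eq
      intro x hx
      obtain ⟨y, hy, c, rfl⟩ := hmem₀ x hx
      rw [← hfull] at hy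
      obtain ⟨c', hc'⟩ := hy.2
      refine ⟨c' * c⁻¹, ?_⟩
      have : scl (c' * c⁻¹) * (y * scl c) = scl c' * y := by
        calc scl (c' * c⁻¹) * (y * scl c) = scl c' * (scl c⁻¹ * y) * scl c := by rw [scl_mul]; simp [mul_assoc]
          _ = scl c' * (y * scl c⁻¹) * scl c := by rw [scalars_commute (scl_mem c⁻¹) y]
          _ = scl c' * y * scl (c⁻¹ * c) := by rw [scl_mul]; simp [mul_assoc]
          _ = scl c' * y := by rw [inv_mul_cancel, show (scl 1 : GL ι F) = 1 from map_one _, mul_one]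
      obtain ⟨j, hj⟩ := hrd
      rw [this, hj, pow_mul, hc', one_pow]
  -- scalars in R
  have hRscal : ∀ c : Fˣ, scl c ∈ R ↔ c ∈ Subgroup.zpowers ζ := by
    intro c
    constructor
    · intro h
      apply hroots
      apply scl_injective (ι := ι)
      rw [scl_pow, h.2]; exact (map_one _).symm
    · intro h
      refine ⟨le_sup_right (a := N) (scl_mem c), ?_⟩
      rw [← scl_pow, show c ^ d = 1 from ?_]
      · exact map_one _
      · exact orderOf_dvd_iff_pow_eq_one.1 ((orderOf_dvd_of_mem_zpowers h).trans (hζ ▸ hzd))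
  -- a transversal inside R
  let S : Subgroup G₀ := (scalars ι F).subgroupOf G₀
  let Q := G₀ ⧸ S
  let eQ : Q ≃ Fin (Nat.card Q) := Finite.equivFin Q
  have hTex : ∀ i : Fin (Nat.card Q), ∃ t : G₀, (t : GL ι F) ∈ R ∧ (QuotientGroup.mk t : Q) = eQ.symm i := by
    intro i
    obtain ⟨t, ht⟩ := QuotientGroup.mk_surjective (eQ.symm i)
    obtain ⟨c, hc⟩ := hscale t t.2
    have hcm : scl c ∈ G₀ := le_sup_right (a := N) (scl_mem c)
    refine ⟨⟨scl c, hcm⟩ * t, ⟨Subgroup.mul_mem _ hcm t.2, hc⟩, ?_⟩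
    rw [QuotientGroup.mk_mul, (QuotientGroup.eq_one_iff (N := S) ⟨scl c, hcm⟩).2 (scl_mem c), one_mul, ht]
  choose T' hT'R hT'q using hTex
  let T : Fin (Nat.card Q) → GL ι F := fun i => (T' i : GL ι F)
  have hinjT : ∀ x x', T x * (T x')⁻¹ ∈ scalars ι F → x = x' := by
    intro x x' h
    apply eQ.symm.injective
    rw [← hT'q, ← hT'q, ← div_eq_one, ← QuotientGroup.mk_div, QuotientGroup.eq_one_iff, div_eq_mul_inv]
    exact h
  have hcoverR : ∀ g ∈ G₀, ∃ x, ∃ w ∈ scalars ι F, g = w * T x := by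
    intro g hg
    refine ⟨eQ (QuotientGroup.mk ⟨g, hg⟩), g * (T (eQ (QuotientGroup.mk ⟨g, hg⟩)))⁻¹, ?_, by simp⟩
    have h1 := hT'q (eQ (QuotientGroup.mk ⟨g, hg⟩))
    rw [Equiv.symm_apply_apply, eq_comm, ← div_eq_one, ← QuotientGroup.mk_div, QuotientGroup.eq_one_iff,
      div_eq_mul_inv] at h1
    exact h1
  obtain ⟨hind, hspan, hcardQ⟩ := transversal_basis henv₀ hcomm₀ T (fun x => (T' x).2) hcoverR hinjT
  rw [Fintype.card_fin] at hcardQ
  have hRT : ∀ g ∈ R, ∃ x, ∃ w ∈ Subgroup.zpowers ζ, g = scl w * T x := by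
    intro g hg
    obtain ⟨x, w, hw, rfl⟩ := hcoverR g hg.1
    obtain ⟨c, rfl⟩ := exists_scl hw
    refine ⟨x, c, (hRscal c).1 ?_, rfl⟩
    have := R.mul_mem hg (R.inv_mem (hT'R x))
    rwa [show scl c * T x * ((T' x : G₀) : GL ι F)⁻¹ = scl c from mul_inv_cancel_right _ _] at this
  have hRenv : env R = ⊤ := by
    refine eq_top_iff.2 fun M _ => ?_
    obtain ⟨c, rfl⟩ := hspan M
    exact (env R).sum_mem fun x _ => (env R).smul_mem (coe_mem_env (hT'R x)) _
  have hRabs := absIrred_of_env hRenv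
  -- forms
  have hforms : ∀ σ : F →+* F, (∀ a, σ (σ a) = a) → σ (ζ : F) * (ζ : F) = 1 → InForms H := by
    intro σ hσ hσζ
    obtain ⟨G, hG0, hG⟩ := exists_fixedGram σ hσ hind hspan (U := Subgroup.zpowers ζ) (fun u hu => by
      have hle : Subgroup.zpowers ζ ≤ ((Units.map σ.toMonoidHom) * MonoidHom.id Fˣ).ker :=
        Subgroup.zpowers_le.2 (MonoidHom.mem_ker.2 (Units.ext hσζ))
      exact congrArg Units.val (MonoidHom.mem_ker.1 (hle hu))) hRT hT'R
    exact inForms_of_fixesGram σ hσ hRn hRabs hG hG0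
  by_cases hz2 : z = 2
  · refine Or.inr (Or.inl (hforms (RingHom.id F) (fun a => rfl) ?_))
    show (ζ : F) * (ζ : F) = 1
    rw [← Units.val_mul, ← sq, show 2 = orderOf ζ by omega, pow_orderOf_eq_one, Units.val_one]
  let F₀ : Subfield F := Subfield.closure {(ζ : F)}
  by_cases hF₀ : F₀ = ⊤
  swap
  · left
    obtain ⟨F₁, r', hle, hr', hcard'⟩ := exists_prime_index F₀ hF₀
    have hζmem : ∀ w ∈ Subgroup.zpowers ζ, (w : F) ∈ F₁ := by
      intro w hw
      obtain ⟨k, rfl⟩ := Subgroup.mem_zpowers_iff.1 hw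
      rw [Units.val_zpow_eq_zpow_val]
      exact zpow_mem (hle (Subfield.subset_closure rfl : (ζ : F) ∈ F₀)) k
    obtain ⟨B, hB⟩ := exists_realisation F₁ (fun x => (T x : Matrix ι ι F)) hspan hind
      (fun x y => by
        obtain ⟨x', w, hw, hxy⟩ := hRT _ (R.mul_mem (hT'R x) (hT'R y))
        refine ⟨w, hζmem w hw, x', ?_⟩
        rw [← Units.val_mul, show T x * T y = _ from hxy, coe_scl_mul])
      (by
        obtain ⟨x', w, hw, h1⟩ := hRT 1 R.one_mem
        refine ⟨w, hζmem w hw, x', ?_⟩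
        rw [← Units.val_one, show (1 : GL ι F) = _ from h1, coe_scl_mul])
    refine ⟨F₁, r', B⁻¹, hr', hcard', le_subfieldSubgroup hRn hRabs F₁ B fun g hg => ?_⟩
    obtain ⟨x, w, hw, rfl⟩ := hRT g hg
    intro i j
    rw [coe_scl_mul, mul_smul_comm, smul_mul_assoc, Matrix.smul_apply, smul_eq_mul]
    exact F₁.mul_mem (hζmem w hw) (hB x i j)
  have hcardζ : z = orderOf ζ := hζ.symm
  have hzprim : ∀ k, 1 ≤ k → k < (e : ℕ) → ((ζ : F) ^ p ^ k) ≠ (ζ : F) := by
    intro k hk hke hfix
    have := card_le_of_fixed hk hF₀ hfix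
    rw [he] at this
    exact absurd ((Nat.pow_le_pow_iff_right hpp.one_lt).1 this) (by omega)
  have hfixiff : ∀ k, z ∣ p ^ k - 1 → (ζ : F) ^ p ^ k = (ζ : F) := by
    intro k hk
    have h1 : ζ ^ (p ^ k - 1) = 1 := orderOf_dvd_iff_pow_eq_one.1 (hζ ▸ hk)
    have : ζ ^ p ^ k = ζ := by
      conv_lhs => rw [show p ^ k = p ^ k - 1 + 1 from (Nat.succ_pred_eq_of_pos (pow_pos hpp.pos k)).symm]
      rw [pow_succ, h1, one_mul]
    exact congrArg Units.val this
  have hze : z ∣ p ^ (e : ℕ) - 1 := by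
    rw [← he, ← hζ, ← Fintype.card_units]
    exact orderOf_dvd_card
  by_cases heven : Even (e : ℕ)
  · refine Or.inr (Or.inl ?_)
    obtain ⟨k, hk⟩ := heven
    have hk0 : 1 ≤ k := by have := e.pos; omega
    have hne := hzprim k hk0 (by omega)
    let σ := iterateFrobenius F p k
    have hσσ : ∀ a, σ (σ a) = a := by
      intro a
      show (a ^ p ^ k) ^ p ^ k = a
      rw [← pow_mul, ← pow_add, ← hk, ← he]
      exact FiniteField.pow_card a
    refine hforms σ hσσ ?_
    have hsq : z ∣ (p ^ k - 1) * (p ^ k + 1) := by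
      have : (p ^ k - 1) * (p ^ k + 1) = p ^ (e : ℕ) - 1 := by
        rw [hk, pow_add, mul_comm, ← Nat.sq_sub_sq, one_pow, sq]
      rwa [this]
    have hplus : z ∣ p ^ k + 1 := by
      rcases hzcases with ⟨hodd, hzr⟩ | ⟨hr2, hz4⟩ | ⟨-, h2⟩
      · subst hzr
        exact (hr.dvd_mul.1 hsq).resolve_left fun h => hne (hfixiff k h)
      · subst hz4
        by_contra hcon
        have h1 : ¬ 4 ∣ p ^ k - 1 := fun h => hne (hfixiff k h)
        have hpar : p ^ k % 2 = 1 := by
          rcases hpp.eq_two_or_odd with h2 | h2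
          · subst h2
            exfalso
            exact hrp hr2
          · rw [Nat.pow_mod, h2, one_pow, Nat.one_mod]
        omega
      · exact absurd h2 hz2
    have h1 : ζ ^ (p ^ k + 1) = 1 := orderOf_dvd_iff_pow_eq_one.1 (hζ ▸ hplus)
    show (ζ : F) ^ p ^ k * (ζ : F) = 1
    rw [← pow_succ, ← Units.val_pow_eq_pow_val, h1, Units.val_one]
  -- the residual case: a group of symplectic type
  right; right
  rw [Nat.not_even_iff_odd] at heven
  have hcenter : ∀ x : R, x ∈ Subgroup.center R ↔ (x : GL ι F) ∈ scalars ι F := by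
    intro x
    rw [Subgroup.mem_center_iff]
    constructor
    · intro h
      exact mem_scalars_of_commute hRabs fun y hy => (congrArg Subtype.val (h ⟨y, hy⟩)).symm
    · intro h y
      exact Subtype.ext (scalars_commute h y).symm
  have hcardcenter : Nat.card (Subgroup.center R) = z := by
    rw [← hζ, ← Nat.card_zpowers]
    refine (Nat.card_congr (Equiv.ofBijective (fun w : Subgroup.zpowers ζ =>
      (⟨⟨scl (w : Fˣ), (hRscal _).2 w.2⟩, (hcenter _).2 (scl_mem _)⟩ : Subgroup.center R)) ⟨?_, ?_⟩)).symm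
    · intro u v huv
      exact Subtype.ext (scl_injective (congrArg (fun q : Subgroup.center R => (q.1 : GL ι F)) huv))
    · intro x
      obtain ⟨c, hc⟩ := exists_scl ((hcenter x.1).1 x.2)
      refine ⟨⟨c, (hRscal c).1 (hc ▸ x.1.2)⟩, ?_⟩
      exact Subtype.ext (Subtype.ext hc.symm)
  -- Q has exponent r, so its order is a power of r
  have hQpow : ∀ q : Q, q ^ r = 1 := by
    intro q
    obtain ⟨t, rfl⟩ := QuotientGroup.mk_surjective q
    rw [← QuotientGroup.mk_pow, QuotientGroup.eq_one_iff]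
    exact hpow₀ t t.2
  obtain ⟨l, hl⟩ : ∃ l, Nat.card Q = r ^ l := by
    have : Fact r.Prime := ⟨hr⟩
    have hpQ : IsPGroup r Q := fun q => ⟨1, by rw [pow_one]; exact hQpow q⟩
    exact IsPGroup.iff_card.1 hpQ
  obtain ⟨m, -, hm⟩ := (Nat.dvd_prime_pow hr).1 (show Fintype.card ι ∣ r ^ l from
    hl ▸ hcardQ ▸ dvd_pow_self _ two_ne_zero)
  have hm1 : 1 ≤ m := by
    rcases Nat.eq_zero_or_pos m with rfl | h
    · rw [pow_zero] at hm; omega
    · exact h
  have hcardR : Nat.card R = z * r ^ (2 * m) := by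
    let ψ : R →* Q := (QuotientGroup.mk' S).comp (Subgroup.inclusion (fun x hx => hx.1))
    have hsurj : Function.Surjective ψ := fun q => ⟨⟨_, hT'R (eQ q)⟩, by
      show (QuotientGroup.mk (T' (eQ q)) : Q) = q
      rw [hT'q, Equiv.symm_apply_apply]⟩
    have hker : ψ.ker = Subgroup.center R := by
      ext x
      rw [MonoidHom.mem_ker, hcenter]
      exact QuotientGroup.eq_one_iff _
    rw [Subgroup.card_eq_card_quotient_mul_card_subgroup ψ.ker,
      Nat.card_congr (QuotientGroup.quotientKerEquivOfSurjective ψ hsurj).toEquiv, hker, hcardcenter,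
      hcardQ, hm, ← pow_mul, mul_comm, mul_comm m 2]
  have hRp : IsPGroup r R := by
    intro x
    refine ⟨2, Subtype.ext ?_⟩
    rw [Subgroup.coe_pow, Subgroup.coe_one]
    have : d ∣ r ^ 2 := by
      rw [hd, sq]; exact mul_dvd_mul_left r (Nat.gcd_dvd_right 2 r)
    obtain ⟨j, hj⟩ := this
    rw [hj, pow_mul, x.2.2, one_pow]
  have hexp : Monoid.exponent R = d := by
    have hdvd : Monoid.exponent R ∣ d :=
      Monoid.exponent_dvd_of_forall_pow_eq_one fun x => Subtype.ext (by rw [Subgroup.coe_pow]; exact x.2.2)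
    refine Nat.dvd_antisymm hdvd ?_
    have h1 : z ∣ Monoid.exponent R := by
      have := Monoid.order_dvd_exponent (⟨scl ζ, (hRscal ζ).2 (Subgroup.mem_zpowers ζ)⟩ : R)
      rw [← orderOf_injective R.subtype (Subgroup.subtype_injective R)] at this
      change orderOf (Units.map (Matrix.scalar ι : F →+* Matrix ι ι F).toMonoidHom ζ) ∣ _ at this
      rwa [orderOf_injective (Units.map (Matrix.scalar ι : F →+* Matrix ι ι F).toMonoidHom)
          (scl_injective (ι := ι)), hζ] at this
    rcases hzcases with ⟨hodd, hzr⟩ | ⟨h2, hz4⟩ | ⟨-, h2⟩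
    · have hg : Nat.gcd 2 r = 1 := Nat.coprime_two_left.2 hodd
      rw [hd, hg, mul_one]; rwa [hzr] at h1
    · rw [hd, h2]; rw [hz4] at h1; exact h1
    · exact absurd h2 hz2
  have hchar : ∀ A : Subgroup R, A.Characteristic → IsMulCommutative A → IsCyclic A := by
    intro A hA hAc
    let A' : Subgroup (GL ι F) := A.map R.subtype
    have hA'n : ∀ h ∈ H, ∀ x ∈ A', h * x * h⁻¹ ∈ A' := by
      intro h hh x hx
      obtain ⟨y, hy, rfl⟩ := hx
      let α : R ≃* R :=
        { toFun := fun g => ⟨h * g * h⁻¹, hRn h hh g g.2⟩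
          invFun := fun g => ⟨h⁻¹ * g * h⁻¹⁻¹, hRn h⁻¹ (H.inv_mem hh) g g.2⟩
          left_inv := fun g => Subtype.ext (by simp [mul_assoc])
          right_inv := fun g => Subtype.ext (by simp [mul_assoc])
          map_mul' := fun g g' => Subtype.ext (by simp [mul_assoc]) }
      refine ⟨α y, ?_, rfl⟩
      have := Subgroup.characteristic_iff_map_le.1 hA α
      exact this ⟨y, hy, rfl⟩
    let M : Subgroup (GL ι F) := N ⊓ (A' ⊔ scalars ι F)
    have hMn : NormalIn H M := ⟨fun x hx => hN.1 hx.1, fun h hh x hx => by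
      refine ⟨hN.2 h hh x hx.1, ?_⟩
      obtain ⟨y, hy, w, hw, rfl⟩ := Subgroup.mem_sup_of_normal_right.1 hx.2
      have : h * (y * w) * h⁻¹ = (h * y * h⁻¹) * (h * w * h⁻¹) := by simp [mul_assoc]
      rw [this]
      exact Subgroup.mul_mem_sup (hA'n h hh y hy) (scalars_normal.conj_mem _ hw h)⟩
    have hMcomm : ∀ x ∈ M, ∀ y ∈ M, x * y = y * x := by
      intro x hx y hy
      obtain ⟨_, ⟨a', ha', rfl⟩, w, hw, rfl⟩ := Subgroup.mem_sup_of_normal_right.1 hx.2
      obtain ⟨_, ⟨b', hb', rfl⟩, w', hw', rfl⟩ := Subgroup.mem_sup_of_normal_right.1 hy.2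
      have h1 : Commute (a' : GL ι F) (b' : GL ι F) := by
        have := congrArg (fun q : A => ((q : R) : GL ι F)) (hAc.is_comm.comm ⟨a', ha'⟩ ⟨b', hb'⟩)
        exact this
      have h2 : ∀ g, Commute w g := fun g => scalars_commute hw g
      have h3 : ∀ g, Commute w' g := fun g => scalars_commute hw' g
      exact ((h1.mul_right (h3 _).symm).mul_left (h2 _)).eq
    have hMs : M ≤ scalars ι F := by
      refine (hmin M hMn inf_le_left).resolve_right fun e => ?_
      exact hns fun x hx => mem_scalars_of_commute habs fun y hy => hMcomm x (e ▸ hx) y (e ▸ hy)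
    have hAs : ∀ x ∈ A, (x : GL ι F) ∈ scalars ι F := by
      intro x hx
      obtain ⟨y, hy, c, hc⟩ := hmem₀ x x.2.1
      have hyM : y ∈ M := by
        refine ⟨hy, ?_⟩
        have : y = (x : GL ι F) * (scl c)⁻¹ := by rw [hc, mul_inv_cancel_right]
        rw [this]
        exact Subgroup.mul_mem_sup ⟨x, hx, rfl⟩ (Subgroup.inv_mem _ (scl_mem c))
      rw [hc]
      exact Subgroup.mul_mem _ (hMs hyM) (scl_mem c)
    have hle : A ≤ Subgroup.center R := fun x hx => (hcenter x).2 (hAs x hx)
    choose cf hcf using fun x : A => exists_scl (hAs x x.2)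
    let f : A →* Fˣ :=
      { toFun := cf
        map_one' := scl_injective (ι := ι) (by rw [← hcf]; exact (map_one _).symm)
        map_mul' := fun x y => scl_injective (ι := ι) (by rw [← hcf, scl_mul, ← hcf, ← hcf]; rfl) }
    exact isCyclic_of_injective f fun x y hxy => by
      apply Subtype.ext; apply Subtype.ext
      rw [hcf x, hcf y, show cf x = cf y from hxy]
  refine ⟨r, R, m, ⟨⟨hr, hRp, hchar, hexp⟩, hRabs, p, e, hrp, ⟨hpp, hp, he, ?_, ?_⟩, ?_⟩, hm, hm1,
    fun h hh => ?_⟩
  · rw [hcardcenter]; exact hze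
  · intro k hk hke hdiv
    rw [hcardcenter] at hdiv
    exact hzprim k hk hke (hfixiff k hdiv)
  · rcases hzcases with ⟨hodd, hzr⟩ | ⟨h2, hz4⟩ | ⟨-, h2⟩
    · refine Or.inl ⟨hodd, heven, hcardcenter.trans hzr, m, hm1, ?_⟩
      rw [hcardR, hzr, Nat.add_comm 1, pow_succ, mul_comm]
    · subst h2
      refine Or.inr (Or.inl ⟨rfl, ?_, hcardcenter.trans hz4, ?_, m, ?_⟩)
      · by_contra hne
        have h1 : 1 < (e : ℕ) := by have := e.pos; omega
        have hpodd : p % 2 = 1 := hpp.eq_two_or_odd.resolve_left fun h => hrp h.symm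
        rcases (show p % 4 = 1 ∨ p % 4 = 3 by omega) with h4 | h4
        · exact hzprim 1 le_rfl h1 (hfixiff 1 (by rw [hz4, pow_one]; omega))
        · obtain ⟨j, hj⟩ := heven
          have : p ^ (e : ℕ) % 4 = 3 := by
            rw [Nat.pow_mod, h4, hj, pow_succ, pow_mul, Nat.mul_mod, Nat.pow_mod]
            norm_num
          rw [hz4] at hze
          omega
      · rcases Nat.lt_or_ge m 2 with hm2 | hm2
        · have : m = 1 := by omega
          subst this
          rw [pow_one] at hm
          omega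
        · rw [hm]; exact le_trans (by norm_num) (Nat.pow_le_pow_right (by norm_num) hm2)
      · rw [hcardR, hz4, pow_add]; norm_num
    · exact absurd h2 hz2
  · rw [subgroupNormalizer, Subgroup.mem_normalizer_iff]
    refine fun x => ⟨fun hx => hRn h hh x hx, fun hx => ?_⟩
    have := hRn h⁻¹ (H.inv_mem hh) _ hx
    simpa [mul_assoc] using this

end Cfsg.Agent.H99.Asch
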