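import Cfsg.Agent.H99.Aschbacher.Frame

/-!
Tensor powers: pairwise commuting full matrix subalgebras generating everything come from a tensor-power frame;
the standard elements of the tensor wreath group.
-/

set_option autoImplicit false

open scoped MatrixGroups Matrix

namespace Cfsg.Agent.H99.Asch

open Cfsg.Geo

variable {ι : Type} [Fintype ι] [DecidableEq ι] {F : Type*} [Field F] {k s : ℕ}

/-- The tensor product of a family of k matrices of size s, indexed by functions Fin k → Fin s. -/
def tpow (c : Fin k → Matrix (Fin s) (Fin s) F) : Matrix (Fin k → Fin s) (Fin k → Fin s) F :=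
  Matrix.of fun x y => ∏ i, c i (x i) (y i)

lemma tpow_apply (c : Fin k → Matrix (Fin s) (Fin s) F) (x y : Fin k → Fin s) :
    tpow c x y = ∏ i, c i (x i) (y i) := rfl

lemma tpow_mul (c d : Fin k → Matrix (Fin s) (Fin s) F) : tpow (c * d) = tpow c * tpow d := by
  ext x y
  simp only [tpow_apply, Matrix.mul_apply, Pi.mul_apply, Fintype.prod_sum, ← Finset.prod_mul_distrib]

lemma tpow_one : tpow (1 : Fin k → Matrix (Fin s) (Fin s) F) = 1 := by
  ext x y
  rw [tpow_apply, Matrix.one_apply]
  by_cases h : x = y
  · subst h; simp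
  · obtain ⟨i, hi⟩ := Function.ne_iff.1 h
    rw [if_neg h]
    exact Finset.prod_eq_zero (Finset.mem_univ i) (by simp [hi])

lemma tpow_transpose (c : Fin k → Matrix (Fin s) (Fin s) F) : (tpow c)ᵀ = tpow fun i => (c i)ᵀ := by
  ext x y; rfl

lemma tpow_smul (a : Fin k → F) (c : Fin k → Matrix (Fin s) (Fin s) F) :
    tpow (fun i => a i • c i) = (∏ i, a i) • tpow c := by
  ext x y
  simp [tpow_apply, Finset.prod_mul_distrib]

/-- The tensor product of k invertible matrices as an invertible matrix. -/
def tpowUnit (g : Fin k → GL (Fin s) F) : GL (Fin k → Fin s) F where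
  val := tpow fun i => (g i : Matrix (Fin s) (Fin s) F)
  inv := tpow fun i => ((g i)⁻¹ : GL (Fin s) F)
  val_inv := by
    rw [← tpow_mul, ← tpow_one (k := k) (s := s)]
    congr 1
    funext i
    rw [Pi.mul_apply, Pi.one_apply, ← Units.val_mul, mul_inv_cancel, Units.val_one]
  inv_val := by
    rw [← tpow_mul, ← tpow_one (k := k) (s := s)]
    congr 1
    funext i
    rw [Pi.mul_apply, Pi.one_apply, ← Units.val_mul, inv_mul_cancel, Units.val_one]

/-- The matrix permuting the tensor factors by σ. -/
def permMat (σ : Equiv.Perm (Fin k)) : Matrix (Fin k → Fin s) (Fin k → Fin s) F :=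
  Matrix.of fun x y => if y = x ∘ σ then 1 else 0

lemma permMat_mul_apply (σ : Equiv.Perm (Fin k)) (M : Matrix (Fin k → Fin s) (Fin k → Fin s) F)
    (x y : Fin k → Fin s) : ((permMat σ : Matrix (Fin k → Fin s) (Fin k → Fin s) F) * M) x y = M (x ∘ σ) y := by
  simp [permMat, Matrix.mul_apply]

lemma mul_permMat_apply (σ : Equiv.Perm (Fin k)) (M : Matrix (Fin k → Fin s) (Fin k → Fin s) F)
    (x y : Fin k → Fin s) : (M * (permMat σ : Matrix (Fin k → Fin s) (Fin k → Fin s) F)) x y = M x (y ∘ σ.symm) := by
  have h : ∀ z : Fin k → Fin s, (y = z ∘ σ) ↔ (z = y ∘ σ.symm) := by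
    intro z
    constructor
    · rintro rfl; funext i; simp
    · rintro rfl; funext i; simp
  simp [permMat, Matrix.mul_apply, h]

lemma permMat_transpose (σ : Equiv.Perm (Fin k)) : (permMat σ : Matrix (Fin k → Fin s) (Fin k → Fin s) F)ᵀ = permMat σ.symm := by
  ext x y
  have h : (x = y ∘ σ) ↔ (y = x ∘ σ.symm) := by
    constructor
    · rintro rfl; funext i; simp
    · rintro rfl; funext i; simp
  simp [permMat, h]

/-- The factor permutation as an invertible matrix. -/
def permUnit (σ : Equiv.Perm (Fin k)) : GL (Fin k → Fin s) F where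
  val := permMat σ
  inv := permMat σ.symm
  val_inv := by
    ext x y
    rw [permMat_mul_apply]
    have h : y = (x ∘ σ) ∘ σ.symm ↔ x = y := by
      rw [show (x ∘ σ) ∘ σ.symm = x by funext i; simp]; exact eq_comm
    simp [permMat, Matrix.one_apply, h]
  inv_val := by
    ext x y
    rw [permMat_mul_apply]
    have h : y = (x ∘ σ.symm) ∘ σ ↔ x = y := by
      rw [show (x ∘ σ.symm) ∘ σ = x by funext i; simp]; exact eq_comm
    simp [permMat, Matrix.one_apply, h]

lemma permMat_conj (σ : Equiv.Perm (Fin k)) (c : Fin k → Matrix (Fin s) (Fin s) F) :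
    permMat σ * tpow c * permMat σ.symm = tpow (c ∘ σ.symm) := by
  ext x y
  rw [mul_permMat_apply, permMat_mul_apply, tpow_apply, tpow_apply, Equiv.symm_symm,
    ← Equiv.prod_comp σ (fun i => (c ∘ σ.symm) i (x i) (y i))]
  simp

lemma tpowUnit_mem (g : Fin k → GL (Fin s) F) : tpowUnit g ∈ tensorWreathStandard s k F :=
  Subgroup.subset_closure (Or.inl ⟨g, fun _ _ => rfl⟩)

lemma permUnit_mem (σ : Equiv.Perm (Fin k)) : (permUnit σ : GL (Fin k → Fin s) F) ∈ tensorWreathStandard s k F :=
  Subgroup.subset_closure (Or.inr ⟨σ, fun _ _ => rfl⟩)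

/-- Commuting full matrix subalgebras generating the whole algebra form a tensor power. -/
theorem exists_tensorPower [Nonempty ι] [NeZero s] (L : Fin k → Matrix (Fin s) (Fin s) F →ₐ[F] Matrix ι ι F)
    (hcomm : ∀ i j, i ≠ j → ∀ a b, L i a * L j b = L j b * L i a)
    (hgen : Algebra.adjoin F (⋃ i, Set.range (L i)) = ⊤) :
    ∃ (e : ι ≃ (Fin k → Fin s)) (P : GL ι F), ∀ i a, L i a =
      (P : Matrix ι ι F) * Matrix.reindexAlgEquiv F F e.symm (tpow (Function.update 1 i a)) *
        ((P⁻¹ : GL ι F) : Matrix ι ι F) := by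
  classical
  let ρ : MultilinearMap F (fun _ : Fin k => Matrix (Fin s) (Fin s) F) (Matrix ι ι F) :=
    (MultilinearMap.mkPiAlgebraFin F k (Matrix ι ι F)).compLinearMap fun i => (L i).toLinearMap
  have hρ : ∀ c, ρ c = (List.ofFn fun i => L i (c i)).prod := fun c => rfl
  -- products of the commuting factors
  have key : ∀ (j : ℕ) (M : Fin j → Matrix (Fin s) (Fin s) F →ₐ[F] Matrix ι ι F),
      (∀ i i', i ≠ i' → ∀ a b, M i a * M i' b = M i' b * M i a) →
      (∀ c d : Fin j → Matrix (Fin s) (Fin s) F, (List.ofFn fun i => M i ((c * d) i)).prod =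
        (List.ofFn fun i => M i (c i)).prod * (List.ofFn fun i => M i (d i)).prod) ∧
      (∀ (i₀ : Fin j) (a : Matrix (Fin s) (Fin s) F),
        (List.ofFn fun i => M i (Function.update (1 : Fin j → Matrix (Fin s) (Fin s) F) i₀ a i)).prod = M i₀ a) ∧
      (List.ofFn fun i => M i ((1 : Fin j → Matrix (Fin s) (Fin s) F) i)).prod = 1 := by
    intro j
    induction j with
    | zero => intro M _; exact ⟨fun c d => by simp, fun i₀ => i₀.elim0, by simp⟩
    | succ j ih =>
      intro M hM
      obtain ⟨ihm, ihu, ih1⟩ := ih (fun i => M i.succ) (fun i i' h => hM _ _ (fun e => h (Fin.succ_injective _ e)))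
      refine ⟨fun c d => ?_, fun i₀ a => ?_, ?_⟩
      · simp only [List.ofFn_succ, List.prod_cons]
        have hc : Commute (M 0 (d 0)) (List.ofFn fun i : Fin j => M i.succ (c i.succ)).prod := by
          refine Commute.list_prod_right _ _ fun x hx => ?_
          obtain ⟨i, rfl⟩ := List.mem_ofFn.1 hx
          exact hM 0 i.succ (Fin.succ_ne_zero i).symm _ _
        have h2 := ihm (fun i => c i.succ) (fun i => d i.succ)
        simp only [Pi.mul_apply] at h2 ⊢
        rw [h2, map_mul, mul_assoc, ← mul_assoc (M 0 (d 0)), hc.eq]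
        simp only [mul_assoc]
      · simp only [List.ofFn_succ, List.prod_cons]
        refine Fin.cases ?_ (fun i₁ => ?_) i₀
        · rw [Function.update_self]
          have : (fun i : Fin j => M i.succ (Function.update (1 : Fin (j + 1) → Matrix (Fin s) (Fin s) F) 0 a i.succ)) =
              fun i : Fin j => M i.succ ((1 : Fin j → Matrix (Fin s) (Fin s) F) i) := by
            funext i; rw [Function.update_of_ne (Fin.succ_ne_zero i)]; rfl
          rw [this, ih1, mul_one]
        · rw [Function.update_of_ne (Fin.succ_ne_zero i₁).symm]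
          have : (fun i : Fin j => M i.succ (Function.update (1 : Fin (j + 1) → Matrix (Fin s) (Fin s) F) i₁.succ a i.succ)) =
              fun i : Fin j => M i.succ (Function.update (1 : Fin j → Matrix (Fin s) (Fin s) F) i₁ a i) := by
            funext i
            by_cases h : i = i₁
            · subst h; simp
            · rw [Function.update_of_ne h, Function.update_of_ne (fun e => h (Fin.succ_injective _ e))]; rfl
          rw [this, ihu i₁ a, Pi.one_apply, map_one, one_mul]
      · simp only [List.ofFn_succ, List.prod_cons]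
        rw [show (1 : Fin (j + 1) → Matrix (Fin s) (Fin s) F) 0 = 1 from rfl, map_one, one_mul]
        exact ih1
  obtain ⟨kmul, kupd, kone⟩ := key k L hcomm
  let E : (Fin k → Fin s) → (Fin k → Fin s) → Matrix ι ι F := fun x y => ρ fun i => Matrix.single (x i) (y i) 1
  have hexp : ∀ c, ρ c = ∑ x : Fin k → Fin s, ∑ y : Fin k → Fin s, tpow c x y • E x y := by
    intro c
    have h1 : c = fun i => ∑ p : Fin s × Fin s, c i p.1 p.2 • Matrix.single p.1 p.2 (1 : F) := by
      funext i
      rw [Fintype.sum_prod_type]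
      conv_lhs => rw [Matrix.matrix_eq_sum_single (c i)]
      simp [Matrix.smul_single]
    conv_lhs => rw [h1]
    rw [MultilinearMap.map_sum, ← Fintype.sum_prod_type',
      ← Equiv.sum_comp (Equiv.arrowProdEquivProdArrow (Fin k) (fun _ => Fin s) (fun _ => Fin s)).symm]
    refine Finset.sum_congr rfl fun q _ => ?_
    rw [MultilinearMap.map_smul_univ]
    rfl
  have hE : IsMatrixUnits E := by
    constructor
    · intro a b c d
      have h1 : E a b * E c d = ρ ((fun i => Matrix.single (a i) (b i) (1 : F)) * fun i => Matrix.single (c i) (d i) 1) :=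
        (kmul _ _).symm
      rw [h1]
      split_ifs with h
      · subst h
        refine congrArg ρ (funext fun i => ?_)
        rw [Pi.mul_apply, Matrix.single_mul_single_same, one_mul]
      · obtain ⟨i, hi⟩ := Function.ne_iff.1 h
        refine ρ.map_coord_zero i ?_
        rw [Pi.mul_apply, Matrix.single_mul_single_of_ne (i := a i) (j := b i) (k := c i) 1 hi]
    · have h1 : ρ 1 = 1 := kone
      rw [hexp, tpow_one] at h1
      simpa [Matrix.one_apply] using h1
  obtain ⟨t, e, P, hP⟩ := exists_frame hE
  have hρP : ∀ c, ρ c = (P : Matrix ι ι F) * tens e (tpow c) 1 * ((P⁻¹ : GL ι F) : Matrix ι ι F) := by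
    intro c
    rw [hexp]
    conv_rhs => rw [Matrix.matrix_eq_sum_single (tpow c), ← tensL_apply]
    simp only [map_sum, Finset.mul_sum, Finset.sum_mul]
    refine Finset.sum_congr rfl fun x _ => Finset.sum_congr rfl fun y _ => ?_
    rw [show Matrix.single x y (tpow c x y) = tpow c x y • Matrix.single x y (1 : F) by
      rw [Matrix.smul_single, smul_eq_mul, mul_one], map_smul, mul_smul_comm, smul_mul_assoc, tensL_apply, ← hP]
  let Λ : Matrix (Fin k → Fin s) (Fin k → Fin s) F →ₐ[F] Matrix ι ι F :=
    { toFun := fun a => (P : Matrix ι ι F) * tensL e a * ((P⁻¹ : GL ι F) : Matrix ι ι F)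
      map_one' := by rw [map_one, mul_one, ← Units.val_mul, mul_inv_cancel, Units.val_one]
      map_mul' := fun a b => by
        rw [map_mul]
        simp only [mul_assoc]
        rw [← mul_assoc ((P⁻¹ : GL ι F) : Matrix ι ι F) (P : Matrix ι ι F), ← Units.val_mul, inv_mul_cancel,
          Units.val_one, one_mul]
      map_zero' := by rw [map_zero, mul_zero, zero_mul]
      map_add' := fun a b => by rw [map_add, mul_add, add_mul]
      commutes' := fun r => by
        rw [AlgHom.commutes, Algebra.algebraMap_eq_smul_one, mul_smul_comm, smul_mul_assoc, mul_one,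
          ← Units.val_mul, mul_inv_cancel, Units.val_one] }
  have ht : t = 1 := by
    refine frame_size_one e P fun M => ?_
    have hle : Algebra.adjoin F (⋃ i, Set.range (L i)) ≤ Λ.range := by
      refine Algebra.adjoin_le ?_
      simp only [Set.iUnion_subset_iff, Set.range_subset_iff]
      intro i a
      exact ⟨tpow (Function.update 1 i a), (hρP _).symm.trans (kupd i a)⟩
    rw [hgen] at hle
    obtain ⟨a, ha⟩ := hle (Algebra.mem_top (x := M))
    exact ⟨a, ha.symm⟩
  subst ht
  refine ⟨e.trans (Equiv.prodUnique _ _), P, fun i a => ?_⟩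
  rw [← kupd i a]
  refine (hρP _).trans ?_
  congr 2
  ext x y
  rw [tens_apply, Subsingleton.elim (e x).2 (e y).2, Matrix.one_apply_eq, mul_one]
  rfl

end Cfsg.Agent.H99.Asch
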