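import Cfsg.Agent.H99.Aschbacher.Base
import Cfsg.Agent.H99.Aschbacher.SymplecticType
import Cfsg.Agent.H99.Aschbacher.TensorPower

/-!
The perfect case of Aschbacher's theorem: a minimal non-scalar normal subgroup that is perfect is the core of the
residual class, or gives a subfield group, a similarity group or a tensor-power stabiliser.
-/

set_option autoImplicit false

open scoped MatrixGroups Matrix commutatorElement

namespace Cfsg.Agent.H99.Asch

open Cfsg.Geo

variable {ι : Type} [Fintype ι] [DecidableEq ι] {F : Type*} [Field F]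

/-- The perfect case. -/
theorem perfect_case [Fintype F] (hn3 : 3 ≤ Fintype.card ι) {H N : Subgroup (GL ι F)}
    (hN : NormalIn H N) (henv : env N = ⊤)
    (hmin : ∀ M, NormalIn H M → M ≤ N → M ≤ scalars ι F ∨ M = N) (hperf : ⁅N, N⁆ = N) :
    InLinearResidualClass H ∨
    (∃ (F₁ : Subfield F) (r : ℕ) (P : GL ι F), r.Prime ∧ Fintype.card F = Nat.card F₁ ^ r ∧
      H ≤ subfieldSubgroup F₁ P) ∨
    InForms H ∨
    (∃ (m k : ℕ) (e : ι ≃ (Fin k → Fin m)) (P : GL ι F), 3 ≤ m ∧ 2 ≤ k ∧ H ≤ tensorWreathSubgroup m k e P) := by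
  classical
  have : Nonempty ι := Fintype.card_pos_iff.1 (by omega)
  have : Nontrivial ι := Fintype.one_lt_card_iff_nontrivial.1 (by omega)
  have habs := absIrred_of_env henv
  have hzc : ∀ K : Subgroup (GL ι F), scalars ι F ≤ Subgroup.centralizer (K : Set (GL ι F)) := fun K z hz =>
    Subgroup.mem_centralizer_iff.2 fun g _ => (scalars_commute hz g).symm
  -- N is not scalar
  have hns : ¬ N ≤ scalars ι F := by
    intro h
    have h1 : ⁅N, N⁆ = ⊥ := Subgroup.commutator_eq_bot_iff_le_centralizer.2 fun x hx =>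
      Subgroup.mem_centralizer_iff.2 fun y _ => (scalars_commute (h hx) y).symm
    rw [hperf] at h1
    obtain ⟨i, j, hij⟩ := exists_pair_ne ι
    have hle : env N ≤ ⊥ := env_le_iff.2 fun g hg => by
      rw [h1, Subgroup.mem_bot] at hg
      rw [hg, Units.val_one]
      exact one_mem _
    rw [henv] at hle
    obtain ⟨c, hc⟩ := Algebra.mem_bot.1 (hle (Algebra.mem_top (x := Matrix.single i j (1 : F))))
    have := congrArg (fun M : Matrix ι ι F => M i j) hc
    simp [Matrix.algebraMap_matrix_apply, hij] at this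
  by_cases hs : ∀ Q : Subgroup (GL ι F), Q ≤ N → (∀ x ∈ N, ∀ y ∈ Q, x * y * x⁻¹ ∈ Q) → Q ≤ scalars ι F ∨ Q = N
  · -- almost simple
    by_cases hreal : ∃ F₀ : Subfield F, F₀ ≠ ⊤ ∧ RealisableOver F₀ (matrixSet N)
    · obtain ⟨F₀, hF₀, B, hB⟩ := hreal
      obtain ⟨F₁, r, hle, hr, hcard⟩ := exists_prime_index F₀ hF₀
      exact Or.inr (Or.inl ⟨F₁, r, B⁻¹, hr, hcard, le_subfieldSubgroup hN.2 habs F₁ B
        fun x hx i j => hle (hB _ ⟨x, hx, rfl⟩ i j)⟩)
    push Not at hreal
    by_cases hform : (∃ Q : (ι → F) → F, IsNondegenerateQuadraticForm Q ∧ FixesQuadForm (matrixSet N) Q) ∨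
        (∃ f : (ι → F) → (ι → F) → F, IsSymplecticForm f ∧ FixesForm (matrixSet N) f) ∨
        (∃ (σ : F ≃+* F) (f : (ι → F) → (ι → F) → F), IsUnitaryForm σ f ∧ FixesForm (matrixSet N) f)
    · exact Or.inr (Or.inr (Or.inl (inForms_of_fixed hN.2 habs hform)))
    left
    let S : Subgroup N := (scalars ι F).subgroupOf N
    have hnab : ¬ IsMulCommutative (N ⧸ S) := by
      intro hc
      apply hns
      have h1 : ⁅N, N⁆ ≤ scalars ι F := by
        refine Subgroup.commutator_le.2 fun x hx y hy => ?_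
        have h2 := hc.is_comm.comm (QuotientGroup.mk ⟨x, hx⟩ : N ⧸ S) (QuotientGroup.mk ⟨y, hy⟩)
        have h3 : (QuotientGroup.mk (⟨x, hx⟩ * ⟨y, hy⟩ * ⟨x, hx⟩⁻¹ * ⟨y, hy⟩⁻¹) : N ⧸ S) = 1 := by
          rw [QuotientGroup.mk_mul, QuotientGroup.mk_mul, QuotientGroup.mk_mul, QuotientGroup.mk_inv,
            QuotientGroup.mk_inv, h2, mul_inv_cancel_right, mul_inv_cancel]
        exact (QuotientGroup.eq_one_iff (N := S) _).1 h3
      rwa [hperf] at h1
    refine ⟨N, ⟨hN.1, hN.2, hperf, ?_, hnab, ?_, habs, hreal⟩, fun h => hform (Or.inl h),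
      fun h => hform (Or.inr (Or.inl h)), fun h => hform (Or.inr (Or.inr h))⟩
    · have : Nontrivial (N ⧸ S) := by
        refine QuotientGroup.nontrivial_iff.2 fun h => hns fun x hx => ?_
        exact (show (⟨x, hx⟩ : N) ∈ S from h ▸ Subgroup.mem_top _)
      refine ⟨fun M hM => ?_⟩
      let M' : Subgroup N := M.comap (QuotientGroup.mk' S)
      have hMN : (M'.map N.subtype) ≤ N := by
        rintro _ ⟨y, -, rfl⟩; exact y.2
      rcases hs _ hMN (by
        rintro x hx _ ⟨y, hy, rfl⟩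
        exact ⟨⟨x, hx⟩ * y * ⟨x, hx⟩⁻¹, (Subgroup.normal_comap (QuotientGroup.mk' S)).conj_mem y hy _, rfl⟩) with h | h
      · left
        rw [eq_bot_iff]
        intro q hq
        obtain ⟨y, rfl⟩ := QuotientGroup.mk_surjective q
        rw [Subgroup.mem_bot, QuotientGroup.eq_one_iff]
        exact h ⟨y, hq, rfl⟩
      · right
        rw [eq_top_iff]
        intro q _
        obtain ⟨y, rfl⟩ := QuotientGroup.mk_surjective q
        obtain ⟨y', hy', he⟩ := (h.symm ▸ y.2 : (y : GL ι F) ∈ M'.map N.subtype)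
        rw [Subtype.ext (he : (y' : GL ι F) = y)] at hy'
        exact hy'
    · intro h hh hx
      refine mem_scalars_of_commute habs ?_
      have key : ⁅N, N⁆ ≤ Subgroup.centralizer {h} := by
        refine Subgroup.commutator_le.2 fun x hxN y hyN => ?_
        rw [Subgroup.mem_centralizer_singleton_iff]
        obtain ⟨z, hz, hzx⟩ : ∃ z ∈ scalars ι F, h * x * h⁻¹ = z * x := ⟨_, hx x hxN, by simp⟩
        obtain ⟨w, hw, hwy⟩ : ∃ w ∈ scalars ι F, h * y * h⁻¹ = w * y := ⟨_, hx y hyN, by simp⟩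
        have hz' : ∀ g, z * g = g * z := scalars_commute hz
        have hw' : ∀ g, w * g = g * w := scalars_commute hw
        have e : h * ⁅x, y⁆ * h⁻¹ = ⁅x, y⁆ := by
          calc h * ⁅x, y⁆ * h⁻¹ = ⁅h * x * h⁻¹, h * y * h⁻¹⁆ := conjugate_commutatorElement x y h
            _ = ⁅z * x, w * y⁆ := by rw [hzx, hwy]
            _ = z * x * (w * y) * (x⁻¹ * z⁻¹) * (y⁻¹ * w⁻¹) := by simp [commutatorElement_def, mul_inv_rev]
            _ = w * (z * (x * y * x⁻¹) * z⁻¹) * (y⁻¹ * w⁻¹) := by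
              rw [mul_assoc z x, ← mul_assoc x w y, ← hw' x]
              simp only [← mul_assoc]
              rw [← hw' z]
            _ = w * (x * y * x⁻¹ * y⁻¹) * w⁻¹ := by
              rw [hz' (x * y * x⁻¹)]
              simp [mul_assoc]
            _ = ⁅x, y⁆ := by rw [hw' _, mul_inv_cancel_right, commutatorElement_def]
        exact (mul_inv_eq_iff_eq_mul.1 e).symm
      rw [hperf] at key
      intro x hxN
      have := Subgroup.mem_centralizer_singleton_iff.1 (key hxN)
      exact this.symm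
  -- several simple factors
  push Not at hs
  obtain ⟨Q₁, hQ₁⟩ := hs
  let NQ : Subgroup (GL ι F) → Prop := fun Q => Q ≤ N ∧ (∀ x ∈ N, ∀ y ∈ Q, x * y * x⁻¹ ∈ Q) ∧ ¬ Q ≤ scalars ι F
  have hNQ₁ : NQ Q₁ := ⟨hQ₁.1, hQ₁.2.1, hQ₁.2.2.1⟩
  obtain ⟨Q₀, hQ₀le, hQ₀min⟩ := Finite.exists_le_minimal (p := NQ) hNQ₁
  have hQ₀N : Q₀ ≠ N := fun e => hQ₁.2.2.2 (le_antisymm hQ₁.1 (e ▸ hQ₀le))
  let cQ : GL ι F → Subgroup (GL ι F) := fun h => Q₀.map (MulAut.conj h).toMonoidHom
  have hcQ : ∀ h x, x ∈ cQ h ↔ h⁻¹ * x * h ∈ Q₀ := fun h x => by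
    rw [Subgroup.mem_map_equiv, MulAut.conj_symm_apply]
  have hcQmin : ∀ h ∈ H, Minimal NQ (cQ h) := by
    intro h hh
    have hconj : ∀ (Q : Subgroup (GL ι F)) (g : GL ι F), g ∈ H → NQ Q → NQ (Q.map (MulAut.conj g).toMonoidHom) := by
      intro Q g hg hQ
      refine ⟨?_, ?_, ?_⟩
      · rintro _ ⟨x, hx, rfl⟩
        exact hN.2 g hg x (hQ.1 hx)
      · rintro x hx _ ⟨y, hy, rfl⟩
        refine ⟨g⁻¹ * x * g * y * (g⁻¹ * x * g)⁻¹, hQ.2.1 _ ?_ y hy, ?_⟩
        · have := hN.2 g⁻¹ (H.inv_mem hg) x hx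
          rwa [inv_inv] at this
        · show g * _ * g⁻¹ = x * (g * y * g⁻¹) * x⁻¹
          simp [mul_assoc]
      · intro hle
        apply hQ.2.2
        intro y hy
        have := scalars_normal.conj_mem _ (hle ⟨y, hy, rfl⟩) g⁻¹
        simpa [mul_assoc] using this
    refine ⟨hconj _ h hh hQ₀min.prop, fun Q hQ hle x hx => ?_⟩
    have h2 : Q.map (MulAut.conj h⁻¹).toMonoidHom ≤ Q₀ := by
      rintro _ ⟨y, hy, rfl⟩
      have := (hcQ h y).1 (hle hy)
      simpa using this
    have h3 := hQ₀min.2 (hconj Q h⁻¹ (H.inv_mem hh) hQ) h2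
    obtain ⟨y, hy, he⟩ := h3 ((hcQ h x).1 hx)
    have : y = x := by
      have e : h⁻¹ * y * h⁻¹⁻¹ = h⁻¹ * x * h := he
      simpa using e
    exact this ▸ hy
  let Qs : Set (Subgroup (GL ι F)) := Set.range fun h : H => cQ h
  let k := Nat.card Qs
  let idx : Fin k ≃ Qs := (Finite.equivFin Qs).symm
  let Q : Fin k → Subgroup (GL ι F) := fun i => (idx i).1
  choose hs' hhs using fun i : Fin k => (idx i).2
  have hQmin : ∀ i, Minimal NQ (Q i) := fun i => by
    show Minimal NQ (idx i).1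
    rw [← hhs i]; exact hcQmin _ (hs' i).2
  have hQinj : Function.Injective Q := fun i j h => idx.injective (Subtype.ext h)
  have hcover : ∀ h ∈ H, ∃ i, Q i = cQ h := fun h hh =>
    ⟨idx.symm ⟨cQ h, ⟨h, hh⟩, rfl⟩, by show (idx (idx.symm _)).1 = _; rw [Equiv.apply_symm_apply]⟩
  have hbot : ∀ i j, i ≠ j → ⁅Q i, Q j⁆ ≤ scalars ι F := by
    intro i j hij
    have hinf : Q i ⊓ Q j ≤ scalars ι F := by
      by_contra hne
      have hq : NQ (Q i ⊓ Q j) := ⟨inf_le_left.trans (hQmin i).prop.1, fun x hx y hy =>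
        ⟨(hQmin i).prop.2.1 x hx y hy.1, (hQmin j).prop.2.1 x hx y hy.2⟩, hne⟩
      exact hij (hQinj (le_antisymm (((hQmin i).2 hq inf_le_left).trans inf_le_right)
        (((hQmin j).2 hq inf_le_right).trans inf_le_left)))
    refine le_trans (Subgroup.commutator_le.2 fun x hx y hy => ?_) hinf
    refine ⟨?_, ?_⟩
    · rw [commutatorElement_def]
      have := (hQmin i).prop.2.1 y ((hQmin j).prop.1 hy) x⁻¹ ((Q i).inv_mem hx)
      have h2 := (Q i).mul_mem hx this
      simpa [mul_assoc] using h2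
    · rw [commutatorElement_def]
      exact (Q j).mul_mem ((hQmin j).prop.2.1 x ((hQmin i).prop.1 hx) y hy) ((Q j).inv_mem hy)
  -- the factors generate N
  have hsupN : ⨆ i, Q i = N := by
    have hle : ⨆ i, Q i ≤ N := iSup_le fun i => (hQmin i).prop.1
    refine (hmin _ ⟨hle.trans hN.1, fun h hh x hx => ?_⟩ hle).resolve_left fun hsc => ?_
    · have hmap : (⨆ i, Q i).map (MulAut.conj h).toMonoidHom ≤ ⨆ i, Q i := by
        rw [Subgroup.map_iSup]
        refine iSup_le fun i => ?_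
        obtain ⟨j, hj⟩ := hcover (h * hs' i) (H.mul_mem hh (hs' i).2)
        refine le_trans ?_ (le_iSup Q j)
        rw [hj]
        rintro _ ⟨y, hy, rfl⟩
        have hy' : y ∈ cQ (hs' i) := by rw [show cQ (hs' i) = Q i from hhs i]; exact hy
        rw [hcQ] at hy' ⊢
        show (h * (hs' i : GL ι F))⁻¹ * (h * y * h⁻¹) * (h * (hs' i : GL ι F)) ∈ Q₀
        simpa [mul_assoc] using hy'
      exact hmap ⟨x, hx, rfl⟩
    · obtain ⟨i, hi⟩ := hcover 1 H.one_mem
      exact (hQmin i).prop.2.2 ((le_iSup Q i).trans hsc)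
  -- each factor is perfect
  have hQperf : ∀ i, ⁅Q i, Q i⁆ = Q i := by
    intro i
    have hle : ⁅Q i, Q i⁆ ≤ Q i :=
      Subgroup.commutator_le.2 fun x hx y hy => by
        rw [commutatorElement_def]
        exact (Q i).mul_mem ((Q i).mul_mem ((Q i).mul_mem hx hy) ((Q i).inv_mem hx)) ((Q i).inv_mem hy)
    have hnorm : ∀ x ∈ N, ∀ y ∈ ⁅Q i, Q i⁆, x * y * x⁻¹ ∈ ⁅Q i, Q i⁆ := by
      intro x hx y hy
      have h1 : ⁅Q i, Q i⁆.map (MulAut.conj x).toMonoidHom ≤ ⁅Q i, Q i⁆ := by
        rw [Subgroup.map_commutator]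
        exact Subgroup.commutator_mono (by rintro _ ⟨z, hz, rfl⟩; exact (hQmin i).prop.2.1 x hx z hz)
          (by rintro _ ⟨z, hz, rfl⟩; exact (hQmin i).prop.2.1 x hx z hz)
      exact h1 ⟨y, hy, rfl⟩
    refine le_antisymm hle ((hQmin i).2 ⟨hle.trans (hQmin i).prop.1, hnorm, fun hsc => ?_⟩ hle)
    -- otherwise all commutators would be scalar
    have hall : ∀ j, ⁅Q j, Q j⁆ ≤ scalars ι F := by
      intro j
      have e1 : ∀ l, Q l = Q₀.map (MulAut.conj (hs' l : GL ι F)).toMonoidHom := fun l => (hhs l).symm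
      have hsc' : ⁅Q₀, Q₀⁆ ≤ scalars ι F := by
        intro y hy
        have : MulAut.conj (hs' i : GL ι F) y ∈ ⁅Q i, Q i⁆ := by
          rw [e1 i, ← Subgroup.map_commutator]; exact ⟨y, hy, rfl⟩
        have := scalars_normal.conj_mem _ (hsc this) (hs' i : GL ι F)⁻¹
        simpa [mul_assoc] using this
      rw [e1 j, ← Subgroup.map_commutator]
      rintro _ ⟨y, hy, rfl⟩
      exact scalars_normal.conj_mem _ (hsc' hy) _
    apply hns
    let π := QuotientGroup.mk' (scalars ι F)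
    have h0 : ⁅N.map π, N.map π⁆ = ⊥ := by
      rw [← hsupN, Subgroup.map_iSup, Subgroup.commutator_eq_bot_iff_le_centralizer]
      refine iSup_le fun a => ?_
      rw [Subgroup.le_centralizer_iff]
      refine iSup_le fun b => ?_
      rw [← Subgroup.commutator_eq_bot_iff_le_centralizer, ← Subgroup.map_commutator, eq_bot_iff]
      rintro _ ⟨y, hy, rfl⟩
      rw [Subgroup.mem_bot]
      refine (QuotientGroup.eq_one_iff y).2 ?_
      rcases eq_or_ne b a with rfl | hab
      · exact hall b hy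
      · exact hbot b a hab hy
    rw [← Subgroup.map_commutator, hperf] at h0
    intro x hx
    exact (QuotientGroup.eq_one_iff x).1 (Subgroup.mem_bot.1 (h0 ▸ (⟨x, hx, rfl⟩ : π x ∈ N.map π)))
  -- distinct factors commute
  have hQcomm : ∀ i j, i ≠ j → ∀ x ∈ Q i, ∀ y ∈ Q j, x * y = y * x := by
    intro i j hij x hx y hy
    have h1 : ∀ a b, a ≠ b → ∀ K : Subgroup (GL ι F), ⁅⁅Q a, Q b⁆, K⁆ = ⊥ := fun a b hab K =>
      Subgroup.commutator_eq_bot_iff_le_centralizer.2 ((hbot a b hab).trans (hzc K))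
    have h2 : ⁅⁅Q i, Q i⁆, Q j⁆ = ⊥ :=
      Subgroup.commutator_commutator_eq_bot_of_rotate (h1 i j hij _) (h1 j i hij.symm _)
    rw [hQperf, Subgroup.commutator_eq_bot_iff_le_centralizer] at h2
    exact (Subgroup.mem_centralizer_iff.1 (h2 hx) y hy).symm
  have hk2 : 2 ≤ k := by
    by_contra hlt
    obtain ⟨i, hi⟩ := hcover 1 H.one_mem
    have h1 : cQ 1 = Q₀ := by
      ext x
      rw [hcQ]; simp
    apply hQ₀N
    rw [← h1, ← hi, ← hsupN]
    refine le_antisymm (le_iSup Q i) (iSup_le fun j => ?_)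
    rw [show j = i from Fin.ext (by omega)]
  obtain ⟨i₀, hi₀⟩ := hcover 1 H.one_mem
  have hQi₀ : Q i₀ = Q₀ := by
    rw [hi₀]; ext x; rw [hcQ]; simp
  let S : Set (Matrix ι ι F) := ⋃ i, matrixSet (Q i)
  have hSgen : Algebra.adjoin F S = ⊤ := by
    rw [eq_top_iff, ← henv]
    refine Algebra.adjoin_le ?_
    rintro _ ⟨g, hg, rfl⟩
    rw [← hsupN, Subgroup.iSup_eq_closure] at hg
    induction hg using Subgroup.closure_induction with
    | mem x hx =>
      obtain ⟨i, hi⟩ := Set.mem_iUnion.1 hx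
      exact Algebra.subset_adjoin (Set.mem_iUnion.2 ⟨i, x, hi, rfl⟩)
    | one => exact one_mem _
    | mul x y _ _ hx hy => exact mul_mem hx hy
    | inv x _ hx =>
      obtain ⟨j, hj⟩ : ∃ j : ℕ, x⁻¹ = x ^ j := ⟨orderOf x - 1, by
        rw [inv_eq_iff_mul_eq_one, ← pow_succ', Nat.sub_add_cancel (orderOf_pos x), pow_orderOf_eq_one]⟩
      show ((x⁻¹ : GL ι F) : Matrix ι ι F) ∈ _
      rw [hj, Units.val_pow_eq_pow_val]
      exact pow_mem hx j
  let A₀ := env (Q i₀)
  have hSA : ∀ s ∈ S, s ∈ A₀ ∨ ∀ a ∈ A₀, s * a = a * s := by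
    intro s hs
    obtain ⟨j, g, hg, rfl⟩ := Set.mem_iUnion.1 hs
    rcases eq_or_ne j i₀ with rfl | hj
    · exact Or.inl (coe_mem_env hg)
    · refine Or.inr fun a ha => commute_adjoin ?_ ha
      rintro _ ⟨g', hg', rfl⟩
      exact congrArg Units.val (hQcomm j i₀ hj g hg g' hg')
  have hSabs := absIrred_of_adjoin hSgen
  obtain ⟨-, hfull⟩ := clifford_of_mem_or_commute hSabs.1 hSA
  obtain ⟨s, f, hs0, hf, hfspan⟩ := hfull fun z hz hzc => hSabs.2 z fun t ht => by
    rcases hSA t ht with h | h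
    · exact hzc t h
    · exact (h z hz).symm
  have : NeZero s := ⟨hs0.ne'⟩
  obtain ⟨t, e₀, P₀, hP₀⟩ := exists_frame hf
  have : NeZero t := ⟨by obtain ⟨x⟩ := ‹Nonempty ι›; have := (e₀ x).2.pos; omega⟩
  let L₀ : Matrix (Fin s) (Fin s) F →ₐ[F] Matrix ι ι F := (conjHom P₀).comp (tensL e₀)
  have hL₀inj : Function.Injective L₀ := fun a b h => tensL_injective e₀ (conj_inj P₀ h)
  have hL₀range : L₀.range = A₀ := by
    apply le_antisymm
    · rintro _ ⟨a, rfl⟩
      show L₀ a ∈ A₀
      rw [Matrix.matrix_eq_sum_single a, map_sum]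
      refine A₀.sum_mem fun i _ => ?_
      rw [map_sum]
      refine A₀.sum_mem fun j _ => ?_
      rw [show Matrix.single i j (a i j) = a i j • Matrix.single i j (1 : F) by
        rw [Matrix.smul_single, smul_eq_mul, mul_one], map_smul]
      refine A₀.smul_mem ?_ _
      show conjHom P₀ (tensL e₀ (Matrix.single i j 1)) ∈ A₀
      rw [conjHom_apply, tensL_apply, ← hP₀, ← Subalgebra.mem_toSubmodule, ← hfspan]
      exact Submodule.subset_span ⟨(i, j), rfl⟩
    · intro M hM
      rw [← Subalgebra.mem_toSubmodule, ← hfspan] at hM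
      refine (Submodule.span_le (p := Subalgebra.toSubmodule L₀.range)).2 ?_ hM
      rintro _ ⟨⟨a, b⟩, rfl⟩
      exact ⟨Matrix.single a b 1, (hP₀ a b).symm⟩
  have hs2 : 2 ≤ s := by
    by_contra hlt
    have : Subsingleton (Fin s) := Fin.subsingleton_iff_le_one.2 (by omega)
    apply (hQmin i₀).prop.2.2
    intro g hg
    obtain ⟨a, ha⟩ : (g : Matrix ι ι F) ∈ L₀.range := by rw [hL₀range]; exact coe_mem_env hg
    apply mem_scalars_of_smul (c := a 0 0)
    have h1 : a = algebraMap F _ (a 0 0) := by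
      ext i j
      rw [Subsingleton.elim i 0, Subsingleton.elim j 0]
      simp [Matrix.algebraMap_matrix_apply]
    rw [← ha, h1]
    show L₀ (algebraMap F _ (a 0 0)) = _
    rw [AlgHom.commutes, Algebra.algebraMap_eq_smul_one]
    simp [Matrix.algebraMap_matrix_apply]
  let L : Fin k → Matrix (Fin s) (Fin s) F →ₐ[F] Matrix ι ι F := fun i => (conjHom (hs' i : GL ι F)).comp L₀
  have hLinj : ∀ i, Function.Injective (L i) := fun i a b h => hL₀inj (conj_inj _ h)
  have hmapenv : ∀ (h : GL ι F) (K : Subgroup (GL ι F)),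
      (env K).map (conjHom h) = env (K.map (MulAut.conj h).toMonoidHom) := by
    intro h K
    rw [env, AlgHom.map_adjoin, env]
    congr 1
    ext M
    constructor
    · rintro ⟨_, ⟨g, hg, rfl⟩, rfl⟩
      exact ⟨_, ⟨g, hg, rfl⟩, (conjHom_coe h g).symm⟩
    · rintro ⟨_, ⟨g, hg, rfl⟩, rfl⟩
      exact ⟨_, ⟨g, hg, rfl⟩, conjHom_coe h g⟩
  have hLrange : ∀ i, (L i).range = env (Q i) := by
    intro i
    show ((conjHom (hs' i : GL ι F)).comp L₀).range = _
    rw [AlgHom.range_comp, hL₀range, hmapenv, hQi₀]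
    exact congrArg env (hhs i)
  have hcommL : ∀ i j, i ≠ j → ∀ a b, L i a * L j b = L j b * L i a := by
    intro i j hij a b
    have ha : L i a ∈ env (Q i) := hLrange i ▸ ⟨a, rfl⟩
    have hb : L j b ∈ env (Q j) := hLrange j ▸ ⟨b, rfl⟩
    refine commute_adjoin ?_ hb
    rintro _ ⟨g, hg, rfl⟩
    symm
    refine commute_adjoin ?_ ha
    rintro _ ⟨g', hg', rfl⟩
    exact congrArg Units.val (hQcomm j i hij.symm g hg g' hg')
  have hgenL : Algebra.adjoin F (⋃ i, Set.range (L i)) = ⊤ := by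
    rw [eq_top_iff, ← hSgen]
    refine Algebra.adjoin_mono (Set.iUnion_mono fun i => ?_)
    rintro _ ⟨g, hg, rfl⟩
    obtain ⟨a, ha⟩ : (g : Matrix ι ι F) ∈ (L i).range := hLrange i ▸ coe_mem_env hg
    exact ⟨a, ha⟩
  obtain ⟨e, P, hLP⟩ := exists_tensorPower L hcommL hgenL
  let Λ : Matrix (Fin k → Fin s) (Fin k → Fin s) F →ₐ[F] Matrix ι ι F :=
    (conjHom P).comp (Matrix.reindexAlgEquiv F F e.symm).toAlgHom
  have hLΛ : ∀ i a, L i a = Λ (tpow (Function.update 1 i a)) := hLP
  have hΛmem : ∀ W ∈ tensorWreathStandard s k F, Units.map Λ.toMonoidHom W ∈ tensorWreathSubgroup s k e P :=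
    fun W hW => ⟨glReindex e.symm W, ⟨W, hW, rfl⟩, Units.ext rfl⟩
  have hwreath : H ≤ tensorWreathSubgroup s k e P := by
    intro h hh
    choose π hπ using fun i => hcover (h * hs' i) (H.mul_mem hh (hs' i).2)
    have himg : ∀ i, (env (Q i)).map (conjHom h) = env (Q (π i)) := by
      intro i
      rw [hmapenv, hπ, show Q i = cQ (hs' i) from (hhs i).symm]
      show env ((Q₀.map _).map _) = _
      rw [Subgroup.map_map]
      congr 2
      exact MonoidHom.ext fun x => by simp [mul_assoc]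
    have hπinj : Function.Injective π := by
      intro i j hij
      apply hQinj
      have hi := hπ i; have hj := hπ j
      rw [hij, hj] at hi
      rw [show Q i = cQ (hs' i) from (hhs i).symm, show Q j = cQ (hs' j) from (hhs j).symm]
      ext x
      have := SetLike.ext_iff.1 hi (h * x * h⁻¹)
      rw [hcQ, hcQ] at this
      rw [hcQ, hcQ]
      simpa [mul_assoc] using this.symm
    have hb : ∀ i a, conjHom h (L i a) ∈ (L (π i)).range := fun i a => by
      rw [hLrange, ← himg]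
      exact ⟨L i a, hLrange i ▸ ⟨a, rfl⟩, rfl⟩
    let φ : ∀ _ : Fin k, Matrix (Fin s) (Fin s) F →ₐ[F] Matrix (Fin s) (Fin s) F := fun i =>
      (AlgEquiv.ofInjective (L (π i)) (hLinj _)).symm.toAlgHom.comp
        (((conjHom h).comp (L i)).codRestrict (L (π i)).range (hb i))
    have hφ : ∀ i a, L (π i) (φ i a) = conjHom h (L i a) := fun i a =>
      congrArg Subtype.val ((AlgEquiv.ofInjective (L (π i)) (hLinj _)).apply_symm_apply _)
    choose g hg using fun i => exists_inner (φ i) (fun a b hab => hLinj i (conj_inj h (by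
      have := congrArg (L (π i)) hab
      rwa [hφ, hφ] at this)))
    let σ : Equiv.Perm (Fin k) := Equiv.ofBijective π (Finite.injective_iff_bijective.1 hπinj)
    let W : GL (Fin k → Fin s) F := permUnit σ * tpowUnit g
    have hWmem : W ∈ tensorWreathStandard s k F := mul_mem (permUnit_mem σ) (tpowUnit_mem g)
    let Wι : GL ι F := Units.map Λ.toMonoidHom W
    have hW : ∀ i a, conjHom Wι (L i a) = conjHom h (L i a) := by
      intro i a
      rw [← hφ, hg, hLΛ, hLΛ, conjHom_apply]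
      show Λ (W : Matrix _ _ F) * Λ _ * Λ ((W⁻¹ : GL _ F) : Matrix _ _ F) = _
      rw [← map_mul, ← map_mul]
      congr 1
      show (permMat σ * tpow (fun l => (g l : Matrix (Fin s) (Fin s) F))) * tpow (Function.update 1 i a) *
        (((tpowUnit g)⁻¹ * (permUnit σ)⁻¹ : GL _ F) : Matrix _ _ F) = _
      rw [Units.val_mul]
      show (permMat σ * tpow (fun l => (g l : Matrix (Fin s) (Fin s) F))) * tpow (Function.update 1 i a) *
        (tpow (fun l => ((g l)⁻¹ : GL (Fin s) F) : Fin k → Matrix (Fin s) (Fin s) F) * permMat σ.symm) = _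
      rw [mul_assoc (permMat σ), ← tpow_mul, ← mul_assoc, mul_assoc (permMat σ) (tpow _), ← tpow_mul, permMat_conj]
      congr 1
      funext l
      simp only [Function.comp_apply, Pi.mul_apply]
      rcases eq_or_ne l (π i) with rfl | hl
      · rw [show σ.symm (π i) = i from σ.symm_apply_apply i, Function.update_self, Function.update_self]
      · have : σ.symm l ≠ i := fun e => hl (by rw [← e]; exact (σ.apply_symm_apply l).symm)
        rw [Function.update_of_ne this, Function.update_of_ne hl, Pi.one_apply, Pi.one_apply, mul_one,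
          ← Units.val_mul, mul_inv_cancel, Units.val_one]
    obtain ⟨c, hc⟩ := (absIrred_of_adjoin hgenL).2 ((Wι⁻¹ * h : GL ι F) : Matrix ι ι F) fun M hM => by
      obtain ⟨i, a, rfl⟩ := Set.mem_iUnion.1 hM
      have h1 := congrArg (fun X => ((Wι⁻¹ : GL ι F) : Matrix ι ι F) * X * (h : Matrix ι ι F)) (hW i a)
      simp only [conjHom_apply, ← mul_assoc] at h1
      rw [← Units.val_mul Wι⁻¹ Wι, inv_mul_cancel, Units.val_one, one_mul] at h1
      simp only [mul_assoc] at h1
      rw [← Units.val_mul h⁻¹ h, inv_mul_cancel, Units.val_one, mul_one] at h1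
      rw [Units.val_mul, mul_assoc]
      exact h1.symm
    have hcs : (Wι⁻¹ * h : GL ι F) ∈ scalars ι F := mem_scalars_of_smul hc
    obtain ⟨c', hc'⟩ := exists_scl hcs
    have : h = Wι * scl c' := by rw [← hc', mul_inv_cancel_left]
    rw [this]
    refine mul_mem (hΛmem W hWmem) ?_
    have hscl : (scl c' : GL ι F) = Units.map Λ.toMonoidHom (tpowUnit (Function.update 1 i₀ (scl c'))) := by
      apply Units.ext
      show _ = Λ (tpow _)
      have : (fun l => ((Function.update (1 : Fin k → GL (Fin s) F) i₀ (scl c') l : GL (Fin s) F) : Matrix (Fin s) (Fin s) F)) =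
          Function.update (1 : Fin k → Matrix (Fin s) (Fin s) F) i₀ ((c' : F) • (1 : Matrix (Fin s) (Fin s) F)) := by
        funext l
        rcases eq_or_ne l i₀ with rfl | hl
        · rw [Function.update_self, Function.update_self, coe_scl]
        · rw [Function.update_of_ne hl, Function.update_of_ne hl]; rfl
      rw [this, ← hLΛ, map_smul, map_one, coe_scl]
    rw [hscl]
    exact hΛmem _ (tpowUnit_mem _)
  rcases Nat.lt_or_ge s 3 with hs3 | hs3
  swap
  · exact Or.inr (Or.inr (Or.inr ⟨s, k, e, P, hs3, hk2, hwreath⟩))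
  -- two-dimensional factors: a form
  have hseq : s = 2 := by omega
  subst hseq
  let J : Matrix (Fin 2) (Fin 2) F := !![0, 1; -1, 0]
  have hJg : ∀ g : Matrix (Fin 2) (Fin 2) F, gᵀ * J * g = g.det • J := by
    intro g
    ext i j
    rw [Matrix.det_fin_two]
    fin_cases i <;> fin_cases j <;> simp [J, Matrix.mul_apply, Fin.sum_univ_two] <;> ring
  let G₀ : Matrix (Fin k → Fin 2) (Fin k → Fin 2) F := tpow fun _ => J
  have hstd : tensorWreathStandard 2 k F ≤ similarityGroup (gramForm (RingHom.id F) G₀) := by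
    refine (Subgroup.closure_le _).2 fun W hW => ?_
    rcases hW with ⟨gs, hgs⟩ | ⟨σ, hσ⟩
    · have hWeq : (W : Matrix (Fin k → Fin 2) (Fin k → Fin 2) F) = tpow fun l => (gs l : Matrix (Fin 2) (Fin 2) F) :=
        Matrix.ext hgs
      refine ⟨∏ l, Matrix.GeneralLinearGroup.det (gs l), fun u v => ?_⟩
      rw [gramForm_mulVec, hWeq, ← gramForm_smul_gram]
      congr 1
      rw [RingHom.coe_id, Matrix.map_id, tpow_transpose, ← tpow_mul, ← tpow_mul,
        show ((fun l => (gs l : Matrix (Fin 2) (Fin 2) F)ᵀ) * (fun _ => J) * fun l => (gs l : Matrix (Fin 2) (Fin 2) F)) =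
          fun l => (gs l : Matrix (Fin 2) (Fin 2) F).det • J from funext fun l => hJg _, tpow_smul]
      simp [G₀, Units.coe_prod]
    · have hWeq : (W : Matrix (Fin k → Fin 2) (Fin k → Fin 2) F) = permMat σ := Matrix.ext hσ
      refine ⟨1, fun u v => ?_⟩
      rw [gramForm_mulVec, hWeq, Units.val_one, one_mul]
      congr 1
      rw [RingHom.coe_id, Matrix.map_id, permMat_transpose]
      have := permMat_conj (F := F) σ.symm (fun _ : Fin k => J)
      rw [Equiv.symm_symm] at this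
      exact this
  let R : Matrix (Fin k → Fin 2) (Fin k → Fin 2) F → Matrix ι ι F := Matrix.reindexAlgEquiv F F e.symm
  let G : Matrix ι ι F := ((P⁻¹ : GL ι F) : Matrix ι ι F)ᵀ * R G₀ * ((P⁻¹ : GL ι F) : Matrix ι ι F)
  have hscaleG : ∀ h ∈ H, ∃ c : Fˣ, (h : Matrix ι ι F)ᵀ * G * (h : Matrix ι ι F) = (c : F) • G := by
    intro h hh
    obtain ⟨_, ⟨W, hW, rfl⟩, rfl⟩ := hwreath hh
    obtain ⟨c, hc⟩ := hstd hW
    refine ⟨c, ?_⟩
    have h1 : (W : Matrix (Fin k → Fin 2) (Fin k → Fin 2) F)ᵀ * G₀ * (W : Matrix _ _ F) = (c : F) • G₀ := by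
      apply eq_of_gramForm_eq (RingHom.id F)
      intro u v
      rw [gramForm_smul_gram, ← hc u v, gramForm_mulVec, RingHom.coe_id, Matrix.map_id]
    show ((P : Matrix ι ι F) * R W * ((P⁻¹ : GL ι F) : Matrix ι ι F))ᵀ * G *
      ((P : Matrix ι ι F) * R W * ((P⁻¹ : GL ι F) : Matrix ι ι F)) = _
    have hT : (R W)ᵀ = R (W : Matrix _ _ F)ᵀ := by
      ext x y; rfl
    have hPP : (P : Matrix ι ι F)ᵀ * ((P⁻¹ : GL ι F) : Matrix ι ι F)ᵀ = 1 := by
      rw [← Matrix.transpose_mul, ← Units.val_mul, inv_mul_cancel, Units.val_one, Matrix.transpose_one]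
    rw [Matrix.transpose_mul, Matrix.transpose_mul, hT]
    calc _ = ((P⁻¹ : GL ι F) : Matrix ι ι F)ᵀ * (R (W : Matrix _ _ F)ᵀ * ((P : Matrix ι ι F)ᵀ * ((P⁻¹ : GL ι F) : Matrix ι ι F)ᵀ)
            * R G₀ * (((P⁻¹ : GL ι F) : Matrix ι ι F) * (P : Matrix ι ι F)) * R W) * ((P⁻¹ : GL ι F) : Matrix ι ι F) := by
          simp only [G, mul_assoc]
      _ = (c : F) • G := by
          rw [hPP, ← Units.val_mul, inv_mul_cancel, Units.val_one, mul_one, mul_one,
            show R (W : Matrix _ _ F)ᵀ * R G₀ * R W = (c : F) • R G₀ by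
              simp only [R, ← map_mul, h1, map_smul], mul_smul_comm, smul_mul_assoc]
  have hG0 : G ≠ 0 := by
    have hJu : IsUnit J := by
      rw [Matrix.isUnit_iff_isUnit_det, Matrix.det_fin_two]
      simp [J]
    obtain ⟨Ju, hJu⟩ := hJu
    have hu : IsUnit (R G₀) := by
      have : G₀ = (tpowUnit (fun _ : Fin k => Ju) : Matrix _ _ F) := by
        exact congrArg tpow (funext fun _ => hJu.symm)
      rw [this]
      exact (Units.isUnit _).map (Matrix.reindexAlgEquiv F F e.symm).toAlgHom.toMonoidHom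
    exact ((((Matrix.isUnit_transpose _).2 (Units.isUnit P⁻¹)).mul hu).mul (Units.isUnit P⁻¹)).ne_zero
  choose c hc using fun h : H => hscaleG h h.2
  let χ : H →* Fˣ :=
    { toFun := c
      map_one' := by
        have := hc 1
        rw [OneMemClass.coe_one, Units.val_one, Matrix.transpose_one, one_mul, mul_one] at this
        apply Units.ext
        have h3 : ((c 1 : F) - 1) • G = 0 := by rw [sub_smul, one_smul, ← this, sub_self]
        exact sub_eq_zero.1 ((smul_eq_zero.1 h3).resolve_right hG0)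
      map_mul' := fun a b => by
        have := hc (a * b)
        rw [Subgroup.coe_mul, Units.val_mul, Matrix.transpose_mul] at this
        have h2 : (b.1 : Matrix ι ι F)ᵀ * ((a.1 : Matrix ι ι F)ᵀ * G * (a.1 : Matrix ι ι F)) * (b.1 : Matrix ι ι F) =
            ((c a : F) * (c b : F)) • G := by
          rw [hc a, mul_smul_comm, smul_mul_assoc, hc b, smul_smul]
        simp only [← mul_assoc] at h2 this
        rw [h2] at this
        apply Units.ext
        have h3 : ((c (a * b) : F) - (c a : F) * (c b : F)) • G = 0 := by rw [sub_smul, ← this, sub_self]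
        exact sub_eq_zero.1 ((smul_eq_zero.1 h3).resolve_right hG0) }
  have hfix : FixesGram (RingHom.id F) G N := by
    intro g hg
    have hχ : χ ⟨g, hN.1 hg⟩ = 1 := by
      have hle : ⁅N, N⁆ ≤ χ.ker.map H.subtype := by
        refine Subgroup.commutator_le.2 fun x hx y hy => ⟨⁅(⟨x, hN.1 hx⟩ : H), ⟨y, hN.1 hy⟩⁆, ?_, by simp [commutatorElement_def]⟩
        rw [SetLike.mem_coe, MonoidHom.mem_ker, map_commutatorElement, commutatorElement_eq_one_iff_commute]
        exact mul_comm _ _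
      rw [hperf] at hle
      obtain ⟨g', hg', he⟩ := hle hg
      rw [show (⟨g, hN.1 hg⟩ : H) = g' from Subtype.ext he.symm]
      exact hg'
    have h1 := hc ⟨g, hN.1 hg⟩
    rw [show c ⟨g, hN.1 hg⟩ = 1 from hχ, Units.val_one, one_smul] at h1
    rw [RingHom.coe_id, Matrix.map_id]
    exact h1
  exact Or.inr (Or.inr (Or.inl (inForms_of_fixesGram (RingHom.id F) (fun a => rfl) hN.2 habs hfix hG0)))

end Cfsg.Agent.H99.Asch
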