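import Cfsg.Agent.H99.Aschbacher.Frame
import Cfsg.Agent.H99.Aschbacher.Fields

/-!
Realisation over subfields: a group normalising an absolutely irreducible group written over a subfield lies in
a subfield group; a basis of the matrix algebra with structure constants in a subfield is realised over it.
-/

set_option autoImplicit false

open scoped MatrixGroups Matrix Kronecker

namespace Cfsg.Agent.H99.Asch

open Cfsg.Geo

variable {ι : Type} [Fintype ι] [DecidableEq ι] {F : Type*} [Field F]

/-- A linear projection from F onto a subfield. -/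
lemma exists_proj (F₀ : Subfield F) : ∃ π : F →ₗ[F₀] F₀, ∀ c : F₀, π (c : F) = c := by
  obtain ⟨π, hπ⟩ := LinearMap.exists_leftInverse_of_injective (Algebra.linearMap F₀ F)
    (LinearMap.ker_eq_bot.2 (algebraMap F₀ F).injective)
  exact ⟨π, fun c => LinearMap.congr_fun hπ c⟩

lemma proj_mul {F₀ : Subfield F} {π : F →ₗ[F₀] F₀} {x : F} (hx : x ∈ F₀) (c : F) :
    (π (c * x) : F) = (π c : F) * x := by
  have h : π ((⟨x, hx⟩ : F₀) • c) = (⟨x, hx⟩ : F₀) * π c := by rw [map_smul, smul_eq_mul]
  have e : c * x = (⟨x, hx⟩ : F₀) • c := by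
    show c * x = x * c
    rw [mul_comm]
  rw [e, h, Subfield.coe_mul, mul_comm]

/-- All entries of the matrix lie in F₀. -/
def EntriesIn (F₀ : Subfield F) (M : Matrix ι ι F) : Prop := ∀ i j, M i j ∈ F₀

lemma mem_subfieldSubgroup_of (F₀ : Subfield F) (P h : GL ι F) (g : GL ι F₀) (c : Fˣ)
    (e : (((P⁻¹ * h * P : GL ι F)) : Matrix ι ι F) = (c : F) • ((g : Matrix ι ι F₀).map F₀.subtype)) :
    h ∈ subfieldSubgroup F₀ P := by
  refine ⟨P⁻¹ * h * P, ?_, ?_⟩
  · have h1 : (P⁻¹ * h * P : GL ι F) =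
        (Matrix.GeneralLinearGroup.map (F₀.subtype : F₀ →+* F) g) *
          Units.map (Matrix.scalar ι : F →+* Matrix ι ι F).toMonoidHom c := by
      apply Units.ext
      rw [e, Units.val_mul]
      show _ = (g : Matrix ι ι F₀).map F₀.subtype * Matrix.scalar ι (c : F)
      rw [show Matrix.scalar ι (c : F) = (c : F) • (1 : Matrix ι ι F) by
        simp [Matrix.smul_one_eq_diagonal], mul_smul_comm, mul_one]
    rw [h1]
    exact Subgroup.mul_mem_sup ⟨g, rfl⟩ ⟨c, rfl⟩
  · simp [mul_assoc]

/-- A group normalising an absolutely irreducible group written over F₀ lies in the subfield group. -/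
theorem le_subfieldSubgroup [Nonempty ι] {H R : Subgroup (GL ι F)}
    (hn : ∀ h ∈ H, ∀ x ∈ R, h * x * h⁻¹ ∈ R) (hR : ActsAbsolutelyIrreducibly (matrixSet R))
    (F₀ : Subfield F) (B : GL ι F)
    (hB : ∀ x ∈ R, EntriesIn F₀ ((B : Matrix ι ι F) * (x : Matrix ι ι F) * ((B⁻¹ : GL ι F) : Matrix ι ι F))) :
    H ≤ subfieldSubgroup F₀ B⁻¹ := by
  classical
  intro h hh
  obtain ⟨π, hπ⟩ := exists_proj F₀
  let k : GL ι F := B * h * B⁻¹
  let Bc : Matrix ι ι F →ₗ[F] Matrix ι ι F :=
    (LinearMap.mulRight F ((B⁻¹ : GL ι F) : Matrix ι ι F)).comp (LinearMap.mulLeft F (B : Matrix ι ι F))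
  have hspan : ∀ M : Matrix ι ι F, M ∈ Submodule.span F (matrixSet R) := by
    intro M
    rw [← env_toSubmodule, env_eq_top hR]
    exact (Algebra.mem_top : M ∈ (⊤ : Subalgebra F (Matrix ι ι F)))
  -- conjugation by k preserves matrices over F₀
  have key : ∀ E : Matrix ι ι F, EntriesIn F₀ E →
      EntriesIn F₀ ((k : Matrix ι ι F) * E * ((k⁻¹ : GL ι F) : Matrix ι ι F)) := by
    intro E hE
    obtain ⟨c, T, hTs, hc⟩ := (Submodule.mem_span_iff_exists_finset_subset).1
      (hspan (((B⁻¹ : GL ι F) : Matrix ι ι F) * E * (B : Matrix ι ι F)))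
    have hE' : E = ∑ x ∈ T, c x • Bc x := by
      have h1 : Bc (((B⁻¹ : GL ι F) : Matrix ι ι F) * E * (B : Matrix ι ι F)) = E := by
        simp only [Bc, LinearMap.comp_apply, LinearMap.mulLeft_apply, LinearMap.mulRight_apply,
          ← mul_assoc, ← Units.val_mul, mul_inv_cancel, Units.val_one, one_mul]
        rw [mul_assoc, ← Units.val_mul, mul_inv_cancel, Units.val_one, mul_one]
      rw [← hc.2, map_sum] at h1
      simpa [map_smul] using h1.symm
    have hbx : ∀ x ∈ T, EntriesIn F₀ (Bc x) := by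
      intro x hx
      obtain ⟨g, hg, rfl⟩ := hTs hx
      exact hB g hg
    have hE'' : E = ∑ x ∈ T, (π (c x) : F) • Bc x := by
      ext i j
      have h0 : E i j = ∑ x ∈ T, c x * Bc x i j := by
        have := congrArg (fun M : Matrix ι ι F => M i j) hE'
        simpa [Matrix.sum_apply] using this
      have h2 : (π (E i j) : F) = E i j := congrArg Subtype.val (hπ ⟨_, hE i j⟩)
      rw [Matrix.sum_apply, ← h2, h0, map_sum, AddSubmonoidClass.coe_finsetSum]
      refine Finset.sum_congr rfl fun x hx => ?_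
      rw [proj_mul (hbx x hx i j), Matrix.smul_apply, smul_eq_mul]
    intro i j
    rw [hE'', Finset.mul_sum, Finset.sum_mul, Matrix.sum_apply]
    refine Subfield.sum_mem _ fun x hx => ?_
    rw [mul_smul_comm, smul_mul_assoc, Matrix.smul_apply, smul_eq_mul]
    refine F₀.mul_mem (π (c x)).2 ?_
    obtain ⟨g, hg, rfl⟩ := hTs hx
    have e : (k : Matrix ι ι F) * Bc (g : Matrix ι ι F) * ((k⁻¹ : GL ι F) : Matrix ι ι F) =
        (B : Matrix ι ι F) * ((h * g * h⁻¹ : GL ι F) : Matrix ι ι F) * ((B⁻¹ : GL ι F) : Matrix ι ι F) := by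
      show (k : Matrix ι ι F) * ((B : Matrix ι ι F) * g * ((B⁻¹ : GL ι F) : Matrix ι ι F)) * _ = _
      simp only [← Units.val_mul]
      exact congrArg Units.val (by simp [k, mul_assoc])
    rw [e]
    exact hB _ (hn h hh g hg) i j
  let up : Matrix ι ι F₀ →ₐ[F₀] Matrix ι ι F := (Algebra.ofId F₀ F).mapMatrix
  have hup : Function.Injective up := fun a b e => by
    ext i j
    exact congrFun (congrFun e i) j
  let K : Subalgebra F₀ (Matrix ι ι F) := up.range
  have hK : ∀ E : Matrix ι ι F, E ∈ K ↔ EntriesIn F₀ E := by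
    intro E
    constructor
    · rintro ⟨a, rfl⟩ i j; exact (a i j).2
    · intro hE; exact ⟨Matrix.of fun i j => ⟨E i j, hE i j⟩, rfl⟩
  let cj : Matrix ι ι F →ₐ[F₀] Matrix ι ι F :=
    { toFun := fun E => (k : Matrix ι ι F) * E * ((k⁻¹ : GL ι F) : Matrix ι ι F)
      map_one' := by rw [mul_one, ← Units.val_mul, mul_inv_cancel, Units.val_one]
      map_mul' := fun x y => by
        simp only [mul_assoc]
        rw [← mul_assoc ((k⁻¹ : GL ι F) : Matrix ι ι F) (k : Matrix ι ι F), ← Units.val_mul,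
          inv_mul_cancel, Units.val_one, one_mul]
      map_zero' := by rw [mul_zero, zero_mul]
      map_add' := fun x y => by rw [mul_add, add_mul]
      commutes' := fun r => by
        rw [Algebra.algebraMap_eq_smul_one, mul_smul_comm, smul_mul_assoc, mul_one, ← Units.val_mul,
          mul_inv_cancel, Units.val_one] }
  let cK : Matrix ι ι F₀ →ₐ[F₀] K := (cj.comp up).codRestrict K (fun a => (hK _).2 (key _ ((hK _).1 ⟨a, rfl⟩)))
  let φ : Matrix ι ι F₀ →ₐ[F₀] Matrix ι ι F₀ := (AlgEquiv.ofInjective up hup).symm.toAlgHom.comp cK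
  have hφ : ∀ a, up (φ a) = cj (up a) := fun a =>
    congrArg Subtype.val ((AlgEquiv.ofInjective up hup).apply_symm_apply (cK a))
  have hφi : Function.Injective φ := by
    intro a b e
    have := congrArg up e
    rw [hφ, hφ] at this
    exact hup (conj_inj k this)
  obtain ⟨g, hg⟩ := exists_inner φ hφi
  let G : GL ι F := Units.map up.toMonoidHom g
  have hcomm : ∀ i j, Commute (Matrix.single i j (1 : F)) ((G⁻¹ * k : GL ι F) : Matrix ι ι F) := by
    intro i j
    have e : up (Matrix.single i j 1) = Matrix.single i j (1 : F) := by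
      ext a b
      show ((Matrix.single i j (1 : F₀) a b : F₀) : F) = _
      simp only [Matrix.single_apply]
      split_ifs <;> simp
    have := hφ (Matrix.single i j 1)
    rw [hg, map_mul, map_mul, e] at this
    change (G : Matrix ι ι F) * _ * ((G⁻¹ : GL ι F) : Matrix ι ι F) =
      (k : Matrix ι ι F) * _ * ((k⁻¹ : GL ι F) : Matrix ι ι F) at this
    show _ * _ = _ * _
    rw [Units.val_mul]
    have h2 := congrArg (fun M => ((G⁻¹ : GL ι F) : Matrix ι ι F) * M * (k : Matrix ι ι F)) this
    simp only [← mul_assoc] at h2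
    rw [← Units.val_mul, inv_mul_cancel, Units.val_one, one_mul] at h2
    simp only [mul_assoc] at h2
    rw [← Units.val_mul (k⁻¹) k, inv_mul_cancel, Units.val_one, mul_one] at h2
    rw [h2, mul_assoc]
  obtain ⟨c, hc⟩ := Matrix.mem_range_scalar_of_commute_single (fun i j _ => hcomm i j)
  have hc0 : c ≠ 0 := by
    rintro rfl
    rw [map_zero] at hc
    exact (Units.ne_zero (G⁻¹ * k)) hc.symm
  refine mem_subfieldSubgroup_of F₀ B⁻¹ h g (Units.mk0 c hc0) ?_
  have : ((B⁻¹)⁻¹ * h * B⁻¹ : GL ι F) = G * (G⁻¹ * k) := by simp [k]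
  rw [this, Units.val_mul, ← hc]
  show _ * Matrix.scalar ι c = c • _
  rw [show Matrix.scalar ι c = c • (1 : Matrix ι ι F) by simp [Matrix.smul_one_eq_diagonal],
    mul_smul_comm, mul_one]
  rfl

/-- A basis of the matrix algebra whose F₀-span is a subring can be written over F₀. -/
theorem exists_realisation_span [Fintype F] [Nonempty ι] (F₀ : Subfield F) {X : Type} [Fintype X]
    (T : X → Matrix ι ι F) (hspan : ∀ M : Matrix ι ι F, ∃ c : X → F, M = ∑ x, c x • T x)
    (hind : LinearIndependent F T)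
    (hmul : ∀ x y, T x * T y ∈ Submodule.span F₀ (Set.range T))
    (hone : (1 : Matrix ι ι F) ∈ Submodule.span F₀ (Set.range T)) :
    ∃ B : GL ι F, ∀ x, EntriesIn F₀ ((B : Matrix ι ι F) * T x * ((B⁻¹ : GL ι F) : Matrix ι ι F)) := by
  classical
  obtain ⟨π, hπ⟩ := exists_proj F₀
  let M₀ : Submodule F₀ (Matrix ι ι F) := Submodule.span F₀ (Set.range T)
  have hone' : (1 : Matrix ι ι F) ∈ M₀ := hone
  have hmul' : ∀ a b, a ∈ M₀ → b ∈ M₀ → a * b ∈ M₀ := by
    intro a b ha hb
    induction ha using Submodule.span_induction with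
    | mem a ha =>
      induction hb using Submodule.span_induction with
      | mem b hb =>
        obtain ⟨x, rfl⟩ := ha; obtain ⟨y, rfl⟩ := hb
        exact hmul x y
      | zero => simp
      | add u v _ _ hu hv => rw [mul_add]; exact M₀.add_mem hu hv
      | smul c u _ hu => rw [mul_smul_comm]; exact M₀.smul_mem c hu
    | zero => simp
    | add u v _ _ hu hv => rw [add_mul]; exact M₀.add_mem hu hv
    | smul c u _ hu => rw [smul_mul_assoc]; exact M₀.smul_mem c hu
  let A₀ : Subalgebra F₀ (Matrix ι ι F) := M₀.toSubalgebra hone' hmul'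
  -- coordinates of elements of A₀ lie in F₀
  have hcoord : ∀ a ∈ A₀, ∀ c : X → F, a = ∑ x, c x • T x → ∀ x, c x ∈ F₀ := by
    intro a ha c hc x
    obtain ⟨d, hd⟩ := (Submodule.mem_span_range_iff_exists_fun F₀).1 (show a ∈ M₀ from ha)
    have : ∑ y, (c y - (d y : F)) • T y = 0 := by
      simp only [sub_smul, Finset.sum_sub_distrib, ← hc, sub_eq_zero]
      exact hd.symm
    rw [sub_eq_zero.1 ((Fintype.linearIndependent_iff.1 hind) _ this x)]
    exact (d x).2
  have hproj : ∀ (n : ℕ) (c : Fin n → F) (a : Fin n → A₀) (b : A₀),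
      (b : Matrix ι ι F) = ∑ i, c i • (a i : Matrix ι ι F) → b = ∑ i, π (c i) • a i := by
    intro n c a b hb
    choose d hd using fun i => (Submodule.mem_span_range_iff_exists_fun F₀).1 (show (a i : Matrix ι ι F) ∈ M₀ from (a i).2)
    have hb' : (b : Matrix ι ι F) = ∑ x, (∑ i, c i * (d i x : F)) • T x := by
      rw [hb]
      simp only [Finset.sum_smul, mul_smul]
      rw [Finset.sum_comm]
      refine Finset.sum_congr rfl fun i _ => ?_
      rw [← hd i, Finset.smul_sum]
      rfl
    have hmem := hcoord _ b.2 _ hb'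
    apply Subtype.ext
    rw [hb', AddSubmonoidClass.coe_finsetSum]
    have e : ∀ i, ((π (c i) • a i : A₀) : Matrix ι ι F) = ∑ x, ((π (c i) : F) * (d i x : F)) • T x := by
      intro i
      show (π (c i) : F) • (a i : Matrix ι ι F) = _
      rw [← hd i, Finset.smul_sum]
      simp only [mul_smul]
      rfl
    simp only [e]
    rw [Finset.sum_comm]
    refine Finset.sum_congr rfl fun x _ => ?_
    rw [← Finset.sum_smul]
    congr 1
    have h1 : (π (∑ i, c i * (d i x : F)) : F) = ∑ i, c i * (d i x : F) :=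
      congrArg Subtype.val (hπ ⟨_, hmem x⟩)
    rw [← h1, map_sum, AddSubmonoidClass.coe_finsetSum]
    exact Finset.sum_congr rfl fun i _ => proj_mul (d i x).2 _
  have : Nontrivial A₀ := ⟨⟨0, 1, fun e => zero_ne_one (congrArg Subtype.val e)⟩⟩
  have : IsSimpleRing A₀ := by
    rw [isSimpleRing_iff]
    refine { eq_bot_or_eq_top := fun I => ?_ }
    rw [or_iff_not_imp_left]
    intro hI
    let S : Submodule F (Matrix ι ι F) := Submodule.span F (Subtype.val '' (I : Set A₀))
    have hL : ∀ M s, s ∈ S → M * s ∈ S ∧ s * M ∈ S := by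
      intro M s hs
      obtain ⟨c, rfl⟩ := hspan M
      induction hs using Submodule.span_induction with
      | mem s hs =>
        obtain ⟨a, ha, rfl⟩ := hs
        constructor
        · rw [Finset.sum_mul]
          refine S.sum_mem fun x _ => ?_
          rw [smul_mul_assoc]
          exact S.smul_mem _ (Submodule.subset_span
            ⟨⟨T x, Submodule.subset_span ⟨x, rfl⟩⟩ * a, I.mul_mem_left _ _ ha, rfl⟩)
        · rw [Finset.mul_sum]
          refine S.sum_mem fun x _ => ?_
          rw [mul_smul_comm]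
          exact S.smul_mem _ (Submodule.subset_span
            ⟨a * ⟨T x, Submodule.subset_span ⟨x, rfl⟩⟩, I.mul_mem_right _ _ ha, rfl⟩)
      | zero => simp
      | add u v _ _ hu hv => rw [mul_add, add_mul]; exact ⟨S.add_mem hu.1 hv.1, S.add_mem hu.2 hv.2⟩
      | smul r u _ hu => rw [mul_smul_comm, smul_mul_assoc]; exact ⟨S.smul_mem r hu.1, S.smul_mem r hu.2⟩
    let J : TwoSidedIdeal (Matrix ι ι F) := TwoSidedIdeal.mk' (S : Set (Matrix ι ι F)) S.zero_mem S.add_mem S.neg_mem
      (fun {x y} hy => (hL x y hy).1) (fun {x y} hx => (hL y x hx).2)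
    have hJmem : ∀ M, M ∈ J ↔ M ∈ S := fun M => TwoSidedIdeal.mem_mk' ..
    have hJ : J ≠ ⊥ := by
      intro e
      apply hI
      refine le_antisymm (fun a ha => ?_) bot_le
      have : (a : Matrix ι ι F) ∈ J := (hJmem _).2 (Submodule.subset_span ⟨a, ha, rfl⟩)
      rw [e, TwoSidedIdeal.mem_bot] at this
      rw [TwoSidedIdeal.mem_bot]
      exact Subtype.ext this
    have htop : J = ⊤ := (eq_bot_or_eq_top J).resolve_left hJ
    have h1 : (1 : Matrix ι ι F) ∈ S := (hJmem 1).1 (by rw [htop]; trivial)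
    obtain ⟨n, c, a, hca⟩ := Submodule.mem_span_set'.1 h1
    choose a' ha' haa using fun i => (a i).2
    have : (1 : A₀) ∈ I := by
      rw [hproj n c a' 1 (by simp only [haa]; exact hca.symm)]
      refine TwoSidedIdeal.finsetSum_mem I _ _ fun i _ => ?_
      rw [Algebra.smul_def]
      exact I.mul_mem_left _ _ (ha' i)
    rw [eq_top_iff]
    intro a _
    rw [← mul_one a]
    exact I.mul_mem_left _ _ this
  have : Module.Finite F₀ A₀ := Module.Finite.of_finite
  have : IsArtinianRing A₀ := IsArtinianRing.of_finite F₀ A₀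
  obtain ⟨d, hd, D, _, _, _, ⟨Φ⟩⟩ := IsSimpleRing.exists_algEquiv_matrix_divisionRing_finite F₀ A₀
  have : Finite D := Module.finite_of_finite F₀
  have hDcomm : ∀ a b : D, a * b = b * a := by
    let _ : Field D := littleWedderburn D
    exact fun a b => mul_comm a b
  have hD : Function.Surjective (algebraMap F₀ D) := by
    intro s
    let M : A₀ := Φ.symm (Matrix.scalar (Fin d) s)
    have hc : ∀ a : A₀, M * a = a * M := by
      intro a
      apply Φ.injective
      rw [map_mul, map_mul, Φ.apply_symm_apply]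
      exact (Matrix.scalar_commute s (fun r => hDcomm s r) (Φ a)).eq
    have hMs : ∀ N : Matrix ι ι F, (M : Matrix ι ι F) * N = N * (M : Matrix ι ι F) := by
      intro N
      obtain ⟨c, rfl⟩ := hspan N
      rw [Finset.mul_sum, Finset.sum_mul]
      refine Finset.sum_congr rfl fun x _ => ?_
      rw [mul_smul_comm, smul_mul_assoc]
      exact congrArg _ (congrArg Subtype.val (hc ⟨T x, Submodule.subset_span ⟨x, rfl⟩⟩))
    obtain ⟨r, hr⟩ := Matrix.mem_range_scalar_of_commute_single (M := (M : Matrix ι ι F))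
      (fun i j _ => (hMs _).symm)
    have hr' : (M : Matrix ι ι F) = r • (1 : Matrix ι ι F) := by
      rw [← hr]; simp [Matrix.smul_one_eq_diagonal]
    have hM1 : M = π r • (1 : A₀) := by
      have := hproj 1 (fun _ => r) (fun _ => (1 : A₀)) M (by simpa using hr')
      simpa using this
    refine ⟨π r, ?_⟩
    have := congrArg Φ hM1
    rw [Φ.apply_symm_apply, map_smul, map_one] at this
    have h00 := congrArg (fun N : Matrix (Fin d) (Fin d) D => N ⟨0, Nat.pos_of_ne_zero hd.out⟩ ⟨0, Nat.pos_of_ne_zero hd.out⟩) this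
    simp only [Matrix.scalar_apply, Matrix.diagonal_apply_eq, Matrix.smul_apply, Matrix.one_apply_eq] at h00
    rw [h00, Algebra.algebraMap_eq_smul_one]
  let f : Fin d → Fin d → Matrix ι ι F := fun i j => (Φ.symm (Matrix.single i j (1 : D)) : Matrix ι ι F)
  have hf : IsMatrixUnits f := by
    constructor
    · intro a b c e
      show (Φ.symm _ : Matrix ι ι F) * (Φ.symm _ : Matrix ι ι F) = _
      rw [← MulMemClass.coe_mul, ← map_mul]
      split_ifs with h
      · subst h; rw [Matrix.single_mul_single_same, one_mul]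
      · rw [Matrix.single_mul_single_of_ne (i := a) (j := b) (k := c) 1 h, map_zero]; rfl
    · show ∑ a, (Φ.symm (Matrix.single a a (1 : D)) : Matrix ι ι F) = 1
      rw [← AddSubmonoidClass.coe_finsetSum, ← map_sum, Matrix.sum_single_one, map_one]; rfl
  have : Nonempty (Fin d) := ⟨⟨0, Nat.pos_of_ne_zero hd.out⟩⟩
  obtain ⟨t, e, P, hP⟩ := exists_frame hf
  have hTf : ∀ a : A₀, ∃ m : Matrix (Fin d) (Fin d) F₀, (a : Matrix ι ι F) = ∑ i, ∑ j, (m i j : F) • f i j := by
    intro a
    choose m hm using fun i j => hD (Φ a i j)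
    refine ⟨Matrix.of m, ?_⟩
    have ha : a = ∑ i, ∑ j, m i j • Φ.symm (Matrix.single i j (1 : D)) := by
      apply Φ.injective
      simp only [map_sum, map_smul, AlgEquiv.apply_symm_apply]
      conv_lhs => rw [Matrix.matrix_eq_sum_single (Φ a)]
      refine Finset.sum_congr rfl fun i _ => Finset.sum_congr rfl fun j _ => ?_
      rw [Matrix.smul_single, ← hm i j, Algebra.algebraMap_eq_smul_one]
    conv_lhs => rw [ha]
    simp only [AddSubmonoidClass.coe_finsetSum]
    rfl
  have ht : t = 1 := by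
    refine frame_size_one e P fun M => ?_
    obtain ⟨c, rfl⟩ := hspan M
    choose m hm using fun x => hTf ⟨T x, Submodule.subset_span ⟨x, rfl⟩⟩
    refine ⟨∑ x, ∑ i, ∑ j, (c x * (m x i j : F)) • Matrix.single i j (1 : F), ?_⟩
    rw [← tensL_apply, map_sum, Finset.mul_sum, Finset.sum_mul]
    refine Finset.sum_congr rfl fun x _ => ?_
    rw [show T x = ∑ i, ∑ j, (m x i j : F) • f i j from hm x, Finset.smul_sum, map_sum,
      Finset.mul_sum, Finset.sum_mul]
    refine Finset.sum_congr rfl fun i _ => ?_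
    rw [Finset.smul_sum, map_sum, Finset.mul_sum, Finset.sum_mul]
    refine Finset.sum_congr rfl fun j _ => ?_
    rw [map_smul, mul_smul_comm, smul_mul_assoc, tensL_apply, ← hP, mul_smul]
  subst ht
  refine ⟨P⁻¹, fun x i j => ?_⟩
  obtain ⟨m, hm⟩ := hTf ⟨T x, Submodule.subset_span ⟨x, rfl⟩⟩
  rw [inv_inv, show T x = _ from hm]
  have h2 : ((P⁻¹ : GL ι F) : Matrix ι ι F) * (∑ a, ∑ b, (m a b : F) • f a b) * (P : Matrix ι ι F) =
      ∑ a, ∑ b, (m a b : F) • tens e (Matrix.single a b 1) (1 : Matrix (Fin 1) (Fin 1) F) := by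
    rw [Finset.mul_sum, Finset.sum_mul]
    refine Finset.sum_congr rfl fun a _ => ?_
    rw [Finset.mul_sum, Finset.sum_mul]
    refine Finset.sum_congr rfl fun b _ => ?_
    rw [mul_smul_comm, smul_mul_assoc, hP]
    simp only [← mul_assoc]
    rw [← Units.val_mul, inv_mul_cancel, Units.val_one, one_mul, mul_assoc, ← Units.val_mul,
      inv_mul_cancel, Units.val_one, mul_one]
  rw [h2, Matrix.sum_apply]
  refine Subfield.sum_mem _ fun a _ => ?_
  rw [Matrix.sum_apply]
  refine Subfield.sum_mem _ fun b _ => ?_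
  rw [Matrix.smul_apply, smul_eq_mul, tens_apply]
  refine F₀.mul_mem (m a b).2 (F₀.mul_mem ?_ ?_)
  · rw [Matrix.single_apply]; split_ifs <;> simp [F₀.one_mem, F₀.zero_mem]
  · rw [Matrix.one_apply]; split_ifs <;> simp [F₀.one_mem, F₀.zero_mem]

/-- A basis of the matrix algebra with structure constants in F₀ can be written over F₀. -/
theorem exists_realisation [Fintype F] [Nonempty ι] (F₀ : Subfield F) {X : Type} [Fintype X]
    (T : X → Matrix ι ι F) (hspan : ∀ M : Matrix ι ι F, ∃ c : X → F, M = ∑ x, c x • T x)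
    (hind : LinearIndependent F T)
    (hmul : ∀ x y, ∃ c ∈ F₀, ∃ z, T x * T y = c • T z) (hone : ∃ c ∈ F₀, ∃ z, (1 : Matrix ι ι F) = c • T z) :
    ∃ B : GL ι F, ∀ x, EntriesIn F₀ ((B : Matrix ι ι F) * T x * ((B⁻¹ : GL ι F) : Matrix ι ι F)) := by
  have h : ∀ c ∈ F₀, ∀ z, c • T z ∈ Submodule.span F₀ (Set.range T) := fun c hc z =>
    Submodule.smul_mem _ (⟨c, hc⟩ : F₀) (Submodule.subset_span ⟨z, rfl⟩)
  refine exists_realisation_span F₀ T hspan hind (fun x y => ?_) ?_
  · obtain ⟨c, hc, z, hz⟩ := hmul x y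
    exact hz ▸ h c hc z
  · obtain ⟨c, hc, z, hz⟩ := hone
    exact hz ▸ h c hc z

end Cfsg.Agent.H99.Asch
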